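import Cfsg.Agent.H0.OCo1.D0
import Cfsg.Agent.H0.OCo1.D1
import Cfsg.Agent.H0.OCo1.D2
import Cfsg.Agent.H0.OCo1.D3
import Cfsg.Agent.H0.OCo1.D4
import Cfsg.Agent.H0.OCo1.D5
import Cfsg.Agent.H0.OCo1.D6
import Cfsg.Agent.H0.OCo1.D7
import Cfsg.Agent.H0.OutA
import Cfsg.Agent.H6.MCo1.D
set_option maxRecDepth 100000
set_option Elab.async false
set_option linter.unusedSectionVars false
namespace H0.OCo1
open H0 BN 
noncomputable def n13 : Net := (Net.cons (nat_lit 65536) n13m0 (Net.cons (nat_lit 32768) n13m1 (Net.cons (nat_lit 16384) n13m2 (Net.cons (nat_lit 8192) n13m3 (Net.cons (nat_lit 4096) n13m4 (Net.cons (nat_lit 2048) n13m5 (Net.cons (nat_lit 1024) n13m6 (Net.cons (nat_lit 512) n13m7 (Net.cons (nat_lit 256) n13m8 (Net.cons (nat_lit 128) n13m9 (Net.cons (nat_lit 64) n13m10 (Net.cons (nat_lit 32) n13m11 (Net.cons (nat_lit 16) n13m12 (Net.cons (nat_lit 8) n13m13 (Net.cons (nat_lit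 4) n13m14 (Net.cons (nat_lit 2) n13m15 (Net.cons (nat_lit 1) n13m16 (Net.cons (nat_lit 2) n13m17 (Net.cons (nat_lit 4) n13m18 (Net.cons (nat_lit 8) n13m19 (Net.cons (nat_lit 16) n13m20 (Net.cons (nat_lit 32) n13m21 (Net.cons (nat_lit 64) n13m22 (Net.cons (nat_lit 128) n13m23 (Net.cons (nat_lit 256) n13m24 (Net.cons (nat_lit 512) n13m25 (Net.cons (nat_lit 1024) n13m26 (Net.cons (nat_lit 2048) n13m27 (Net.cons (nat_lit 4096) n13m28 (Net.cons (nat_lit 8192) n13m29 (Net.cons (nat_lit 16384) n13m30 (Net.cons (nat_lit 32768) n13m31 (Net.cons (nat_lit 65536) n13m32 Net.nil)))))))))))))))))))))))))))))))))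
noncomputable def n14 : Net := (Net.cons (nat_lit 65536) n14m0 (Net.cons (nat_lit 32768) n14m1 (Net.cons (nat_lit 16384) n14m2 (Net.cons (nat_lit 8192) n14m3 (Net.cons (nat_lit 4096) n14m4 (Net.cons (nat_lit 2048) n14m5 (Net.cons (nat_lit 1024) n14m6 (Net.cons (nat_lit 512) n14m7 (Net.cons (nat_lit 256) n14m8 (Net.cons (nat_lit 128) n14m9 (Net.cons (nat_lit 64) n14m10 (Net.cons (nat_lit 32) n14m11 (Net.cons (nat_lit 16) n14m12 (Net.cons (nat_lit 8) n14m13 (Net.cons (nat_lit 4) n14m14 (Net.cons (nat_lit 2) n14m15 (Net.cons (nat_lit 1) n14m16 (Net.cons (nat_lit 2) n14m17 (Net.cons (nat_lit 4) n14m18 (Net.cons (nat_lit 8) n14m19 (Net.cons (nat_lit 16) n14m20 (Net.cons (nat_lit 32) n14m21 (Net.cons (nat_lit 64) n14m22 (Net.cons (nat_lit 128) n14m23 (Net.cons (nat_lit 256) n14m24 (Net.cons (nat_lit 512) n14m25 (Net.cons (nat_lit 1024) n14m26 (Net.cons (nat_lit 2048) n14m27 (Net.cons (nat_lit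 4096) n14m28 (Net.cons (nat_lit 8192) n14m29 (Net.cons (nat_lit 16384) n14m30 (Net.cons (nat_lit 32768) n14m31 (Net.cons (nat_lit 65536) n14m32 Net.nil)))))))))))))))))))))))))))))))))
noncomputable def n15 : Net := (Net.cons (nat_lit 65536) n15m0 (Net.cons (nat_lit 32768) n15m1 (Net.cons (nat_lit 16384) n15m2 (Net.cons (nat_lit 8192) n15m3 (Net.cons (nat_lit 4096) n15m4 (Net.cons (nat_lit 2048) n15m5 (Net.cons (nat_lit 1024) n15m6 (Net.cons (nat_lit 512) n15m7 (Net.cons (nat_lit 256) n15m8 (Net.cons (nat_lit 128) n15m9 (Net.cons (nat_lit 64) n15m10 (Net.cons (nat_lit 32) n15m11 (Net.cons (nat_lit 16) n15m12 (Net.cons (nat_lit 8) n15m13 (Net.cons (nat_lit 4) n15m14 (Net.cons (nat_lit 2) n15m15 (Net.cons (nat_lit 1) n15m16 (Net.cons (nat_lit 2) n15m17 (Net.cons (nat_lit 4) n15m18 (Net.cons (nat_lit 8) n15m19 (Net.cons (nat_lit 16) n15m20 (Net.cons (nat_lit 32) n15m21 (Net.cons (nat_lit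 64) n15m22 (Net.cons (nat_lit 128) n15m23 (Net.cons (nat_lit 256) n15m24 (Net.cons (nat_lit 512) n15m25 (Net.cons (nat_lit 1024) n15m26 (Net.cons (nat_lit 2048) n15m27 (Net.cons (nat_lit 4096) n15m28 (Net.cons (nat_lit 8192) n15m29 (Net.cons (nat_lit 16384) n15m30 (Net.cons (nat_lit 32768) n15m31 (Net.cons (nat_lit 65536) n15m32 Net.nil)))))))))))))))))))))))))))))))))
noncomputable def n16 : Net := (Net.cons (nat_lit 65536) n16m0 (Net.cons (nat_lit 32768) n16m1 (Net.cons (nat_lit 16384) n16m2 (Net.cons (nat_lit 8192) n16m3 (Net.cons (nat_lit 4096) n16m4 (Net.cons (nat_lit 2048) n16m5 (Net.cons (nat_lit 1024) n16m6 (Net.cons (nat_lit 512) n16m7 (Net.cons (nat_lit 256) n16m8 (Net.cons (nat_lit 128) n16m9 (Net.cons (nat_lit 64) n16m10 (Net.cons (nat_lit 32) n16m11 (Net.cons (nat_lit 16) n16m12 (Net.cons (nat_lit 8) n16m13 (Net.cons (nat_lit 4) n16m14 (Net.cons (nat_lit 2) n16m15 (Net.cons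 (nat_lit 1) n16m16 (Net.cons (nat_lit 2) n16m17 (Net.cons (nat_lit 4) n16m18 (Net.cons (nat_lit 8) n16m19 (Net.cons (nat_lit 16) n16m20 (Net.cons (nat_lit 32) n16m21 (Net.cons (nat_lit 64) n16m22 (Net.cons (nat_lit 128) n16m23 (Net.cons (nat_lit 256) n16m24 (Net.cons (nat_lit 512) n16m25 (Net.cons (nat_lit 1024) n16m26 (Net.cons (nat_lit 2048) n16m27 (Net.cons (nat_lit 4096) n16m28 (Net.cons (nat_lit 8192) n16m29 (Net.cons (nat_lit 16384) n16m30 (Net.cons (nat_lit 32768) n16m31 (Net.cons (nat_lit 65536) n16m32 Net.nil)))))))))))))))))))))))))))))))))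
noncomputable def n17 : Net := (Net.cons (nat_lit 65536) n17m0 (Net.cons (nat_lit 32768) n17m1 (Net.cons (nat_lit 16384) n17m2 (Net.cons (nat_lit 8192) n17m3 (Net.cons (nat_lit 4096) n17m4 (Net.cons (nat_lit 2048) n17m5 (Net.cons (nat_lit 1024) n17m6 (Net.cons (nat_lit 512) n17m7 (Net.cons (nat_lit 256) n17m8 (Net.cons (nat_lit 128) n17m9 (Net.cons (nat_lit 64) n17m10 (Net.cons (nat_lit 32) n17m11 (Net.cons (nat_lit 16) n17m12 (Net.cons (nat_lit 8) n17m13 (Net.cons (nat_lit 4) n17m14 (Net.cons (nat_lit 2) n17m15 (Net.cons (nat_lit 1) n17m16 (Net.cons (nat_lit 2) n17m17 (Net.cons (nat_lit 4) n17m18 (Net.cons (nat_lit 8) n17m19 (Net.cons (nat_lit 16) n17m20 (Net.cons (nat_lit 32) n17m21 (Net.cons (nat_lit 64) n17m22 (Net.cons (nat_lit 128) n17m23 (Net.cons (nat_lit 256) n17m24 (Net.cons (nat_lit 512) n17m25 (Net.cons (nat_lit 1024) n17m26 (Net.cons (nat_lit 2048) n17m27 (Net.cons (nat_lit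 4096) n17m28 (Net.cons (nat_lit 8192) n17m29 (Net.cons (nat_lit 16384) n17m30 (Net.cons (nat_lit 32768) n17m31 (Net.cons (nat_lit 65536) n17m32 Net.nil)))))))))))))))))))))))))))))))))
noncomputable def n18 : Net := (Net.cons (nat_lit 65536) n18m0 (Net.cons (nat_lit 32768) n18m1 (Net.cons (nat_lit 16384) n18m2 (Net.cons (nat_lit 8192) n18m3 (Net.cons (nat_lit 4096) n18m4 (Net.cons (nat_lit 2048) n18m5 (Net.cons (nat_lit 1024) n18m6 (Net.cons (nat_lit 512) n18m7 (Net.cons (nat_lit 256) n18m8 (Net.cons (nat_lit 128) n18m9 (Net.cons (nat_lit 64) n18m10 (Net.cons (nat_lit 32) n18m11 (Net.cons (nat_lit 16) n18m12 (Net.cons (nat_lit 8) n18m13 (Net.cons (nat_lit 4) n18m14 (Net.cons (nat_lit 2) n18m15 (Net.cons (nat_lit 1) n18m16 (Net.cons (nat_lit 2) n18m17 (Net.cons (nat_lit 4) n18m18 (Net.cons (nat_lit 8) n18m19 (Net.cons (nat_lit 16) n18m20 (Net.cons (nat_lit 32) n18m21 (Net.cons (nat_lit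 64) n18m22 (Net.cons (nat_lit 128) n18m23 (Net.cons (nat_lit 256) n18m24 (Net.cons (nat_lit 512) n18m25 (Net.cons (nat_lit 1024) n18m26 (Net.cons (nat_lit 2048) n18m27 (Net.cons (nat_lit 4096) n18m28 (Net.cons (nat_lit 8192) n18m29 (Net.cons (nat_lit 16384) n18m30 (Net.cons (nat_lit 32768) n18m31 (Net.cons (nat_lit 65536) n18m32 Net.nil)))))))))))))))))))))))))))))))))
noncomputable def n19 : Net := (Net.cons (nat_lit 65536) n19m0 (Net.cons (nat_lit 32768) n19m1 (Net.cons (nat_lit 16384) n19m2 (Net.cons (nat_lit 8192) n19m3 (Net.cons (nat_lit 4096) n19m4 (Net.cons (nat_lit 2048) n19m5 (Net.cons (nat_lit 1024) n19m6 (Net.cons (nat_lit 512) n19m7 (Net.cons (nat_lit 256) n19m8 (Net.cons (nat_lit 128) n19m9 (Net.cons (nat_lit 64) n19m10 (Net.cons (nat_lit 32) n19m11 (Net.cons (nat_lit 16) n19m12 (Net.cons (nat_lit 8) n19m13 (Net.cons (nat_lit 4) n19m14 (Net.cons (nat_lit 2) n19m15 (Net.cons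 (nat_lit 1) n19m16 (Net.cons (nat_lit 2) n19m17 (Net.cons (nat_lit 4) n19m18 (Net.cons (nat_lit 8) n19m19 (Net.cons (nat_lit 16) n19m20 (Net.cons (nat_lit 32) n19m21 (Net.cons (nat_lit 64) n19m22 (Net.cons (nat_lit 128) n19m23 (Net.cons (nat_lit 256) n19m24 (Net.cons (nat_lit 512) n19m25 (Net.cons (nat_lit 1024) n19m26 (Net.cons (nat_lit 2048) n19m27 (Net.cons (nat_lit 4096) n19m28 (Net.cons (nat_lit 8192) n19m29 (Net.cons (nat_lit 16384) n19m30 (Net.cons (nat_lit 32768) n19m31 (Net.cons (nat_lit 65536) n19m32 Net.nil)))))))))))))))))))))))))))))))))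
noncomputable def n20 : Net := (Net.cons (nat_lit 65536) n20m0 (Net.cons (nat_lit 32768) n20m1 (Net.cons (nat_lit 16384) n20m2 (Net.cons (nat_lit 8192) n20m3 (Net.cons (nat_lit 4096) n20m4 (Net.cons (nat_lit 2048) n20m5 (Net.cons (nat_lit 1024) n20m6 (Net.cons (nat_lit 512) n20m7 (Net.cons (nat_lit 256) n20m8 (Net.cons (nat_lit 128) n20m9 (Net.cons (nat_lit 64) n20m10 (Net.cons (nat_lit 32) n20m11 (Net.cons (nat_lit 16) n20m12 (Net.cons (nat_lit 8) n20m13 (Net.cons (nat_lit 4) n20m14 (Net.cons (nat_lit 2) n20m15 (Net.cons (nat_lit 1) n20m16 (Net.cons (nat_lit 2) n20m17 (Net.cons (nat_lit 4) n20m18 (Net.cons (nat_lit 8) n20m19 (Net.cons (nat_lit 16) n20m20 (Net.cons (nat_lit 32) n20m21 (Net.cons (nat_lit 64) n20m22 (Net.cons (nat_lit 128) n20m23 (Net.cons (nat_lit 256) n20m24 (Net.cons (nat_lit 512) n20m25 (Net.cons (nat_lit 1024) n20m26 (Net.cons (nat_lit 2048) n20m27 (Net.cons (nat_lit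 4096) n20m28 (Net.cons (nat_lit 8192) n20m29 (Net.cons (nat_lit 16384) n20m30 (Net.cons (nat_lit 32768) n20m31 (Net.cons (nat_lit 65536) n20m32 Net.nil)))))))))))))))))))))))))))))))))
noncomputable def n21 : Net := (Net.cons (nat_lit 65536) n21m0 (Net.cons (nat_lit 32768) n21m1 (Net.cons (nat_lit 16384) n21m2 (Net.cons (nat_lit 8192) n21m3 (Net.cons (nat_lit 4096) n21m4 (Net.cons (nat_lit 2048) n21m5 (Net.cons (nat_lit 1024) n21m6 (Net.cons (nat_lit 512) n21m7 (Net.cons (nat_lit 256) n21m8 (Net.cons (nat_lit 128) n21m9 (Net.cons (nat_lit 64) n21m10 (Net.cons (nat_lit 32) n21m11 (Net.cons (nat_lit 16) n21m12 (Net.cons (nat_lit 8) n21m13 (Net.cons (nat_lit 4) n21m14 (Net.cons (nat_lit 2) n21m15 (Net.cons (nat_lit 1) n21m16 (Net.cons (nat_lit 2) n21m17 (Net.cons (nat_lit 4) n21m18 (Net.cons (nat_lit 8) n21m19 (Net.cons (nat_lit 16) n21m20 (Net.cons (nat_lit 32) n21m21 (Net.cons (nat_lit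 64) n21m22 (Net.cons (nat_lit 128) n21m23 (Net.cons (nat_lit 256) n21m24 (Net.cons (nat_lit 512) n21m25 (Net.cons (nat_lit 1024) n21m26 (Net.cons (nat_lit 2048) n21m27 (Net.cons (nat_lit 4096) n21m28 (Net.cons (nat_lit 8192) n21m29 (Net.cons (nat_lit 16384) n21m30 (Net.cons (nat_lit 32768) n21m31 (Net.cons (nat_lit 65536) n21m32 Net.nil)))))))))))))))))))))))))))))))))
noncomputable def n22 : Net := (Net.cons (nat_lit 65536) n22m0 (Net.cons (nat_lit 32768) n22m1 (Net.cons (nat_lit 16384) n22m2 (Net.cons (nat_lit 8192) n22m3 (Net.cons (nat_lit 4096) n22m4 (Net.cons (nat_lit 2048) n22m5 (Net.cons (nat_lit 1024) n22m6 (Net.cons (nat_lit 512) n22m7 (Net.cons (nat_lit 256) n22m8 (Net.cons (nat_lit 128) n22m9 (Net.cons (nat_lit 64) n22m10 (Net.cons (nat_lit 32) n22m11 (Net.cons (nat_lit 16) n22m12 (Net.cons (nat_lit 8) n22m13 (Net.cons (nat_lit 4) n22m14 (Net.cons (nat_lit 2) n22m15 (Net.cons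 (nat_lit 1) n22m16 (Net.cons (nat_lit 2) n22m17 (Net.cons (nat_lit 4) n22m18 (Net.cons (nat_lit 8) n22m19 (Net.cons (nat_lit 16) n22m20 (Net.cons (nat_lit 32) n22m21 (Net.cons (nat_lit 64) n22m22 (Net.cons (nat_lit 128) n22m23 (Net.cons (nat_lit 256) n22m24 (Net.cons (nat_lit 512) n22m25 (Net.cons (nat_lit 1024) n22m26 (Net.cons (nat_lit 2048) n22m27 (Net.cons (nat_lit 4096) n22m28 (Net.cons (nat_lit 8192) n22m29 (Net.cons (nat_lit 16384) n22m30 (Net.cons (nat_lit 32768) n22m31 (Net.cons (nat_lit 65536) n22m32 Net.nil)))))))))))))))))))))))))))))))))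
noncomputable def n23 : Net := (Net.cons (nat_lit 65536) n23m0 (Net.cons (nat_lit 32768) n23m1 (Net.cons (nat_lit 16384) n23m2 (Net.cons (nat_lit 8192) n23m3 (Net.cons (nat_lit 4096) n23m4 (Net.cons (nat_lit 2048) n23m5 (Net.cons (nat_lit 1024) n23m6 (Net.cons (nat_lit 512) n23m7 (Net.cons (nat_lit 256) n23m8 (Net.cons (nat_lit 128) n23m9 (Net.cons (nat_lit 64) n23m10 (Net.cons (nat_lit 32) n23m11 (Net.cons (nat_lit 16) n23m12 (Net.cons (nat_lit 8) n23m13 (Net.cons (nat_lit 4) n23m14 (Net.cons (nat_lit 2) n23m15 (Net.cons (nat_lit 1) n23m16 (Net.cons (nat_lit 2) n23m17 (Net.cons (nat_lit 4) n23m18 (Net.cons (nat_lit 8) n23m19 (Net.cons (nat_lit 16) n23m20 (Net.cons (nat_lit 32) n23m21 (Net.cons (nat_lit 64) n23m22 (Net.cons (nat_lit 128) n23m23 (Net.cons (nat_lit 256) n23m24 (Net.cons (nat_lit 512) n23m25 (Net.cons (nat_lit 1024) n23m26 (Net.cons (nat_lit 2048) n23m27 (Net.cons (nat_lit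 4096) n23m28 (Net.cons (nat_lit 8192) n23m29 (Net.cons (nat_lit 16384) n23m30 (Net.cons (nat_lit 32768) n23m31 (Net.cons (nat_lit 65536) n23m32 Net.nil)))))))))))))))))))))))))))))))))
noncomputable def n24 : Net := (Net.cons (nat_lit 65536) n24m0 (Net.cons (nat_lit 32768) n24m1 (Net.cons (nat_lit 16384) n24m2 (Net.cons (nat_lit 8192) n24m3 (Net.cons (nat_lit 4096) n24m4 (Net.cons (nat_lit 2048) n24m5 (Net.cons (nat_lit 1024) n24m6 (Net.cons (nat_lit 512) n24m7 (Net.cons (nat_lit 256) n24m8 (Net.cons (nat_lit 128) n24m9 (Net.cons (nat_lit 64) n24m10 (Net.cons (nat_lit 32) n24m11 (Net.cons (nat_lit 16) n24m12 (Net.cons (nat_lit 8) n24m13 (Net.cons (nat_lit 4) n24m14 (Net.cons (nat_lit 2) n24m15 (Net.cons (nat_lit 1) n24m16 (Net.cons (nat_lit 2) n24m17 (Net.cons (nat_lit 4) n24m18 (Net.cons (nat_lit 8) n24m19 (Net.cons (nat_lit 16) n24m20 (Net.cons (nat_lit 32) n24m21 (Net.cons (nat_lit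 64) n24m22 (Net.cons (nat_lit 128) n24m23 (Net.cons (nat_lit 256) n24m24 (Net.cons (nat_lit 512) n24m25 (Net.cons (nat_lit 1024) n24m26 (Net.cons (nat_lit 2048) n24m27 (Net.cons (nat_lit 4096) n24m28 (Net.cons (nat_lit 8192) n24m29 (Net.cons (nat_lit 16384) n24m30 (Net.cons (nat_lit 32768) n24m31 (Net.cons (nat_lit 65536) n24m32 Net.nil)))))))))))))))))))))))))))))))))
noncomputable def n25 : Net := (Net.cons (nat_lit 65536) n25m0 (Net.cons (nat_lit 32768) n25m1 (Net.cons (nat_lit 16384) n25m2 (Net.cons (nat_lit 8192) n25m3 (Net.cons (nat_lit 4096) n25m4 (Net.cons (nat_lit 2048) n25m5 (Net.cons (nat_lit 1024) n25m6 (Net.cons (nat_lit 512) n25m7 (Net.cons (nat_lit 256) n25m8 (Net.cons (nat_lit 128) n25m9 (Net.cons (nat_lit 64) n25m10 (Net.cons (nat_lit 32) n25m11 (Net.cons (nat_lit 16) n25m12 (Net.cons (nat_lit 8) n25m13 (Net.cons (nat_lit 4) n25m14 (Net.cons (nat_lit 2) n25m15 (Net.cons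 (nat_lit 1) n25m16 (Net.cons (nat_lit 2) n25m17 (Net.cons (nat_lit 4) n25m18 (Net.cons (nat_lit 8) n25m19 (Net.cons (nat_lit 16) n25m20 (Net.cons (nat_lit 32) n25m21 (Net.cons (nat_lit 64) n25m22 (Net.cons (nat_lit 128) n25m23 (Net.cons (nat_lit 256) n25m24 (Net.cons (nat_lit 512) n25m25 (Net.cons (nat_lit 1024) n25m26 (Net.cons (nat_lit 2048) n25m27 (Net.cons (nat_lit 4096) n25m28 (Net.cons (nat_lit 8192) n25m29 (Net.cons (nat_lit 16384) n25m30 (Net.cons (nat_lit 32768) n25m31 (Net.cons (nat_lit 65536) n25m32 Net.nil)))))))))))))))))))))))))))))))))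
noncomputable def n26 : Net := (Net.cons (nat_lit 65536) n26m0 (Net.cons (nat_lit 32768) n26m1 (Net.cons (nat_lit 16384) n26m2 (Net.cons (nat_lit 8192) n26m3 (Net.cons (nat_lit 4096) n26m4 (Net.cons (nat_lit 2048) n26m5 (Net.cons (nat_lit 1024) n26m6 (Net.cons (nat_lit 512) n26m7 (Net.cons (nat_lit 256) n26m8 (Net.cons (nat_lit 128) n26m9 (Net.cons (nat_lit 64) n26m10 (Net.cons (nat_lit 32) n26m11 (Net.cons (nat_lit 16) n26m12 (Net.cons (nat_lit 8) n26m13 (Net.cons (nat_lit 4) n26m14 (Net.cons (nat_lit 2) n26m15 (Net.cons (nat_lit 1) n26m16 (Net.cons (nat_lit 2) n26m17 (Net.cons (nat_lit 4) n26m18 (Net.cons (nat_lit 8) n26m19 (Net.cons (nat_lit 16) n26m20 (Net.cons (nat_lit 32) n26m21 (Net.cons (nat_lit 64) n26m22 (Net.cons (nat_lit 128) n26m23 (Net.cons (nat_lit 256) n26m24 (Net.cons (nat_lit 512) n26m25 (Net.cons (nat_lit 1024) n26m26 (Net.cons (nat_lit 2048) n26m27 (Net.cons (nat_lit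 4096) n26m28 (Net.cons (nat_lit 8192) n26m29 (Net.cons (nat_lit 16384) n26m30 (Net.cons (nat_lit 32768) n26m31 (Net.cons (nat_lit 65536) n26m32 Net.nil)))))))))))))))))))))))))))))))))
noncomputable def n27 : Net := (Net.cons (nat_lit 65536) n27m0 (Net.cons (nat_lit 32768) n27m1 (Net.cons (nat_lit 16384) n27m2 (Net.cons (nat_lit 8192) n27m3 (Net.cons (nat_lit 4096) n27m4 (Net.cons (nat_lit 2048) n27m5 (Net.cons (nat_lit 1024) n27m6 (Net.cons (nat_lit 512) n27m7 (Net.cons (nat_lit 256) n27m8 (Net.cons (nat_lit 128) n27m9 (Net.cons (nat_lit 64) n27m10 (Net.cons (nat_lit 32) n27m11 (Net.cons (nat_lit 16) n27m12 (Net.cons (nat_lit 8) n27m13 (Net.cons (nat_lit 4) n27m14 (Net.cons (nat_lit 2) n27m15 (Net.cons (nat_lit 1) n27m16 (Net.cons (nat_lit 2) n27m17 (Net.cons (nat_lit 4) n27m18 (Net.cons (nat_lit 8) n27m19 (Net.cons (nat_lit 16) n27m20 (Net.cons (nat_lit 32) n27m21 (Net.cons (nat_lit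 64) n27m22 (Net.cons (nat_lit 128) n27m23 (Net.cons (nat_lit 256) n27m24 (Net.cons (nat_lit 512) n27m25 (Net.cons (nat_lit 1024) n27m26 (Net.cons (nat_lit 2048) n27m27 (Net.cons (nat_lit 4096) n27m28 (Net.cons (nat_lit 8192) n27m29 (Net.cons (nat_lit 16384) n27m30 (Net.cons (nat_lit 32768) n27m31 (Net.cons (nat_lit 65536) n27m32 Net.nil)))))))))))))))))))))))))))))))))
noncomputable def n28 : Net := (Net.cons (nat_lit 65536) n28m0 (Net.cons (nat_lit 32768) n28m1 (Net.cons (nat_lit 16384) n28m2 (Net.cons (nat_lit 8192) n28m3 (Net.cons (nat_lit 4096) n28m4 (Net.cons (nat_lit 2048) n28m5 (Net.cons (nat_lit 1024) n28m6 (Net.cons (nat_lit 512) n28m7 (Net.cons (nat_lit 256) n28m8 (Net.cons (nat_lit 128) n28m9 (Net.cons (nat_lit 64) n28m10 (Net.cons (nat_lit 32) n28m11 (Net.cons (nat_lit 16) n28m12 (Net.cons (nat_lit 8) n28m13 (Net.cons (nat_lit 4) n28m14 (Net.cons (nat_lit 2) n28m15 (Net.cons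 (nat_lit 1) n28m16 (Net.cons (nat_lit 2) n28m17 (Net.cons (nat_lit 4) n28m18 (Net.cons (nat_lit 8) n28m19 (Net.cons (nat_lit 16) n28m20 (Net.cons (nat_lit 32) n28m21 (Net.cons (nat_lit 64) n28m22 (Net.cons (nat_lit 128) n28m23 (Net.cons (nat_lit 256) n28m24 (Net.cons (nat_lit 512) n28m25 (Net.cons (nat_lit 1024) n28m26 (Net.cons (nat_lit 2048) n28m27 (Net.cons (nat_lit 4096) n28m28 (Net.cons (nat_lit 8192) n28m29 (Net.cons (nat_lit 16384) n28m30 (Net.cons (nat_lit 32768) n28m31 (Net.cons (nat_lit 65536) n28m32 Net.nil)))))))))))))))))))))))))))))))))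
noncomputable def n29 : Net := (Net.cons (nat_lit 65536) n29m0 (Net.cons (nat_lit 32768) n29m1 (Net.cons (nat_lit 16384) n29m2 (Net.cons (nat_lit 8192) n29m3 (Net.cons (nat_lit 4096) n29m4 (Net.cons (nat_lit 2048) n29m5 (Net.cons (nat_lit 1024) n29m6 (Net.cons (nat_lit 512) n29m7 (Net.cons (nat_lit 256) n29m8 (Net.cons (nat_lit 128) n29m9 (Net.cons (nat_lit 64) n29m10 (Net.cons (nat_lit 32) n29m11 (Net.cons (nat_lit 16) n29m12 (Net.cons (nat_lit 8) n29m13 (Net.cons (nat_lit 4) n29m14 (Net.cons (nat_lit 2) n29m15 (Net.cons (nat_lit 1) n29m16 (Net.cons (nat_lit 2) n29m17 (Net.cons (nat_lit 4) n29m18 (Net.cons (nat_lit 8) n29m19 (Net.cons (nat_lit 16) n29m20 (Net.cons (nat_lit 32) n29m21 (Net.cons (nat_lit 64) n29m22 (Net.cons (nat_lit 128) n29m23 (Net.cons (nat_lit 256) n29m24 (Net.cons (nat_lit 512) n29m25 (Net.cons (nat_lit 1024) n29m26 (Net.cons (nat_lit 2048) n29m27 (Net.cons (nat_lit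 4096) n29m28 (Net.cons (nat_lit 8192) n29m29 (Net.cons (nat_lit 16384) n29m30 (Net.cons (nat_lit 32768) n29m31 (Net.cons (nat_lit 65536) n29m32 Net.nil)))))))))))))))))))))))))))))))))
noncomputable def n30 : Net := (Net.cons (nat_lit 65536) n30m0 (Net.cons (nat_lit 32768) n30m1 (Net.cons (nat_lit 16384) n30m2 (Net.cons (nat_lit 8192) n30m3 (Net.cons (nat_lit 4096) n30m4 (Net.cons (nat_lit 2048) n30m5 (Net.cons (nat_lit 1024) n30m6 (Net.cons (nat_lit 512) n30m7 (Net.cons (nat_lit 256) n30m8 (Net.cons (nat_lit 128) n30m9 (Net.cons (nat_lit 64) n30m10 (Net.cons (nat_lit 32) n30m11 (Net.cons (nat_lit 16) n30m12 (Net.cons (nat_lit 8) n30m13 (Net.cons (nat_lit 4) n30m14 (Net.cons (nat_lit 2) n30m15 (Net.cons (nat_lit 1) n30m16 (Net.cons (nat_lit 2) n30m17 (Net.cons (nat_lit 4) n30m18 (Net.cons (nat_lit 8) n30m19 (Net.cons (nat_lit 16) n30m20 (Net.cons (nat_lit 32) n30m21 (Net.cons (nat_lit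 64) n30m22 (Net.cons (nat_lit 128) n30m23 (Net.cons (nat_lit 256) n30m24 (Net.cons (nat_lit 512) n30m25 (Net.cons (nat_lit 1024) n30m26 (Net.cons (nat_lit 2048) n30m27 (Net.cons (nat_lit 4096) n30m28 (Net.cons (nat_lit 8192) n30m29 (Net.cons (nat_lit 16384) n30m30 (Net.cons (nat_lit 32768) n30m31 (Net.cons (nat_lit 65536) n30m32 Net.nil)))))))))))))))))))))))))))))))))
noncomputable def n31 : Net := (Net.cons (nat_lit 65536) n31m0 (Net.cons (nat_lit 32768) n31m1 (Net.cons (nat_lit 16384) n31m2 (Net.cons (nat_lit 8192) n31m3 (Net.cons (nat_lit 4096) n31m4 (Net.cons (nat_lit 2048) n31m5 (Net.cons (nat_lit 1024) n31m6 (Net.cons (nat_lit 512) n31m7 (Net.cons (nat_lit 256) n31m8 (Net.cons (nat_lit 128) n31m9 (Net.cons (nat_lit 64) n31m10 (Net.cons (nat_lit 32) n31m11 (Net.cons (nat_lit 16) n31m12 (Net.cons (nat_lit 8) n31m13 (Net.cons (nat_lit 4) n31m14 (Net.cons (nat_lit 2) n31m15 (Net.cons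 (nat_lit 1) n31m16 (Net.cons (nat_lit 2) n31m17 (Net.cons (nat_lit 4) n31m18 (Net.cons (nat_lit 8) n31m19 (Net.cons (nat_lit 16) n31m20 (Net.cons (nat_lit 32) n31m21 (Net.cons (nat_lit 64) n31m22 (Net.cons (nat_lit 128) n31m23 (Net.cons (nat_lit 256) n31m24 (Net.cons (nat_lit 512) n31m25 (Net.cons (nat_lit 1024) n31m26 (Net.cons (nat_lit 2048) n31m27 (Net.cons (nat_lit 4096) n31m28 (Net.cons (nat_lit 8192) n31m29 (Net.cons (nat_lit 16384) n31m30 (Net.cons (nat_lit 32768) n31m31 (Net.cons (nat_lit 65536) n31m32 Net.nil)))))))))))))))))))))))))))))))))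
noncomputable def n32 : Net := (Net.cons (nat_lit 65536) n32m0 (Net.cons (nat_lit 32768) n32m1 (Net.cons (nat_lit 16384) n32m2 (Net.cons (nat_lit 8192) n32m3 (Net.cons (nat_lit 4096) n32m4 (Net.cons (nat_lit 2048) n32m5 (Net.cons (nat_lit 1024) n32m6 (Net.cons (nat_lit 512) n32m7 (Net.cons (nat_lit 256) n32m8 (Net.cons (nat_lit 128) n32m9 (Net.cons (nat_lit 64) n32m10 (Net.cons (nat_lit 32) n32m11 (Net.cons (nat_lit 16) n32m12 (Net.cons (nat_lit 8) n32m13 (Net.cons (nat_lit 4) n32m14 (Net.cons (nat_lit 2) n32m15 (Net.cons (nat_lit 1) n32m16 (Net.cons (nat_lit 2) n32m17 (Net.cons (nat_lit 4) n32m18 (Net.cons (nat_lit 8) n32m19 (Net.cons (nat_lit 16) n32m20 (Net.cons (nat_lit 32) n32m21 (Net.cons (nat_lit 64) n32m22 (Net.cons (nat_lit 128) n32m23 (Net.cons (nat_lit 256) n32m24 (Net.cons (nat_lit 512) n32m25 (Net.cons (nat_lit 1024) n32m26 (Net.cons (nat_lit 2048) n32m27 (Net.cons (nat_lit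 4096) n32m28 (Net.cons (nat_lit 8192) n32m29 (Net.cons (nat_lit 16384) n32m30 (Net.cons (nat_lit 32768) n32m31 (Net.cons (nat_lit 65536) n32m32 Net.nil)))))))))))))))))))))))))))))))))
noncomputable def n33 : Net := (Net.cons (nat_lit 65536) n33m0 (Net.cons (nat_lit 32768) n33m1 (Net.cons (nat_lit 16384) n33m2 (Net.cons (nat_lit 8192) n33m3 (Net.cons (nat_lit 4096) n33m4 (Net.cons (nat_lit 2048) n33m5 (Net.cons (nat_lit 1024) n33m6 (Net.cons (nat_lit 512) n33m7 (Net.cons (nat_lit 256) n33m8 (Net.cons (nat_lit 128) n33m9 (Net.cons (nat_lit 64) n33m10 (Net.cons (nat_lit 32) n33m11 (Net.cons (nat_lit 16) n33m12 (Net.cons (nat_lit 8) n33m13 (Net.cons (nat_lit 4) n33m14 (Net.cons (nat_lit 2) n33m15 (Net.cons (nat_lit 1) n33m16 (Net.cons (nat_lit 2) n33m17 (Net.cons (nat_lit 4) n33m18 (Net.cons (nat_lit 8) n33m19 (Net.cons (nat_lit 16) n33m20 (Net.cons (nat_lit 32) n33m21 (Net.cons (nat_lit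 64) n33m22 (Net.cons (nat_lit 128) n33m23 (Net.cons (nat_lit 256) n33m24 (Net.cons (nat_lit 512) n33m25 (Net.cons (nat_lit 1024) n33m26 (Net.cons (nat_lit 2048) n33m27 (Net.cons (nat_lit 4096) n33m28 (Net.cons (nat_lit 8192) n33m29 (Net.cons (nat_lit 16384) n33m30 (Net.cons (nat_lit 32768) n33m31 (Net.cons (nat_lit 65536) n33m32 Net.nil)))))))))))))))))))))))))))))))))
noncomputable def n34 : Net := (Net.cons (nat_lit 65536) n34m0 (Net.cons (nat_lit 32768) n34m1 (Net.cons (nat_lit 16384) n34m2 (Net.cons (nat_lit 8192) n34m3 (Net.cons (nat_lit 4096) n34m4 (Net.cons (nat_lit 2048) n34m5 (Net.cons (nat_lit 1024) n34m6 (Net.cons (nat_lit 512) n34m7 (Net.cons (nat_lit 256) n34m8 (Net.cons (nat_lit 128) n34m9 (Net.cons (nat_lit 64) n34m10 (Net.cons (nat_lit 32) n34m11 (Net.cons (nat_lit 16) n34m12 (Net.cons (nat_lit 8) n34m13 (Net.cons (nat_lit 4) n34m14 (Net.cons (nat_lit 2) n34m15 (Net.cons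 (nat_lit 1) n34m16 (Net.cons (nat_lit 2) n34m17 (Net.cons (nat_lit 4) n34m18 (Net.cons (nat_lit 8) n34m19 (Net.cons (nat_lit 16) n34m20 (Net.cons (nat_lit 32) n34m21 (Net.cons (nat_lit 64) n34m22 (Net.cons (nat_lit 128) n34m23 (Net.cons (nat_lit 256) n34m24 (Net.cons (nat_lit 512) n34m25 (Net.cons (nat_lit 1024) n34m26 (Net.cons (nat_lit 2048) n34m27 (Net.cons (nat_lit 4096) n34m28 (Net.cons (nat_lit 8192) n34m29 (Net.cons (nat_lit 16384) n34m30 (Net.cons (nat_lit 32768) n34m31 (Net.cons (nat_lit 65536) n34m32 Net.nil)))))))))))))))))))))))))))))))))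
noncomputable def n35 : Net := (Net.cons (nat_lit 65536) n35m0 (Net.cons (nat_lit 32768) n35m1 (Net.cons (nat_lit 16384) n35m2 (Net.cons (nat_lit 8192) n35m3 (Net.cons (nat_lit 4096) n35m4 (Net.cons (nat_lit 2048) n35m5 (Net.cons (nat_lit 1024) n35m6 (Net.cons (nat_lit 512) n35m7 (Net.cons (nat_lit 256) n35m8 (Net.cons (nat_lit 128) n35m9 (Net.cons (nat_lit 64) n35m10 (Net.cons (nat_lit 32) n35m11 (Net.cons (nat_lit 16) n35m12 (Net.cons (nat_lit 8) n35m13 (Net.cons (nat_lit 4) n35m14 (Net.cons (nat_lit 2) n35m15 (Net.cons (nat_lit 1) n35m16 (Net.cons (nat_lit 2) n35m17 (Net.cons (nat_lit 4) n35m18 (Net.cons (nat_lit 8) n35m19 (Net.cons (nat_lit 16) n35m20 (Net.cons (nat_lit 32) n35m21 (Net.cons (nat_lit 64) n35m22 (Net.cons (nat_lit 128) n35m23 (Net.cons (nat_lit 256) n35m24 (Net.cons (nat_lit 512) n35m25 (Net.cons (nat_lit 1024) n35m26 (Net.cons (nat_lit 2048) n35m27 (Net.cons (nat_lit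 4096) n35m28 (Net.cons (nat_lit 8192) n35m29 (Net.cons (nat_lit 16384) n35m30 (Net.cons (nat_lit 32768) n35m31 (Net.cons (nat_lit 65536) n35m32 Net.nil)))))))))))))))))))))))))))))))))
noncomputable def n36 : Net := (Net.cons (nat_lit 65536) n36m0 (Net.cons (nat_lit 32768) n36m1 (Net.cons (nat_lit 16384) n36m2 (Net.cons (nat_lit 8192) n36m3 (Net.cons (nat_lit 4096) n36m4 (Net.cons (nat_lit 2048) n36m5 (Net.cons (nat_lit 1024) n36m6 (Net.cons (nat_lit 512) n36m7 (Net.cons (nat_lit 256) n36m8 (Net.cons (nat_lit 128) n36m9 (Net.cons (nat_lit 64) n36m10 (Net.cons (nat_lit 32) n36m11 (Net.cons (nat_lit 16) n36m12 (Net.cons (nat_lit 8) n36m13 (Net.cons (nat_lit 4) n36m14 (Net.cons (nat_lit 2) n36m15 (Net.cons (nat_lit 1) n36m16 (Net.cons (nat_lit 2) n36m17 (Net.cons (nat_lit 4) n36m18 (Net.cons (nat_lit 8) n36m19 (Net.cons (nat_lit 16) n36m20 (Net.cons (nat_lit 32) n36m21 (Net.cons (nat_lit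 64) n36m22 (Net.cons (nat_lit 128) n36m23 (Net.cons (nat_lit 256) n36m24 (Net.cons (nat_lit 512) n36m25 (Net.cons (nat_lit 1024) n36m26 (Net.cons (nat_lit 2048) n36m27 (Net.cons (nat_lit 4096) n36m28 (Net.cons (nat_lit 8192) n36m29 (Net.cons (nat_lit 16384) n36m30 (Net.cons (nat_lit 32768) n36m31 (Net.cons (nat_lit 65536) n36m32 Net.nil)))))))))))))))))))))))))))))))))
noncomputable def n37 : Net := (Net.cons (nat_lit 65536) n37m0 (Net.cons (nat_lit 32768) n37m1 (Net.cons (nat_lit 16384) n37m2 (Net.cons (nat_lit 8192) n37m3 (Net.cons (nat_lit 4096) n37m4 (Net.cons (nat_lit 2048) n37m5 (Net.cons (nat_lit 1024) n37m6 (Net.cons (nat_lit 512) n37m7 (Net.cons (nat_lit 256) n37m8 (Net.cons (nat_lit 128) n37m9 (Net.cons (nat_lit 64) n37m10 (Net.cons (nat_lit 32) n37m11 (Net.cons (nat_lit 16) n37m12 (Net.cons (nat_lit 8) n37m13 (Net.cons (nat_lit 4) n37m14 (Net.cons (nat_lit 2) n37m15 (Net.cons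 (nat_lit 1) n37m16 (Net.cons (nat_lit 2) n37m17 (Net.cons (nat_lit 4) n37m18 (Net.cons (nat_lit 8) n37m19 (Net.cons (nat_lit 16) n37m20 (Net.cons (nat_lit 32) n37m21 (Net.cons (nat_lit 64) n37m22 (Net.cons (nat_lit 128) n37m23 (Net.cons (nat_lit 256) n37m24 (Net.cons (nat_lit 512) n37m25 (Net.cons (nat_lit 1024) n37m26 (Net.cons (nat_lit 2048) n37m27 (Net.cons (nat_lit 4096) n37m28 (Net.cons (nat_lit 8192) n37m29 (Net.cons (nat_lit 16384) n37m30 (Net.cons (nat_lit 32768) n37m31 (Net.cons (nat_lit 65536) n37m32 Net.nil)))))))))))))))))))))))))))))))))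
noncomputable def n38 : Net := (Net.cons (nat_lit 65536) n38m0 (Net.cons (nat_lit 32768) n38m1 (Net.cons (nat_lit 16384) n38m2 (Net.cons (nat_lit 8192) n38m3 (Net.cons (nat_lit 4096) n38m4 (Net.cons (nat_lit 2048) n38m5 (Net.cons (nat_lit 1024) n38m6 (Net.cons (nat_lit 512) n38m7 (Net.cons (nat_lit 256) n38m8 (Net.cons (nat_lit 128) n38m9 (Net.cons (nat_lit 64) n38m10 (Net.cons (nat_lit 32) n38m11 (Net.cons (nat_lit 16) n38m12 (Net.cons (nat_lit 8) n38m13 (Net.cons (nat_lit 4) n38m14 (Net.cons (nat_lit 2) n38m15 (Net.cons (nat_lit 1) n38m16 (Net.cons (nat_lit 2) n38m17 (Net.cons (nat_lit 4) n38m18 (Net.cons (nat_lit 8) n38m19 (Net.cons (nat_lit 16) n38m20 (Net.cons (nat_lit 32) n38m21 (Net.cons (nat_lit 64) n38m22 (Net.cons (nat_lit 128) n38m23 (Net.cons (nat_lit 256) n38m24 (Net.cons (nat_lit 512) n38m25 (Net.cons (nat_lit 1024) n38m26 (Net.cons (nat_lit 2048) n38m27 (Net.cons (nat_lit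 4096) n38m28 (Net.cons (nat_lit 8192) n38m29 (Net.cons (nat_lit 16384) n38m30 (Net.cons (nat_lit 32768) n38m31 (Net.cons (nat_lit 65536) n38m32 Net.nil)))))))))))))))))))))))))))))))))
noncomputable def n39 : Net := (Net.cons (nat_lit 65536) n39m0 (Net.cons (nat_lit 32768) n39m1 (Net.cons (nat_lit 16384) n39m2 (Net.cons (nat_lit 8192) n39m3 (Net.cons (nat_lit 4096) n39m4 (Net.cons (nat_lit 2048) n39m5 (Net.cons (nat_lit 1024) n39m6 (Net.cons (nat_lit 512) n39m7 (Net.cons (nat_lit 256) n39m8 (Net.cons (nat_lit 128) n39m9 (Net.cons (nat_lit 64) n39m10 (Net.cons (nat_lit 32) n39m11 (Net.cons (nat_lit 16) n39m12 (Net.cons (nat_lit 8) n39m13 (Net.cons (nat_lit 4) n39m14 (Net.cons (nat_lit 2) n39m15 (Net.cons (nat_lit 1) n39m16 (Net.cons (nat_lit 2) n39m17 (Net.cons (nat_lit 4) n39m18 (Net.cons (nat_lit 8) n39m19 (Net.cons (nat_lit 16) n39m20 (Net.cons (nat_lit 32) n39m21 (Net.cons (nat_lit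 64) n39m22 (Net.cons (nat_lit 128) n39m23 (Net.cons (nat_lit 256) n39m24 (Net.cons (nat_lit 512) n39m25 (Net.cons (nat_lit 1024) n39m26 (Net.cons (nat_lit 2048) n39m27 (Net.cons (nat_lit 4096) n39m28 (Net.cons (nat_lit 8192) n39m29 (Net.cons (nat_lit 16384) n39m30 (Net.cons (nat_lit 32768) n39m31 (Net.cons (nat_lit 65536) n39m32 Net.nil)))))))))))))))))))))))))))))))))
noncomputable def n40 : Net := (Net.cons (nat_lit 65536) n40m0 (Net.cons (nat_lit 32768) n40m1 (Net.cons (nat_lit 16384) n40m2 (Net.cons (nat_lit 8192) n40m3 (Net.cons (nat_lit 4096) n40m4 (Net.cons (nat_lit 2048) n40m5 (Net.cons (nat_lit 1024) n40m6 (Net.cons (nat_lit 512) n40m7 (Net.cons (nat_lit 256) n40m8 (Net.cons (nat_lit 128) n40m9 (Net.cons (nat_lit 64) n40m10 (Net.cons (nat_lit 32) n40m11 (Net.cons (nat_lit 16) n40m12 (Net.cons (nat_lit 8) n40m13 (Net.cons (nat_lit 4) n40m14 (Net.cons (nat_lit 2) n40m15 (Net.cons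 (nat_lit 1) n40m16 (Net.cons (nat_lit 2) n40m17 (Net.cons (nat_lit 4) n40m18 (Net.cons (nat_lit 8) n40m19 (Net.cons (nat_lit 16) n40m20 (Net.cons (nat_lit 32) n40m21 (Net.cons (nat_lit 64) n40m22 (Net.cons (nat_lit 128) n40m23 (Net.cons (nat_lit 256) n40m24 (Net.cons (nat_lit 512) n40m25 (Net.cons (nat_lit 1024) n40m26 (Net.cons (nat_lit 2048) n40m27 (Net.cons (nat_lit 4096) n40m28 (Net.cons (nat_lit 8192) n40m29 (Net.cons (nat_lit 16384) n40m30 (Net.cons (nat_lit 32768) n40m31 (Net.cons (nat_lit 65536) n40m32 Net.nil)))))))))))))))))))))))))))))))))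
noncomputable def n41 : Net := (Net.cons (nat_lit 65536) n41m0 (Net.cons (nat_lit 32768) n41m1 (Net.cons (nat_lit 16384) n41m2 (Net.cons (nat_lit 8192) n41m3 (Net.cons (nat_lit 4096) n41m4 (Net.cons (nat_lit 2048) n41m5 (Net.cons (nat_lit 1024) n41m6 (Net.cons (nat_lit 512) n41m7 (Net.cons (nat_lit 256) n41m8 (Net.cons (nat_lit 128) n41m9 (Net.cons (nat_lit 64) n41m10 (Net.cons (nat_lit 32) n41m11 (Net.cons (nat_lit 16) n41m12 (Net.cons (nat_lit 8) n41m13 (Net.cons (nat_lit 4) n41m14 (Net.cons (nat_lit 2) n41m15 (Net.cons (nat_lit 1) n41m16 (Net.cons (nat_lit 2) n41m17 (Net.cons (nat_lit 4) n41m18 (Net.cons (nat_lit 8) n41m19 (Net.cons (nat_lit 16) n41m20 (Net.cons (nat_lit 32) n41m21 (Net.cons (nat_lit 64) n41m22 (Net.cons (nat_lit 128) n41m23 (Net.cons (nat_lit 256) n41m24 (Net.cons (nat_lit 512) n41m25 (Net.cons (nat_lit 1024) n41m26 (Net.cons (nat_lit 2048) n41m27 (Net.cons (nat_lit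 4096) n41m28 (Net.cons (nat_lit 8192) n41m29 (Net.cons (nat_lit 16384) n41m30 (Net.cons (nat_lit 32768) n41m31 (Net.cons (nat_lit 65536) n41m32 Net.nil)))))))))))))))))))))))))))))))))
noncomputable def n42 : Net := (Net.cons (nat_lit 65536) n42m0 (Net.cons (nat_lit 32768) n42m1 (Net.cons (nat_lit 16384) n42m2 (Net.cons (nat_lit 8192) n42m3 (Net.cons (nat_lit 4096) n42m4 (Net.cons (nat_lit 2048) n42m5 (Net.cons (nat_lit 1024) n42m6 (Net.cons (nat_lit 512) n42m7 (Net.cons (nat_lit 256) n42m8 (Net.cons (nat_lit 128) n42m9 (Net.cons (nat_lit 64) n42m10 (Net.cons (nat_lit 32) n42m11 (Net.cons (nat_lit 16) n42m12 (Net.cons (nat_lit 8) n42m13 (Net.cons (nat_lit 4) n42m14 (Net.cons (nat_lit 2) n42m15 (Net.cons (nat_lit 1) n42m16 (Net.cons (nat_lit 2) n42m17 (Net.cons (nat_lit 4) n42m18 (Net.cons (nat_lit 8) n42m19 (Net.cons (nat_lit 16) n42m20 (Net.cons (nat_lit 32) n42m21 (Net.cons (nat_lit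 64) n42m22 (Net.cons (nat_lit 128) n42m23 (Net.cons (nat_lit 256) n42m24 (Net.cons (nat_lit 512) n42m25 (Net.cons (nat_lit 1024) n42m26 (Net.cons (nat_lit 2048) n42m27 (Net.cons (nat_lit 4096) n42m28 (Net.cons (nat_lit 8192) n42m29 (Net.cons (nat_lit 16384) n42m30 (Net.cons (nat_lit 32768) n42m31 (Net.cons (nat_lit 65536) n42m32 Net.nil)))))))))))))))))))))))))))))))))
noncomputable def nl2 : List Net := [n13, n14, n15, n16, n17, n18, n19, n20, n21, n22, n23, n24, n25, n26, n27, n28, n29, n30, n31, n32, n33, n34, n35, n36, n37, n38, n39, n40, n41, n42]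
theorem nl2_ok : allL (Net.ok (nat_lit 131072)) nl2 = true := by decide +kernel
noncomputable def nl : List Net := [H6M.MCo1.n0, H6M.MCo1.n1, H6M.MCo1.n2, H6M.MCo1.n3, H6M.MCo1.n4, H6M.MCo1.n5, H6M.MCo1.n6, H6M.MCo1.n7, H6M.MCo1.n8, H6M.MCo1.n9, H6M.MCo1.n10, H6M.MCo1.n11, H6M.MCo1.n12, n13, n14, n15, n16, n17, n18, n19, n20, n21, n22, n23, n24, n25, n26, n27, n28, n29, n30, n31, n32, n33, n34, n35, n36, n37, n38, n39, n40, n41, n42]
theorem nl_ok : allL (Net.ok (nat_lit 131072)) nl = true := allL_append H6M.MCo1.nl_ok nl2_ok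
noncomputable def R : Rep := mkRep (nat_lit 17) (nat_lit 131072) nl (by decide +kernel) nl_ok
def defs : List (List ℕ) := [[2, 1, 0, 2, 1, 2, 1, 2, 1, 2, 0, 2, 0, 1, 0, 2, 3, 3, 3, 4, 4, 3, 3, 3, 3, 4, 3, 3, 3, 3, 4, 4, 6, 5, 6, 5, 5, 5, 6, 6, 5, 6, 5, 6, 7, 7, 7, 8, 7, 8, 8, 8, 7, 9], [1, 2, 0, 2, 1, 0, 1, 0, 1, 0, 1, 0, 2, 0, 1, 3, 3, 4, 4, 3, 3, 4, 3, 4, 4, 3, 3, 3, 4, 3, 3, 3, 6, 5, 6, 5, 6, 5, 6, 5, 5, 7, 8, 8, 8, 7, 7, 7, 7, 7, 8, 7, 7, 9, 10], [2, 0, 2, 1, 0, 2, 0, 1, 2, 0, 1, 2, 1, 2, 1, 2, 1, 3, 4, 4, 3, 3, 3, 4, 3, 4, 3, 3, 4, 3, 4, 4, 3, 4, 3, 6, 6, 6, 5, 6, 6, 5, 6, 5, 6, 5, 6, 6, 6, 7, 8, 8, 7, 8, 7, 7, 8, 9, 10], [14, 14, 14, 13], [13, 15, 13, 15], [17, 16, 16, 17, 17, 17, 16, 16, 17, 17, 16, 17, 17, 16, 16, 17, 16, 16, 17, 16, 17, 16], [17, 17, 17, 16, 17, 17, 17, 16, 17, 17, 17, 17, 17, 16, 17, 16, 17, 16, 16, 16, 17], [18, 19, 19, 19, 18, 18, 18, 19, 19, 19, 18],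 [18, 19, 19, 18, 19, 19, 18, 18, 18, 19, 18, 18, 19, 19, 18], [20, 20, 21, 21, 21, 21, 21, 20, 20, 21, 21, 20, 21, 21, 21, 20], [21, 21, 21, 20, 21, 20, 21, 20, 21, 20], [22, 22, 22, 23, 23, 22, 22], [22, 23, 23, 23, 23, 22, 23, 22, 22, 22, 23], [24, 24, 25, 25, 24, 25, 24, 25, 24, 25, 24, 25], [24, 25, 25, 24, 25, 24, 24, 24, 25], [26, 27, 26, 26, 26], [16, 16, 16, 16, 17, 17, 17, 17, 16, 17, 16, 17, 17, 17, 17, 16], [17, 17, 17, 16, 16, 16, 17, 16, 16, 16, 16, 17, 17, 16, 16, 16, 17, 16, 16], [29, 30, 30, 29, 29, 30, 30, 29, 30, 30, 29, 29, 30, 30, 30, 30, 29, 29, 29], [30, 29, 30, 29, 30, 30, 30, 29, 30, 29, 29, 30, 30, 29, 30, 29, 30, 29, 30, 29], [32, 31, 31, 31, 31, 32, 32, 31, 31, 32], [32, 32, 31, 32, 31, 31, 31, 32, 32, 32, 32, 32, 31], [34, 33, 34, 34, 34, 33, 33, 34, 33, 33, 33], [34, 33, 33, 33, 34, 34, 33, 34, 33, 33, 34], [35, 35, 36, 35, 36, 35], [35, 35, 36, 35, 35,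 36], [38, 37, 37, 38], [37, 38, 37, 37, 37, 37, 38], [1, 0, 1, 0, 2, 1, 2, 0, 1, 2, 0, 2, 1, 2, 1, 3, 4, 4, 3, 3, 4, 3, 3, 4, 3, 4, 3, 4, 3, 3, 3, 4, 3, 4, 6, 5, 5, 5, 6, 5, 6, 6, 5, 6, 6, 6, 6, 6, 8, 7, 8, 8, 7, 7, 8, 7, 7, 7, 8, 7, 7, 10, 9], [2, 0, 2, 1, 0, 2, 0, 1, 2, 0, 1, 2, 1, 2, 1, 2, 1, 3, 4, 4, 3, 3, 3, 4, 3, 4, 3, 3, 4, 3, 4, 4, 3, 4, 3, 6, 6, 6, 5, 6, 6, 5, 6, 5, 6, 5, 6, 6, 6, 7, 8, 8, 7, 8, 7, 7, 8, 9, 10]]
def xch : List Model.Lev := [(62044, [[16], [17]], 98280), (43881, [[18], [19]], 4600), (96435, [[20], [21]], 891), (59972, [[22], [23]], 512), (2814, [[24], [25]], 336), (23931, [[26], [27]], 30), (8498, [[28]], 2)]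
def xCg : List (List ℕ) := [[13]]
def xL17 : List Leaf := [([6577, 47629, 65196, 11019, 22724, 32314, 46], [18, 18, 19, 18, 18, 19, 18, 19, 18, 19, 19, 19], 1989, 0, 5, 5), ([91877, 72590, 36156, 12677, 8759, 81957, 48], [19, 18, 18, 19, 19, 19, 19, 19, 19, 19], 52227, 0, 5, 5), ([61282, 96977, 93049, 43605, 27763, 36025, 60], [19, 18, 19, 19, 18, 19, 19, 19, 18, 19], 87051, 0, 5, 5), ([7402, 36224, 59530, 40233, 20184, 51188, 67], [18, 19, 19, 19, 19, 18], 17073, 0, 5, 5), ([17067, 5143, 53186, 42118, 51407, 70781, 102], [18, 19, 19, 18, 18, 19, 18, 19, 18, 18, 19, 18], 43940, 0, 5, 5), ([9600, 94297, 29909, 30729, 61742, 53118, 105], [18, 18, 18, 18, 19, 18, 19, 19, 18, 18, 19], 76236, 0, 5, 5), ([28704, 63725, 2128, 81792, 78237, 38052, 114], [18, 18, 18, 18, 19, 19, 19, 19, 19, 19, 18, 19, 18], 72514, 0, 5, 0), ([87999, 17126, 56166, 47514, 95789, 63445, 133], [19, 19, 18, 19,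 19, 18, 19, 19, 18], 74364, 0, 5, 0)]
def xL18 : List Leaf := [([5815, 67907, 18841, 54369, 43939, 16847, 162], [19, 19, 18, 19, 18, 18, 19, 19, 18, 19, 19], 88814, 1, 5, 3), ([80107, 74230, 63912, 6330, 40316, 37551, 177], [19, 19, 19, 18, 19, 18, 19, 18, 18, 19, 19, 18], 67167, 0, 5, 5), ([33366, 45846, 61447, 65054, 70266, 52046, 187], [18, 19, 19, 19, 18, 19, 18, 19, 18, 18, 18], 10400, 1, 5, 4), ([53931, 47600, 67438, 11211, 52199, 41063, 191], [18, 19, 18, 18, 19, 18, 19, 19, 18, 19, 18, 19, 18], 77661, 0, 5, 5), ([39989, 46359, 16401, 86844, 59896, 5802, 207], [18, 18, 19, 19, 19, 18, 19, 19, 19, 19, 18, 18, 18], 49826, 0, 5, 5), ([51315, 63653, 9652, 58248, 17197, 29668, 229], [18, 18, 18, 18, 18, 19, 18, 19, 18, 19, 19, 19], 3680, 0, 5, 5), ([13976, 74437, 94472, 7210, 41921, 36361, 239], [18, 19, 18, 18, 18, 19, 19, 19, 19, 18, 19, 19], 62345, 0, 5, 5)]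
def xL19 : List Leaf := [([17221, 45453, 63399, 97123, 60474, 12778, 265], [18, 19, 18, 19, 19, 19], 67740, 0, 5, 5), ([33173, 63430, 13404, 16576, 70213, 36862, 277], [18, 19, 18, 19, 19, 19, 18, 19, 18, 18, 19, 18], 1180, 0, 5, 5), ([86710, 5694, 92093, 66800, 85928, 9791, 284], [19, 18, 19, 19, 19, 19, 18, 18, 19, 19, 19, 18], 93133, 0, 5, 5), ([14527, 16081, 93523, 15223, 4022, 47836, 292], [18, 19, 18, 19, 19, 19, 19, 19, 19, 19, 18, 18], 70592, 0, 5, 5), ([32179, 69081, 79371, 60587, 62922, 7312, 300], [19, 19, 19, 19, 19, 19, 18, 18, 19, 19, 19], 16177, 0, 5, 5), ([42866, 13426, 50957, 91656, 83697, 36182, 306], [19, 19, 18, 18, 18, 18, 18, 19, 18, 18, 18], 94435, 0, 5, 5), ([61082, 81141, 96948, 28129, 65593, 72310, 362], [18, 19, 18, 19, 18, 19, 19, 19, 18, 18, 18, 18], 27619, 0, 5, 5), ([30678, 96556, 47422, 66399, 94535, 94576, 370], [19, 18, 19, 18, 18, 19, 18, 18, 19,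 18, 18, 19], 60254, 1, 5, 3)]
def xL20 : List Leaf := [([64332, 7342, 18469, 37253, 4163, 37331, 390], [19, 19, 18, 18, 18, 19, 19, 19, 18, 19], 21906, 0, 5, 5), ([38674, 58475, 25146, 67062, 61064, 77530, 394], [19, 18, 18, 19, 18, 19, 18, 19, 19, 18], 63066, 0, 5, 5), ([51607, 57000, 72298, 61852, 78882, 7390, 408], [19, 18, 18, 19, 18, 19, 18, 19, 18], 65315, 0, 5, 5), ([52524, 78244, 39567, 65049, 40593, 10356, 417], [19, 18, 19, 19, 18, 18, 18, 18, 18, 18, 18, 19, 18], 92979, 0, 5, 5), ([40711, 85247, 16619, 77205, 63019, 55324, 450], [18, 18, 18, 19, 19, 18, 19, 18, 19, 18], 37703, 1, 5, 3), ([59147, 79269, 40580, 81284, 2428, 69491, 460], [18], 21460, 1, 5, 3), ([73335, 38892, 2390, 28715, 2365, 95272, 478], [18, 18, 18, 18, 19, 19, 19, 19, 19, 18, 18, 19], 15101, 1, 5, 4), ([59505, 30450, 64748, 77709, 97936, 46569, 501], [18, 18, 18, 19, 18, 19, 18, 19, 18], 57372, 0, 5,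 5), ([20600, 814, 76735, 56402, 31160, 37468, 515], [19, 18, 18, 18, 19, 18, 18, 19, 19, 19, 18], 60474, 0, 5, 5)]
def xL21 : List Leaf := [([87716, 43297, 22965, 48801, 96319, 30332, 585], [18, 18, 19, 19, 18, 18, 18, 19, 19, 19, 19, 19], 89864, 1, 5, 4), ([41842, 78144, 92979, 31666, 87394, 40798, 593], [18, 18, 19, 18, 18, 19, 19, 18, 18, 18, 18], 31524, 0, 5, 5), ([43022, 20886, 5207, 55772, 92400, 47059, 621], [18, 19, 19, 18, 18, 18, 19, 19, 18, 19, 19, 18], 44177, 0, 5, 5), ([76633, 68293, 17691, 63151, 94298, 41815, 656], [18, 19, 19, 19, 18, 18, 19, 19, 18, 18], 93983, 0, 5, 5), ([27468, 75605, 95361, 63688, 53790, 11810, 707], [18, 18, 18, 19, 18, 18, 19, 18, 18], 58168, 0, 5, 5), ([79333, 82205, 24366, 6921, 4097, 77122, 755], [18, 18, 18, 19, 18, 19, 19, 18, 19, 19, 19, 18], 71546, 1, 5, 4), ([82290, 37717, 93979, 33465, 62625, 39782, 763], [18, 19, 18, 18, 19, 19, 19,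 19, 19, 18, 19, 18], 55140, 0, 5, 5), ([41422, 60626, 8166, 2095, 32398, 75952, 770], [18, 19, 18, 18, 19, 19, 19, 19, 19, 19], 52630, 1, 5, 3)]
def xL22 : List Leaf := [([35689, 33986, 4639, 33051, 3103, 62950, 774], [19, 19, 18, 18, 19, 18, 19, 18, 18, 19, 18, 18], 29291, 0, 5, 5), ([34045, 33984, 35924, 92796, 58917, 75562, 781], [18, 18, 19, 18, 18, 19, 19, 18, 18, 19, 18, 18], 31714, 0, 5, 5), ([81347, 93913, 28496, 90679, 70110, 6619, 796], [18, 19, 19, 19, 18, 19, 19, 18, 19, 18, 18, 19], 36571, 0, 5, 5), ([39032, 93916, 21336, 58331, 60814, 79546, 799], [19, 19, 18, 19, 19, 18, 19, 19, 18, 19, 18, 18, 18], 77917, 0, 5, 5), ([14602, 67282, 85421, 60182, 64882, 66126, 811], [18, 18, 18, 18, 18, 18, 19, 18, 19, 18, 18, 18, 19], 22202, 0, 5, 5), ([22695, 57308, 37740, 56777, 79698, 47619, 826], [18, 19, 18, 19, 18, 19, 18, 18, 18, 18, 18, 19], 97403, 1, 5, 4), ([54169, 53164,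 36271, 54099, 94356, 85441, 844], [19, 18, 19, 19, 19, 19, 19, 19, 18, 19, 19], 47540, 0, 5, 5)]
def xL23 : List Leaf := [([26704, 75603, 48075, 1871, 21885, 27681, 889], [19, 18, 19, 18, 18, 19, 18, 18, 19, 19, 18], 34979, 0, 5, 5), ([80568, 79107, 6943, 83877, 20188, 31473, 961], [19, 19, 19, 18, 19, 18], 13126, 0, 5, 5), ([12227, 1538, 45678, 78879, 69974, 62393, 976], [18, 19, 19, 18, 19, 18, 19, 19, 18], 28715, 0, 5, 5), ([41353, 2914, 6875, 30900, 1327, 17774, 989], [18, 18, 18, 19, 19, 18, 18, 18, 18, 18, 19], 62634, 0, 5, 5), ([96003, 67977, 13459, 93018, 42088, 31135, 1009], [19, 19, 18, 18, 19, 18, 18, 18, 19, 18, 18, 19], 9244, 0, 5, 5), ([14494, 64066, 17073, 67492, 45961, 83815, 1022], [18, 18, 18, 18, 19, 18, 19, 19, 19, 19, 18, 19], 15442, 0, 5, 0), ([76151, 63810, 37027, 46476, 76477, 66489, 1038], [19, 19, 19, 18, 19, 18, 18, 19, 18, 18, 18, 19, 18], 78255, 0, 5,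 5), ([63832, 65266, 69198, 66727, 11998, 42701, 1052], [18, 18, 19, 18, 18, 18, 18, 19, 19, 19, 19, 19, 18], 50673, 0, 5, 5)]
def xL24 : List Leaf := [([80690, 78245, 25951, 12239, 54292, 14191, 1147], [19, 19, 19, 18, 18, 19, 18, 18, 18], 2393, 0, 5, 0), ([84535, 77927, 80887, 19225, 54602, 25436, 1169], [18, 19, 19, 19, 19, 19], 73044, 0, 5, 5), ([42146, 77925, 47302, 7393, 51217, 32365, 1170], [18, 19, 18, 19, 19, 19, 18, 18, 19, 18, 18, 18, 19], 45961, 0, 5, 5), ([26057, 13587, 57887, 83935, 95802, 11099, 1179], [19, 19, 19, 18, 19, 19, 18, 18, 19], 74327, 0, 5, 5), ([12156, 28206, 29401, 32779, 58587, 66036, 1180], [18, 18, 19, 18, 19, 18, 19, 19, 18, 19, 19, 19], 87510, 0, 5, 5), ([25670, 6194, 12915, 35187, 92402, 15847, 1190], [19, 19, 18, 19, 18, 18], 17049, 0, 5, 5), ([46006, 6939, 59513, 67555, 3864, 66475, 1248], [18, 19, 18, 18, 18, 19, 19], 10466, 0, 5, 5), ([43630,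 60987, 9268, 2943, 62634, 8644, 1272], [18, 19, 19, 19, 19, 18, 19, 18, 18, 18], 67860, 0, 5, 5), ([45466, 57237, 95513, 56765, 71993, 26907, 1295], [19, 18, 18, 18, 19, 19, 18, 19, 19, 19, 18], 83182, 0, 5, 5)]
def xL25 : List Leaf := [([11755, 53181, 88721, 83339, 56302, 57806, 1311], [18, 18, 18, 19, 19, 19, 19, 18, 19, 18, 18, 19, 19, 18], 37741, 0, 5, 5), ([10673, 19536, 95399, 39497, 53497, 44046, 1315], [19, 18, 19, 18, 18, 18, 18, 19, 19, 18], 97114, 0, 5, 5), ([20362, 5797, 9785, 56607, 62760, 70973, 1317], [19, 19, 18, 18, 19, 18, 18, 18, 18, 18], 59356, 0, 5, 5), ([82822, 36019, 95552, 13025, 72220, 60126, 1360], [18, 18, 18, 18, 19, 19, 18, 18, 18, 18], 74930, 0, 5, 0), ([20637, 3977, 49351, 78813, 5398, 69356, 1398], [18, 18, 18, 18, 18, 18, 19, 19, 19, 18, 19, 19, 18], 31195, 0, 5, 5), ([85000, 54551, 58401, 15163, 2454, 38620, 1419], [18, 18, 19, 18, 19, 19, 19, 18,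 18, 19, 19, 19, 19], 46248, 1, 5, 4), ([30691, 54531, 41876, 20686, 3622, 28167, 1420], [19, 18, 18, 19, 19, 19, 18, 18, 18, 18], 26831, 0, 5, 5), ([46764, 67224, 63310, 95461, 78996, 69721, 1428], [18, 18, 19, 18, 19, 18, 19, 19, 19], 36443, 0, 5, 5)]
def xL26 : List Leaf := [([65708, 4137, 54617, 4301, 77763, 29751, 1455], [18, 19, 18, 19, 19, 18, 19], 14552, 1, 5, 4), ([42145, 92687, 85943, 59803, 36606, 48009, 1472], [18, 18, 18, 18, 19, 18, 19, 18, 19, 19, 18, 18, 19], 67492, 0, 5, 5), ([90189, 70416, 47677, 77107, 17319, 46570, 1498], [19, 18, 18, 18, 18, 19, 19, 19, 18, 19, 19], 79174, 0, 5, 5), ([52252, 58440, 49546, 55470, 36773, 94435, 1521], [18, 18, 19, 19, 18, 18, 19, 18, 19, 19], 77438, 0, 5, 5), ([53010, 1539, 22085, 84083, 86888, 54577, 1534], [18, 19, 19, 19, 19, 18, 19, 18, 19, 18, 18, 19], 72036, 1, 5, 4), ([81089, 2622, 61722, 77852, 39981, 47718, 1562], [18, 19,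 19, 18, 19, 19, 18, 18, 18, 18, 18, 18, 18], 593, 0, 5, 5), ([68399, 94051, 5064, 53857, 95317, 64612, 1645], [18, 18, 19, 18, 18, 18, 19, 18, 19, 18, 19], 76429, 0, 5, 5)]
def xL27 : List Leaf := [([32593, 36763, 36871, 95897, 93429, 64233, 1657], [18, 18, 19, 19, 19, 18, 19, 18, 19, 19, 19, 19, 18], 60913, 0, 5, 5), ([55352, 91838, 25426, 60985, 93789, 83140, 1666], [19, 19, 19, 19, 18, 18, 18, 19], 46035, 0, 5, 5), ([5787, 3317, 45423, 47816, 64935, 45547, 1670], [18, 18, 18, 19, 18, 18, 18, 18, 19, 18, 18, 19], 4948, 0, 5, 0), ([20293, 52225, 56939, 7683, 92830, 38653, 1735], [19, 18, 19, 18, 18, 19, 19, 18, 19, 18, 18, 18], 77597, 0, 5, 5), ([72036, 4282, 6331, 81022, 68294, 83659, 1740], [19, 19, 19, 19, 18, 19, 19, 19, 18, 18, 19], 2344, 1, 5, 2), ([45599, 37976, 66401, 7487, 63043, 45539, 1747], [18, 18, 18, 19, 18, 19, 18, 18, 18, 18, 19, 19], 61030, 1, 5, 2), ([44441, 93749,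 15420, 37810, 97372, 46411, 1751], [19, 19, 19, 19, 18, 18, 19, 19, 18, 19], 17197, 0, 5, 5), ([22485, 70418, 50238, 35682, 92583, 86219, 1760], [18, 19, 19, 18, 18, 18, 19, 19, 18], 60245, 0, 5, 5)]
def xL28 : List Leaf := [([90104, 62045, 44941, 53833, 51768, 22883, 1764], [18, 19, 18, 19, 18, 18, 18, 19, 19, 19, 18, 19, 19], 12596, 0, 5, 5), ([29141, 63200, 23407, 53055, 26890, 16976, 1773], [19, 18, 19, 19, 18, 19, 19, 19, 19, 19, 18, 18], 72066, 0, 5, 5), ([96971, 68239, 8543, 58409, 59709, 35015, 1852], [19, 19, 19, 19, 18, 19, 19, 19, 18, 19, 19, 19, 19], 300, 0, 5, 0), ([83933, 47894, 61689, 80731, 62765, 76770, 1855], [18, 19, 19, 18, 19, 18, 19, 19, 18, 19, 19], 37740, 0, 5, 5), ([84887, 92689, 7453, 23241, 94989, 56971, 1870], [19, 18, 18, 19, 19, 19, 19, 18, 19, 19, 19], 38891, 0, 5, 5), ([80981, 2500, 8179, 91915, 26965, 45488, 1876], [18, 18, 18, 19, 18, 19, 18, 19,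 19, 18], 53010, 0, 5, 5), ([52038, 64485, 7982, 8410, 84040, 24910, 1885], [18, 18, 19, 19, 19, 19, 19, 19, 18, 18, 18, 18], 47677, 0, 5, 5)]
def xL29 : List Leaf := [([8769, 34460, 23174, 35385, 95073, 48451, 1889], [19, 18, 19, 18, 18, 19, 19, 19, 19, 18, 18], 54195, 0, 5, 5), ([61098, 94666, 89187, 29863, 54160, 18290, 1894], [18, 18, 19, 18, 19, 19, 19, 19, 19, 18], 300, 0, 5, 5), ([14517, 60780, 58657, 55474, 10796, 75082, 1907], [18, 18, 19, 18, 18, 19, 18, 19, 18, 19, 19], 36450, 0, 5, 5), ([42546, 91234, 91612, 24552, 68236, 44378, 1910], [18, 18, 18, 19, 19, 19, 18, 18, 18, 18, 19, 19, 19], 96984, 0, 5, 5), ([18570, 70749, 94341, 23711, 24963, 36292, 1954], [18, 18, 18, 19, 18, 18, 19, 19, 18, 18, 19, 18], 87422, 1, 5, 4), ([6025, 64613, 79043, 16177, 8997, 92147, 1989], [18, 18, 19, 19, 18, 19, 19, 18, 18, 18, 18, 19, 18, 18], 17362, 0, 5, 5), ([39970, 58164, 67370, 44533,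 33501, 61131, 2001], [18, 18, 18, 18, 19, 18, 19, 19, 19], 30099, 0, 5, 5)]
def xL30 : List Leaf := [([12370, 4335, 68891, 36533, 77459, 78622, 2031], [18, 18, 18, 18, 18, 19, 18, 19, 19, 19, 19, 19], 83697, 0, 5, 5), ([16786, 3873, 29733, 81729, 26924, 95733, 2041], [18, 18, 19, 19, 19, 18, 18, 19, 18, 19, 19], 83311, 0, 5, 5), ([44254, 67373, 28834, 36541, 77728, 37437, 2099], [18, 18, 19, 18, 19, 19, 19, 19, 18, 19, 19, 19, 18, 18], 7499, 0, 5, 5), ([19013, 54802, 91379, 34863, 60569, 56307, 2101], [18, 18, 19, 19, 19, 18, 19, 19, 19, 18, 19, 18, 19], 30034, 0, 5, 5), ([72119, 64354, 54047, 36980, 64775, 76567, 2113], [19, 19, 18, 18, 19, 18, 19, 18, 18], 78622, 0, 5, 0), ([80928, 41497, 62520, 35080, 57057, 6439, 2139], [18, 19, 18, 19, 19, 18, 19, 18, 18, 18, 18], 69069, 0, 5, 5), ([24971, 3616, 60739, 88791, 19732, 29877, 2258], [19, 18, 18, 18, 19, 18, 18, 18, 18, 19, 18, 19],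 18812, 1, 5, 2)]
def xL31 : List Leaf := [([97899, 54736, 15332, 58129, 40232, 37322, 2263], [18, 18, 18, 18, 18, 18, 18, 19, 19, 19, 19], 90084, 0, 5, 5), ([73152, 36303, 12665, 58320, 63128, 76856, 2312], [18, 18, 18, 19, 19, 19, 19, 19], 31769, 0, 5, 5), ([14970, 87652, 62538, 23868, 61156, 75402, 2324], [18, 18, 18, 19, 18, 19, 19, 18, 19], 35578, 0, 5, 5), ([21003, 48304, 9505, 30269, 43382, 81133, 2332], [19, 18, 19, 18, 18, 19, 18, 19], 46189, 0, 5, 5), ([42078, 12277, 65992, 7395, 33974, 47254, 2413], [18, 18, 19, 18, 19, 19, 19, 19, 18], 37223, 0, 5, 5), ([33111, 85319, 43595, 31769, 60206, 33118, 2425], [18, 18, 18, 19, 19, 18, 18, 19, 19, 19, 19], 23553, 0, 5, 5), ([42156, 13179, 3291, 32511, 88510, 38039, 2447], [19, 19, 19, 18, 18, 18, 19, 18, 19, 19, 19, 19], 67090, 1, 5, 2), ([4917, 27618, 65986, 5890, 3183, 38827, 2451], [18, 19, 18, 19, 19, 19, 19, 18, 19, 18, 18,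 18], 770, 0, 5, 5)]
def xL32 : List Leaf := [([38191, 17049, 46708, 37178, 97583, 38650, 2458], [19, 18, 19, 18, 19, 18, 19, 18, 19, 18, 19, 19], 58219, 0, 5, 5), ([75760, 38172, 55155, 63139, 5976, 41097, 2463], [19, 18, 19, 18, 19, 18, 19, 19, 19, 18, 18, 18], 20427, 0, 5, 5), ([64041, 85235, 16713, 58015, 46517, 38561, 2467], [18, 18, 18, 18, 18, 18, 18, 19, 19], 62105, 0, 5, 5), ([38388, 3764, 48156, 25246, 63989, 47540, 2520], [18, 19, 18, 19, 18, 19, 19, 18, 18, 19, 19, 18], 32365, 0, 5, 5), ([67944, 64917, 45594, 75811, 64622, 37637, 2571], [18, 18, 19, 18, 19, 19, 18, 18, 18, 19, 18], 36438, 1, 5, 3), ([36079, 65468, 38717, 17322, 19777, 59340, 2662], [19, 19, 19, 19, 18, 19, 18, 19, 18, 18, 18], 77927, 0, 5, 5), ([31314, 66295, 34526, 22497, 63491, 74421, 2761], [18, 19, 19, 18, 18, 18, 18, 19, 18], 82317, 1, 5, 4), ([16915, 18425, 40024, 78255, 90988, 34850, 2773], [18,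 19, 19, 19, 19, 18, 19, 19, 19, 19, 18, 18], 24614, 0, 5, 5)]
def xL33 : List Leaf := [([50284, 68530, 55104, 44528, 28762, 64669, 2799], [19, 19, 18, 18, 19, 18, 19, 19, 18, 18, 19, 18], 45979, 0, 5, 5), ([8177, 62994, 95274, 66219, 70130, 50579, 2820], [18, 18, 18, 18, 18, 19, 18, 19, 19, 18, 19, 19, 19], 17796, 0, 5, 5), ([51456, 36353, 92302, 73654, 62885, 80146, 2822], [18, 19, 18, 18, 18, 19, 18, 18, 19, 19, 18, 18, 19], 26971, 0, 5, 5), ([63821, 19117, 34959, 90882, 31897, 64905, 2911], [18, 18, 18, 18, 18, 18, 19, 18, 19, 18, 18, 19], 34159, 0, 5, 5), ([23413, 62553, 76781, 71451, 63882, 37875, 2925], [18, 18, 18, 18, 18, 18, 19, 18, 19, 18, 19], 74600, 0, 5, 5), ([89502, 29834, 77745, 44349, 22080, 42193, 2958], [18, 19, 19, 19, 19, 18, 18, 19, 18, 18, 18], 72491, 0, 5, 5), ([60792, 77937, 19270, 54349, 30655, 20080, 2963], [18, 19, 19, 19, 19, 18, 18, 19, 19, 18, 18, 19],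 70416, 0, 5, 5)]
def xL34 : List Leaf := [([38540, 54509, 76035, 82331, 33869, 62968, 3000], [18, 19, 19, 19, 19, 18, 19, 18, 18, 18, 19, 19], 11994, 0, 5, 5), ([57737, 72774, 95797, 40528, 76871, 18170, 3024], [18, 18, 19, 19, 18, 18, 18, 19, 19, 18, 19, 18], 69494, 0, 5, 5), ([45792, 55194, 62096, 42544, 94939, 5717, 3072], [18, 18, 18, 19, 19, 18, 19, 18, 18, 19, 18, 18], 29667, 0, 5, 5), ([14545, 87034, 16411, 31858, 60731, 7919, 3090], [19, 18, 18, 19, 18, 19, 19, 19, 18, 19, 18, 19], 12608, 0, 5, 5), ([85650, 63886, 61655, 95814, 70969, 29592, 3104], [19, 19, 18, 19, 19, 18, 18, 19, 18], 55043, 0, 5, 5), ([49915, 69473, 11509, 82610, 42119, 17105, 3111], [19, 18, 19, 18, 19, 19, 19, 18, 19], 37027, 0, 5, 5), ([5107, 4143, 30367, 37619, 33910, 45324, 3137], [18, 19, 19, 19, 18, 18, 18, 19], 48075, 0, 5, 5), ([19052, 80697, 31755, 38463, 21622, 87119, 3200], [18, 18, 18, 18, 19,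 18, 19, 18, 19, 18, 19], 54552, 0, 5, 5)]
def xL35 : List Leaf := [([81457, 9009, 68697, 13270, 51679, 54398, 3313], [18, 18, 18, 19, 18, 19, 18, 18, 18, 19, 19, 19, 19], 91330, 1, 5, 3), ([5086, 40077, 16373, 66733, 46904, 70089, 3334], [19, 19, 19, 18, 19, 18, 19, 19, 18], 41876, 0, 5, 5), ([43359, 72406, 18196, 63176, 88609, 29997, 3345], [18, 18, 18, 19, 19, 19, 19, 19, 18, 19, 19, 19], 79663, 0, 5, 5), ([35432, 70240, 93943, 33168, 75143, 67348, 3351], [18, 18, 18, 18, 18, 19, 19, 18, 19, 19], 41420, 0, 5, 5), ([20598, 7772, 62621, 66973, 73292, 90921, 3386], [18, 18, 18, 18, 19, 18, 19, 18, 19, 18, 18], 16012, 0, 5, 5), ([81629, 36073, 56236, 59380, 51218, 75962, 3389], [19, 19, 18, 19, 19, 19, 18, 19, 18, 18, 18, 19], 12146, 0, 5, 5), ([53538, 63424, 59310, 32049, 53873, 12982, 3436], [18, 18, 19, 19, 19, 18, 19, 19, 19, 18, 19, 18, 18, 19], 2463, 0, 5, 5)]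
def xL36 : List Leaf := [([53168, 41307, 91417, 10052, 56684, 12991, 3437], [19, 18, 19, 19, 18, 19, 18, 19, 18, 18, 19, 19], 5142, 0, 5, 5), ([42265, 40681, 11115, 56919, 20951, 52697, 3443], [18, 18, 18, 19, 18, 19, 18, 18, 19, 19, 19], 43099, 1, 5, 3), ([38412, 61768, 30149, 37596, 3891, 38058, 3519], [18, 18, 18, 19, 19, 18, 18, 19, 19], 61538, 0, 5, 5), ([43040, 92460, 67144, 79462, 74930, 69520, 3652], [18, 18, 19, 18, 19, 18, 19, 19, 18, 19], 63139, 0, 5, 5), ([88858, 34103, 92742, 69324, 59568, 43891, 3684], [19, 18, 18, 19, 18, 19, 19, 18, 18, 18, 19, 19], 57447, 0, 5, 5), ([43656, 5911, 91647, 7546, 59017, 77966, 3685], [19, 18, 19, 18, 19, 18, 18, 18, 19, 18, 19], 36418, 0, 5, 5), ([27748, 63376, 72377, 49111, 69758, 39396, 3696], [18, 18, 19, 19, 18, 18, 19, 18, 18, 19, 19, 19], 66248, 0, 5, 5), ([41934, 28986, 57915, 91843, 42009, 16531, 3746], [18, 19, 18, 18, 18, 19,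 18, 18, 19, 18, 18], 18733, 0, 5, 5)]
def xL37 : List Leaf := [([77186, 36015, 12481, 73044, 21042, 57899, 3772], [18, 19, 19, 18, 18, 19, 19, 18, 18, 18, 19], 72340, 0, 5, 5), ([10810, 67687, 69738, 85277, 70404, 58971, 3798], [19, 19, 18, 18, 18, 19, 19, 19, 19, 18, 19, 19], 3879, 0, 5, 5), ([64201, 63790, 87051, 91192, 91227, 32137, 3955], [19, 18, 18, 19, 19, 18, 18, 18, 19], 91803, 0, 5, 5), ([69888, 7745, 93632, 33475, 30835, 62386, 3969], [19, 18, 19, 19], 32452, 0, 5, 5), ([20490, 82402, 93028, 40603, 81731, 37802, 3991], [18, 19, 18, 19, 19, 19, 19, 18], 46468, 0, 5, 5), ([35934, 95458, 29376, 36189, 27033, 76791, 4051], [19, 19, 18, 19, 19, 19, 18, 19, 18, 18], 33178, 0, 5, 5), ([11946, 77144, 95750, 6295, 91346, 43308, 4058], [18, 19, 18, 18, 19, 19, 18, 18], 44000, 0, 5, 5), ([22291, 94504, 31988, 4135, 77789, 86757, 4073], [18, 18, 19, 18, 18, 19, 18, 19, 18, 19, 19,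 18, 19], 13169, 0, 5, 0), ([83455, 58827, 8026, 9277, 86391, 64899, 4099], [18, 19, 18, 18, 18, 19, 18, 18, 19, 19, 18, 18], 87773, 0, 5, 5)]
def xL38 : List Leaf := [([11555, 74367, 26420, 37272, 63156, 30418, 4118], [19, 18, 18, 18, 18, 19, 18, 18, 18, 19, 18, 19], 67944, 0, 5, 5), ([21037, 83835, 94493, 46523, 86664, 76315, 4160], [18, 18, 19, 18, 19, 19, 19, 18, 18, 19, 19, 18], 42006, 0, 5, 0), ([58947, 94267, 55987, 56828, 71995, 33672, 4166], [18, 18, 18, 18, 18, 18, 18, 19, 19, 19, 19, 18], 29740, 0, 5, 5), ([12449, 79968, 17655, 54415, 59675, 19671, 4221], [18, 18, 19, 18, 19, 19, 19, 18, 19, 18, 18], 417, 0, 5, 5), ([82468, 34277, 60482, 16316, 9275, 24852, 4227], [18, 18, 18, 18, 18, 19, 18, 18, 19, 18, 18, 18, 18, 18], 23413, 0, 5, 5), ([10110, 64474, 67999, 85381, 68215, 39586, 4617], [19, 18, 19, 19, 18, 19, 18, 19, 19, 18, 19], 26487, 0, 5, 5), ([24166, 66538, 75854,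 59293, 74901, 62244, 4680], [18, 18, 19, 18, 18, 19, 19, 18, 19], 40099, 0, 5, 5)]
def xL39 : List Leaf := [([94759, 87615, 68643, 49098, 68312, 46163, 4692], [19, 18, 18, 19, 18, 18, 18, 19, 18, 18, 19], 47254, 0, 5, 5), ([69108, 11592, 53413, 43134, 34340, 26912, 4776], [18, 18, 19, 18, 18, 18, 18, 19, 18, 19, 19], 97777, 0, 5, 5), ([52979, 42854, 82175, 21271, 48883, 67327, 4874], [18, 19, 19, 18, 18, 18, 18, 19, 18, 19, 19], 89209, 0, 5, 5), ([42895, 70204, 30185, 93395, 27887, 86500, 4907], [19, 18, 18, 18, 19, 19, 18, 18, 19], 75277, 0, 5, 5), ([91357, 63144, 43099, 65315, 31625, 64758, 4957], [18, 18, 19, 19, 19, 18, 19, 18, 19, 19, 19], 69324, 0, 5, 5), ([53707, 43475, 70498, 67014, 96427, 39002, 4979], [19, 19, 18, 18, 18, 19, 18, 19, 19, 19, 18, 19, 18], 57315, 0, 5, 5), ([92592, 32412, 82435, 61030, 67132, 57106, 5380], [18, 18, 19, 19, 19, 18, 18, 19, 19, 18, 19, 18],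 39909, 0, 5, 5), ([74277, 27467, 14451, 53061, 86771, 30910, 5796], [19, 19, 18, 19, 19, 18, 19, 19, 18, 19, 19], 44351, 0, 5, 5)]
def xL40 : List Leaf := [([22806, 93495, 34418, 88772, 34100, 13126, 5854], [19, 18, 18, 19, 18, 19, 19, 18, 18, 19, 19, 18], 45825, 0, 5, 5), ([23569, 66950, 79782, 24806, 14552, 97271, 6346], [18, 18, 18, 19, 18, 19, 18, 18, 18, 19, 19], 76697, 0, 5, 5), ([76531, 74548, 73497, 48371, 45781, 18747, 6686], [18, 18, 18, 19, 18, 18, 19, 19, 19, 18], 24769, 0, 5, 5), ([68046, 60685, 71913, 41335, 26096, 6990, 6729], [19, 19, 18, 18, 19, 18, 18, 19, 19, 18, 19, 19], 33672, 0, 5, 5), ([41737, 53670, 19833, 56870, 72397, 24614, 7383], [19, 19, 18, 19, 18, 18, 18, 19], 63163, 0, 5, 5), ([70084, 29740, 88084, 83530, 20983, 9019, 7602], [19, 18, 18, 18, 19], 74230, 0, 5, 5), ([61420, 45030, 96868, 33652, 56655, 95085, 7630], [19, 18, 19, 18, 19, 18, 19, 19, 19,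 18, 18], 9057, 0, 5, 5), ([41056, 72051, 35101, 95892, 69652, 97064, 9253], [18, 19, 18, 19, 19, 18, 19, 18, 18, 18], 81592, 1, 5, 4), ([91774, 57347, 49078, 75192, 74744, 74281, 9451], [18, 19, 18, 19, 18, 19, 18, 18], 1521, 0, 5, 5)]
def xL41 : List Leaf := [([78870, 80995, 57235, 20502, 89923, 69891, 10466], [19, 18, 18, 19, 19, 19, 18, 18, 18, 18, 19], 86422, 1, 5, 4), ([48723, 70948, 67812, 38087, 40550, 23475, 10662], [19, 18, 18, 19, 18, 19, 19, 18, 18, 19, 18], 82317, 0, 5, 5), ([25209, 54737, 62781, 44681, 90631, 24536, 10688], [18, 18, 18, 19, 19, 18, 19, 19, 19, 18, 19, 18], 460, 0, 5, 5), ([23461, 19112, 94886, 80371, 72077, 21311, 10967], [19, 19, 19, 18, 18, 19, 19, 19, 18, 18], 17932, 0, 5, 5), ([70509, 73118, 56060, 44802, 76829, 44537, 12530], [19, 19, 18, 19, 19, 19, 19, 18, 18, 19, 19], 64266, 0, 5, 5), ([61323, 21233, 77386, 64609, 79655, 13546, 13163], [19, 18,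 19, 19, 18, 19, 19, 19, 18, 18, 18], 74190, 0, 5, 5), ([67301, 81614, 49813, 73927, 44852, 39800, 14768], [18, 18, 19, 19, 18, 18, 18], 71605, 0, 5, 5), ([19363, 33245, 95387, 43936, 87805, 97031, 17308], [19, 18, 18, 18, 18, 19, 19, 18, 18, 18, 18], 47677, 0, 5, 5)]
def xL42 : List Leaf := [([83918, 63291, 36403, 87767, 93957, 96984, 18447], [18, 18, 18, 19, 18, 18, 18, 19, 18], 52069, 0, 5, 5), ([60278, 44376, 47315, 59448, 24659, 66098, 19223], [19, 18, 18, 18, 18, 19, 18, 18, 18, 19, 18], 53010, 0, 5, 5), ([77817, 37438, 61811, 44056, 51660, 51243, 31202], [19, 18, 18, 19, 18, 19, 19, 19], 31948, 0, 5, 5)]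
def xL43 : List Leaf := [([21101, 3763, 47404, 7564, 79174, 76341, 2845], [24, 24, 24, 25, 25, 25, 22, 22, 23, 23, 23, 22, 22, 23, 22, 23, 21, 20, 20, 20, 20, 21, 20, 20, 20, 18, 18, 18, 19, 18, 19, 19, 18, 18, 18, 18], 19536, 2, 2, 2)]
def xc44 : List ℕ := [2845, 18447, 19223, 31202, 10466, 10662, 10688, 10967, 12530, 13163, 14768, 17308, 5854, 6346, 6686, 6729, 7383, 7602, 7630, 9253, 9451, 4692, 4776, 4874, 4907, 4957, 4979, 5380, 5796, 4118, 4160, 4166, 4221, 4227, 4617, 4680, 3772, 3798, 3955, 3969, 3991, 4051, 4058, 4073, 4099, 3437, 3443, 3519, 3652, 3684, 3685, 3696, 3746, 3313, 3334, 3345, 3351, 3386, 3389, 3436, 3000, 3024, 3072, 3090, 3104, 3111, 3137, 3200, 2799, 2820, 2822, 2911, 2925, 2958, 2963, 2458, 2463, 2467, 2520, 2571, 2662, 2761, 2773, 2263, 2312, 2324, 2332, 2413, 2425, 2447, 2451, 2031, 2041, 2099, 2101, 2113, 2139, 2258, 1889, 1894, 1907, 1910, 1954, 1989,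 2001, 1764, 1773, 1852, 1855, 1870, 1876, 1885, 1657, 1666, 1670, 1735, 1740, 1747, 1751, 1760, 1455, 1472, 1498, 1521, 1534, 1562, 1645, 1311, 1315, 1317, 1360, 1398, 1419, 1420, 1428, 1147, 1169, 1170, 1179, 1180, 1190, 1248, 1272, 1295, 889, 961, 976, 989, 1009, 1022, 1038, 1052, 774, 781, 796, 799, 811, 826, 844, 585, 593, 621, 656, 707, 755, 763, 770, 390, 394, 408, 417, 450, 460, 478, 501, 515, 265, 277, 284, 292, 300, 306, 362, 370, 162, 177, 187, 191, 207, 229, 239, 46, 48, 60, 67, 102, 105, 114, 133, 43881]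
noncomputable def xD0 : ℕ := Nat.xor (ival 0 98280) (bitsL [62044])
def xc47 : List ℕ := [62044]
noncomputable def xOT : OTab := [([43881, 62044], xO0), ([43881, 62044], xO1), ([2814, 59972, 96435, 43881, 62044], xO2), ([62044], xO3), ([], xO4)]
def ych : List Model.Lev := [(82577, [[16], [17]], 98280), (10662, [[29], [30]], 46575), (34845, [[31], [32]], 2048), (62044, [[33], [34]], 672), (43099, [[35], [36]], 11), (35921, [[37], [38]], 10), (83406, [[39], [40]], 6)]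
def yCg : List (List ℕ) := [[14], [41], [42]]
def yc74 : List ℕ := [43099]
noncomputable def yD3 : ℕ := Nat.xor (ival 0 98280) (bitsL [10662, 34845, 62044, 77927, 81856, 82577])
def yc77 : List ℕ := [62044]
def yL79 : List Leaf := [([35712, 7499, 37949, 56937], [38, 35, 36, 36, 35, 33, 34, 34, 34, 34, 33, 33, 34, 33, 33, 31, 32, 32, 31, 31, 31, 32, 32, 31, 31, 32], 83406, 2, 1, 0)]
def yc80 : List ℕ := [56937]
def yc82 : List ℕ := [77927]
noncomputable def yD2 : ℕ := Nat.xor (ival 0 98280) (bitsL [10662, 34845, 62044, 77927, 81856, 82577])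
def yc85 : List ℕ := [81856, 34845]
noncomputable def yD1 : ℕ := Nat.xor (ival 0 98280) (bitsL [10662, 34845, 62044, 77927, 81856, 82577])
def yc88 : List ℕ := [10662]
noncomputable def yD0 : ℕ := Nat.xor (ival 0 98280) (bitsL [10662, 34845, 62044, 77927, 81856, 82577])
def yc91 : List ℕ := [82577]
noncomputable def yOT : OTab := [([62044, 34845, 10662, 82577], yO0), ([34845, 10662, 82577], yO1), ([35921, 43099, 62044, 34845, 10662, 82577], yO2), ([10662, 82577], yO3), ([82577], yO4), ([], yO5)]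
def CL : List (List ℕ) := [[], [14], [41], [42], [14, 14], [41, 14], [42, 14], [41, 41], [42, 41], [41, 42], [14, 14, 14], [41, 14, 14], [42, 14, 14], [41, 41, 14], [42, 41, 14], [41, 42, 14], [14, 14, 14, 14], [41, 14, 14, 14], [42, 14, 14, 14], [41, 41, 14, 14], [42, 41, 14, 14], [41, 42, 14, 14], [14, 14, 14, 14, 14], [41, 14, 14, 14, 14], [42, 14, 14, 14, 14], [41, 41, 14, 14, 14], [42, 41, 14, 14, 14], [41, 42, 14, 14, 14], [14, 14, 14, 14, 14, 14], [41, 14, 14, 14, 14, 14], [42, 14, 14, 14, 14, 14], [41, 41, 14, 14, 14, 14], [42, 41, 14, 14, 14, 14], [41, 42, 14, 14, 14, 14], [14, 14, 14, 14, 14, 14, 14], [41, 14, 14, 14, 14, 14, 14], [42, 14, 14, 14, 14, 14, 14], [41, 41, 14, 14, 14, 14, 14], [42, 41, 14, 14, 14, 14, 14], [41, 42, 14, 14, 14, 14, 14], [14, 14, 14, 14, 14, 14, 14, 14], [41, 14, 14, 14, 14, 14, 14, 14], [42, 14, 14, 14, 14, 14, 14, 14], [41, 41, 14, 14, 14, 14,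 14, 14], [42, 41, 14, 14, 14, 14, 14, 14], [41, 42, 14, 14, 14, 14, 14, 14], [14, 14, 14, 14, 14, 14, 14, 14, 14], [41, 14, 14, 14, 14, 14, 14, 14, 14], [42, 14, 14, 14, 14, 14, 14, 14, 14], [41, 41, 14, 14, 14, 14, 14, 14, 14], [42, 41, 14, 14, 14, 14, 14, 14, 14], [41, 42, 14, 14, 14, 14, 14, 14, 14], [14, 14, 14, 14, 14, 14, 14, 14, 14, 14], [41, 14, 14, 14, 14, 14, 14, 14, 14, 14], [42, 14, 14, 14, 14, 14, 14, 14, 14, 14], [41, 41, 14, 14, 14, 14, 14, 14, 14, 14], [42, 41, 14, 14, 14, 14, 14, 14, 14, 14], [41, 42, 14, 14, 14, 14, 14, 14, 14, 14], [41, 14, 14, 14, 14, 14, 14, 14, 14, 14, 14], [42, 14, 14, 14, 14, 14, 14, 14, 14, 14, 14], [41, 41, 14, 14, 14, 14, 14, 14, 14, 14, 14], [42, 41, 14, 14, 14, 14, 14, 14, 14, 14, 14], [41, 42, 14, 14, 14, 14, 14, 14, 14, 14, 14], [41, 41, 14, 14, 14, 14, 14, 14, 14, 14, 14, 14], [42, 41, 14, 14, 14, 14, 14, 14, 14, 14, 14, 14], [41, 42,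 14, 14, 14, 14, 14, 14, 14, 14, 14, 14]]
def RL : List (List ℕ) := [[2, 2], [0, 1, 1, 0, 1, 2, 0, 1, 1, 0, 1, 2, 0, 1, 1, 0, 1, 2, 0, 1, 1, 0, 1, 2, 0, 1, 1, 0, 1, 2, 0, 1, 1, 0, 1, 2, 0, 1, 1, 0, 1, 2, 0, 1, 1, 0, 1, 2, 0, 1, 1, 0, 1, 2, 0, 1, 1, 0, 1, 2]]
def CE : List (List ℕ × List ℕ) := [([14], [14]), ([14, 14], [14, 14]), ([14, 41], [41, 14]), ([14, 42], [42, 14]), ([14, 14, 14], [14, 14, 14]), ([14, 41, 14], [41, 14, 14]), ([14, 42, 14], [42, 14, 14]), ([14, 41, 41], [41, 41, 14]), ([14, 42, 41], [42, 41, 14]), ([14, 41, 42], [41, 42, 14]), ([14, 14, 14, 14], [14, 14, 14, 14]), ([14, 41, 14, 14], [41, 14, 14, 14]), ([14, 42, 14, 14], [42, 14, 14, 14]), ([14, 41, 41, 14], [41, 41, 14, 14]), ([14, 42, 41, 14], [42, 41, 14, 14]), ([14, 41, 42, 14], [41, 42, 14, 14]), ([14, 14, 14, 14, 14], [14, 14, 14, 14, 14]), ([14, 41, 14, 14, 14], [41, 14, 14, 14, 14]), ([14, 42, 14, 14, 14],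 [42, 14, 14, 14, 14]), ([14, 41, 41, 14, 14], [41, 41, 14, 14, 14]), ([14, 42, 41, 14, 14], [42, 41, 14, 14, 14]), ([14, 41, 42, 14, 14], [41, 42, 14, 14, 14]), ([14, 14, 14, 14, 14, 14], [14, 14, 14, 14, 14, 14]), ([14, 41, 14, 14, 14, 14], [41, 14, 14, 14, 14, 14]), ([14, 42, 14, 14, 14, 14], [42, 14, 14, 14, 14, 14]), ([14, 41, 41, 14, 14, 14], [41, 41, 14, 14, 14, 14]), ([14, 42, 41, 14, 14, 14], [42, 41, 14, 14, 14, 14]), ([14, 41, 42, 14, 14, 14], [41, 42, 14, 14, 14, 14]), ([14, 14, 14, 14, 14, 14, 14], [14, 14, 14, 14, 14, 14, 14]), ([14, 41, 14, 14, 14, 14, 14], [41, 14, 14, 14, 14, 14, 14]), ([14, 42, 14, 14, 14, 14, 14], [42, 14, 14, 14, 14, 14, 14]), ([14, 41, 41, 14, 14, 14, 14], [41, 41, 14, 14, 14, 14, 14]), ([14, 42, 41, 14, 14, 14, 14], [42, 41, 14, 14, 14, 14, 14]), ([14, 41, 42, 14, 14, 14, 14], [41, 42, 14, 14, 14, 14, 14]), ([14, 14, 14, 14, 14, 14, 14, 14], [14,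 14, 14, 14, 14, 14, 14, 14]), ([14, 41, 14, 14, 14, 14, 14, 14], [41, 14, 14, 14, 14, 14, 14, 14]), ([14, 42, 14, 14, 14, 14, 14, 14], [42, 14, 14, 14, 14, 14, 14, 14]), ([14, 41, 41, 14, 14, 14, 14, 14], [41, 41, 14, 14, 14, 14, 14, 14]), ([14, 42, 41, 14, 14, 14, 14, 14], [42, 41, 14, 14, 14, 14, 14, 14]), ([14, 41, 42, 14, 14, 14, 14, 14], [41, 42, 14, 14, 14, 14, 14, 14]), ([14, 14, 14, 14, 14, 14, 14, 14, 14], [14, 14, 14, 14, 14, 14, 14, 14, 14]), ([14, 41, 14, 14, 14, 14, 14, 14, 14], [41, 14, 14, 14, 14, 14, 14, 14, 14]), ([14, 42, 14, 14, 14, 14, 14, 14, 14], [42, 14, 14, 14, 14, 14, 14, 14, 14]), ([14, 41, 41, 14, 14, 14, 14, 14, 14], [41, 41, 14, 14, 14, 14, 14, 14, 14]), ([14, 42, 41, 14, 14, 14, 14, 14, 14], [42, 41, 14, 14, 14, 14, 14, 14, 14]), ([14, 41, 42, 14, 14, 14, 14, 14, 14], [41, 42, 14, 14, 14, 14, 14, 14, 14]), ([14, 14, 14, 14, 14, 14, 14, 14, 14, 14], [14,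 14, 14, 14, 14, 14, 14, 14, 14, 14]), ([14, 41, 14, 14, 14, 14, 14, 14, 14, 14], [41, 14, 14, 14, 14, 14, 14, 14, 14, 14]), ([14, 42, 14, 14, 14, 14, 14, 14, 14, 14], [42, 14, 14, 14, 14, 14, 14, 14, 14, 14]), ([14, 41, 41, 14, 14, 14, 14, 14, 14, 14], [41, 41, 14, 14, 14, 14, 14, 14, 14, 14]), ([14, 42, 41, 14, 14, 14, 14, 14, 14, 14], [42, 41, 14, 14, 14, 14, 14, 14, 14, 14]), ([14, 41, 42, 14, 14, 14, 14, 14, 14, 14], [41, 42, 14, 14, 14, 14, 14, 14, 14, 14]), ([14, 14, 14, 14, 14, 14, 14, 14, 14, 14, 14], []), ([14, 41, 14, 14, 14, 14, 14, 14, 14, 14, 14], [41, 14, 14, 14, 14, 14, 14, 14, 14, 14, 14]), ([14, 42, 14, 14, 14, 14, 14, 14, 14, 14, 14], [42, 14, 14, 14, 14, 14, 14, 14, 14, 14, 14]), ([14, 41, 41, 14, 14, 14, 14, 14, 14, 14, 14], [41, 41, 14, 14, 14, 14, 14, 14, 14, 14, 14]), ([14, 42, 41, 14, 14, 14, 14, 14, 14, 14, 14], [42, 41, 14, 14, 14, 14, 14, 14, 14, 14, 14]),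 ([14, 41, 42, 14, 14, 14, 14, 14, 14, 14, 14], [41, 42, 14, 14, 14, 14, 14, 14, 14, 14, 14]), ([14, 41, 14, 14, 14, 14, 14, 14, 14, 14, 14, 14], [41]), ([14, 42, 14, 14, 14, 14, 14, 14, 14, 14, 14, 14], [42]), ([14, 41, 41, 14, 14, 14, 14, 14, 14, 14, 14, 14], [41, 41, 14, 14, 14, 14, 14, 14, 14, 14, 14, 14]), ([14, 42, 41, 14, 14, 14, 14, 14, 14, 14, 14, 14], [42, 41, 14, 14, 14, 14, 14, 14, 14, 14, 14, 14]), ([14, 41, 42, 14, 14, 14, 14, 14, 14, 14, 14, 14], [41, 42, 14, 14, 14, 14, 14, 14, 14, 14, 14, 14]), ([14, 41, 41, 14, 14, 14, 14, 14, 14, 14, 14, 14, 14], [41, 41]), ([14, 42, 41, 14, 14, 14, 14, 14, 14, 14, 14, 14, 14], [42, 41]), ([14, 41, 42, 14, 14, 14, 14, 14, 14, 14, 14, 14, 14], [41, 42]), ([41], [41]), ([41, 14], [41, 14]), ([41, 41], [41, 41]), ([41, 42], [41, 42]), ([41, 14, 14], [41, 14, 14]), ([41, 41, 14], [41, 41, 14]), ([41, 42, 14], [41, 42, 14]), ([41, 41,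 41], []), ([41, 42, 41], [42]), ([41, 41, 42], [42, 41]), ([41, 14, 14, 14], [41, 14, 14, 14]), ([41, 41, 14, 14], [41, 41, 14, 14]), ([41, 42, 14, 14], [41, 42, 14, 14]), ([41, 41, 41, 14], [14]), ([41, 42, 41, 14], [42, 14]), ([41, 41, 42, 14], [42, 41, 14]), ([41, 14, 14, 14, 14], [41, 14, 14, 14, 14]), ([41, 41, 14, 14, 14], [41, 41, 14, 14, 14]), ([41, 42, 14, 14, 14], [41, 42, 14, 14, 14]), ([41, 41, 41, 14, 14], [14, 14]), ([41, 42, 41, 14, 14], [42, 14, 14]), ([41, 41, 42, 14, 14], [42, 41, 14, 14]), ([41, 14, 14, 14, 14, 14], [41, 14, 14, 14, 14, 14]), ([41, 41, 14, 14, 14, 14], [41, 41, 14, 14, 14, 14]), ([41, 42, 14, 14, 14, 14], [41, 42, 14, 14, 14, 14]), ([41, 41, 41, 14, 14, 14], [14, 14, 14]), ([41, 42, 41, 14, 14, 14], [42, 14, 14, 14]), ([41, 41, 42, 14, 14, 14], [42, 41, 14, 14, 14]), ([41, 14, 14, 14, 14, 14, 14], [41, 14, 14, 14, 14, 14, 14]), ([41, 41, 14, 14,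 14, 14, 14], [41, 41, 14, 14, 14, 14, 14]), ([41, 42, 14, 14, 14, 14, 14], [41, 42, 14, 14, 14, 14, 14]), ([41, 41, 41, 14, 14, 14, 14], [14, 14, 14, 14]), ([41, 42, 41, 14, 14, 14, 14], [42, 14, 14, 14, 14]), ([41, 41, 42, 14, 14, 14, 14], [42, 41, 14, 14, 14, 14]), ([41, 14, 14, 14, 14, 14, 14, 14], [41, 14, 14, 14, 14, 14, 14, 14]), ([41, 41, 14, 14, 14, 14, 14, 14], [41, 41, 14, 14, 14, 14, 14, 14]), ([41, 42, 14, 14, 14, 14, 14, 14], [41, 42, 14, 14, 14, 14, 14, 14]), ([41, 41, 41, 14, 14, 14, 14, 14], [14, 14, 14, 14, 14]), ([41, 42, 41, 14, 14, 14, 14, 14], [42, 14, 14, 14, 14, 14]), ([41, 41, 42, 14, 14, 14, 14, 14], [42, 41, 14, 14, 14, 14, 14]), ([41, 14, 14, 14, 14, 14, 14, 14, 14], [41, 14, 14, 14, 14, 14, 14, 14, 14]), ([41, 41, 14, 14, 14, 14, 14, 14, 14], [41, 41, 14, 14, 14, 14, 14, 14, 14]), ([41, 42, 14, 14, 14, 14, 14, 14, 14], [41, 42, 14, 14, 14, 14, 14, 14, 14]),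 ([41, 41, 41, 14, 14, 14, 14, 14, 14], [14, 14, 14, 14, 14, 14]), ([41, 42, 41, 14, 14, 14, 14, 14, 14], [42, 14, 14, 14, 14, 14, 14]), ([41, 41, 42, 14, 14, 14, 14, 14, 14], [42, 41, 14, 14, 14, 14, 14, 14]), ([41, 14, 14, 14, 14, 14, 14, 14, 14, 14], [41, 14, 14, 14, 14, 14, 14, 14, 14, 14]), ([41, 41, 14, 14, 14, 14, 14, 14, 14, 14], [41, 41, 14, 14, 14, 14, 14, 14, 14, 14]), ([41, 42, 14, 14, 14, 14, 14, 14, 14, 14], [41, 42, 14, 14, 14, 14, 14, 14, 14, 14]), ([41, 41, 41, 14, 14, 14, 14, 14, 14, 14], [14, 14, 14, 14, 14, 14, 14]), ([41, 42, 41, 14, 14, 14, 14, 14, 14, 14], [42, 14, 14, 14, 14, 14, 14, 14]), ([41, 41, 42, 14, 14, 14, 14, 14, 14, 14], [42, 41, 14, 14, 14, 14, 14, 14, 14]), ([41, 14, 14, 14, 14, 14, 14, 14, 14, 14, 14], [41, 14, 14, 14, 14, 14, 14, 14, 14, 14, 14]), ([41, 41, 14, 14, 14, 14, 14, 14, 14, 14, 14], [41, 41, 14, 14, 14, 14, 14, 14, 14, 14, 14]), ([41,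 42, 14, 14, 14, 14, 14, 14, 14, 14, 14], [41, 42, 14, 14, 14, 14, 14, 14, 14, 14, 14]), ([41, 41, 41, 14, 14, 14, 14, 14, 14, 14, 14], [14, 14, 14, 14, 14, 14, 14, 14]), ([41, 42, 41, 14, 14, 14, 14, 14, 14, 14, 14], [42, 14, 14, 14, 14, 14, 14, 14, 14]), ([41, 41, 42, 14, 14, 14, 14, 14, 14, 14, 14], [42, 41, 14, 14, 14, 14, 14, 14, 14, 14]), ([41, 41, 14, 14, 14, 14, 14, 14, 14, 14, 14, 14], [41, 41, 14, 14, 14, 14, 14, 14, 14, 14, 14, 14]), ([41, 42, 14, 14, 14, 14, 14, 14, 14, 14, 14, 14], [41, 42, 14, 14, 14, 14, 14, 14, 14, 14, 14, 14]), ([41, 41, 41, 14, 14, 14, 14, 14, 14, 14, 14, 14], [14, 14, 14, 14, 14, 14, 14, 14, 14]), ([41, 42, 41, 14, 14, 14, 14, 14, 14, 14, 14, 14], [42, 14, 14, 14, 14, 14, 14, 14, 14, 14]), ([41, 41, 42, 14, 14, 14, 14, 14, 14, 14, 14, 14], [42, 41, 14, 14, 14, 14, 14, 14, 14, 14, 14]), ([41, 41, 41, 14, 14, 14, 14, 14, 14, 14, 14, 14, 14], [14, 14,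 14, 14, 14, 14, 14, 14, 14, 14]), ([41, 42, 41, 14, 14, 14, 14, 14, 14, 14, 14, 14, 14], [42, 14, 14, 14, 14, 14, 14, 14, 14, 14, 14]), ([41, 41, 42, 14, 14, 14, 14, 14, 14, 14, 14, 14, 14], [42, 41, 14, 14, 14, 14, 14, 14, 14, 14, 14, 14]), ([42], [42]), ([42, 14], [42, 14]), ([42, 41], [42, 41]), ([42, 42], []), ([42, 14, 14], [42, 14, 14]), ([42, 41, 14], [42, 41, 14]), ([42, 42, 14], [14]), ([42, 41, 41], [41, 42]), ([42, 42, 41], [41]), ([42, 41, 42], [41, 41]), ([42, 14, 14, 14], [42, 14, 14, 14]), ([42, 41, 14, 14], [42, 41, 14, 14]), ([42, 42, 14, 14], [14, 14]), ([42, 41, 41, 14], [41, 42, 14]), ([42, 42, 41, 14], [41, 14]), ([42, 41, 42, 14], [41, 41, 14]), ([42, 14, 14, 14, 14], [42, 14, 14, 14, 14]), ([42, 41, 14, 14, 14], [42, 41, 14, 14, 14]), ([42, 42, 14, 14, 14], [14, 14, 14]), ([42, 41, 41, 14, 14], [41, 42, 14, 14]), ([42, 42, 41, 14, 14], [41, 14, 14]), ([42, 41,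 42, 14, 14], [41, 41, 14, 14]), ([42, 14, 14, 14, 14, 14], [42, 14, 14, 14, 14, 14]), ([42, 41, 14, 14, 14, 14], [42, 41, 14, 14, 14, 14]), ([42, 42, 14, 14, 14, 14], [14, 14, 14, 14]), ([42, 41, 41, 14, 14, 14], [41, 42, 14, 14, 14]), ([42, 42, 41, 14, 14, 14], [41, 14, 14, 14]), ([42, 41, 42, 14, 14, 14], [41, 41, 14, 14, 14]), ([42, 14, 14, 14, 14, 14, 14], [42, 14, 14, 14, 14, 14, 14]), ([42, 41, 14, 14, 14, 14, 14], [42, 41, 14, 14, 14, 14, 14]), ([42, 42, 14, 14, 14, 14, 14], [14, 14, 14, 14, 14]), ([42, 41, 41, 14, 14, 14, 14], [41, 42, 14, 14, 14, 14]), ([42, 42, 41, 14, 14, 14, 14], [41, 14, 14, 14, 14]), ([42, 41, 42, 14, 14, 14, 14], [41, 41, 14, 14, 14, 14]), ([42, 14, 14, 14, 14, 14, 14, 14], [42, 14, 14, 14, 14, 14, 14, 14]), ([42, 41, 14, 14, 14, 14, 14, 14], [42, 41, 14, 14, 14, 14, 14, 14]), ([42, 42, 14, 14, 14, 14, 14, 14], [14, 14, 14, 14, 14, 14]), ([42, 41, 41,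 14, 14, 14, 14, 14], [41, 42, 14, 14, 14, 14, 14]), ([42, 42, 41, 14, 14, 14, 14, 14], [41, 14, 14, 14, 14, 14]), ([42, 41, 42, 14, 14, 14, 14, 14], [41, 41, 14, 14, 14, 14, 14]), ([42, 14, 14, 14, 14, 14, 14, 14, 14], [42, 14, 14, 14, 14, 14, 14, 14, 14]), ([42, 41, 14, 14, 14, 14, 14, 14, 14], [42, 41, 14, 14, 14, 14, 14, 14, 14]), ([42, 42, 14, 14, 14, 14, 14, 14, 14], [14, 14, 14, 14, 14, 14, 14]), ([42, 41, 41, 14, 14, 14, 14, 14, 14], [41, 42, 14, 14, 14, 14, 14, 14]), ([42, 42, 41, 14, 14, 14, 14, 14, 14], [41, 14, 14, 14, 14, 14, 14]), ([42, 41, 42, 14, 14, 14, 14, 14, 14], [41, 41, 14, 14, 14, 14, 14, 14]), ([42, 14, 14, 14, 14, 14, 14, 14, 14, 14], [42, 14, 14, 14, 14, 14, 14, 14, 14, 14]), ([42, 41, 14, 14, 14, 14, 14, 14, 14, 14], [42, 41, 14, 14, 14, 14, 14, 14, 14, 14]), ([42, 42, 14, 14, 14, 14, 14, 14, 14, 14], [14, 14, 14, 14, 14, 14, 14, 14]), ([42, 41, 41, 14, 14,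 14, 14, 14, 14, 14], [41, 42, 14, 14, 14, 14, 14, 14, 14]), ([42, 42, 41, 14, 14, 14, 14, 14, 14, 14], [41, 14, 14, 14, 14, 14, 14, 14]), ([42, 41, 42, 14, 14, 14, 14, 14, 14, 14], [41, 41, 14, 14, 14, 14, 14, 14, 14]), ([42, 14, 14, 14, 14, 14, 14, 14, 14, 14, 14], [42, 14, 14, 14, 14, 14, 14, 14, 14, 14, 14]), ([42, 41, 14, 14, 14, 14, 14, 14, 14, 14, 14], [42, 41, 14, 14, 14, 14, 14, 14, 14, 14, 14]), ([42, 42, 14, 14, 14, 14, 14, 14, 14, 14, 14], [14, 14, 14, 14, 14, 14, 14, 14, 14]), ([42, 41, 41, 14, 14, 14, 14, 14, 14, 14, 14], [41, 42, 14, 14, 14, 14, 14, 14, 14, 14]), ([42, 42, 41, 14, 14, 14, 14, 14, 14, 14, 14], [41, 14, 14, 14, 14, 14, 14, 14, 14]), ([42, 41, 42, 14, 14, 14, 14, 14, 14, 14, 14], [41, 41, 14, 14, 14, 14, 14, 14, 14, 14]), ([42, 41, 14, 14, 14, 14, 14, 14, 14, 14, 14, 14], [42, 41, 14, 14, 14, 14, 14, 14, 14, 14, 14, 14]), ([42, 42, 14, 14, 14, 14, 14, 14,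 14, 14, 14, 14], [14, 14, 14, 14, 14, 14, 14, 14, 14, 14]), ([42, 41, 41, 14, 14, 14, 14, 14, 14, 14, 14, 14], [41, 42, 14, 14, 14, 14, 14, 14, 14, 14, 14]), ([42, 42, 41, 14, 14, 14, 14, 14, 14, 14, 14, 14], [41, 14, 14, 14, 14, 14, 14, 14, 14, 14]), ([42, 41, 42, 14, 14, 14, 14, 14, 14, 14, 14, 14], [41, 41, 14, 14, 14, 14, 14, 14, 14, 14, 14]), ([42, 41, 41, 14, 14, 14, 14, 14, 14, 14, 14, 14, 14], [41, 42, 14, 14, 14, 14, 14, 14, 14, 14, 14, 14]), ([42, 42, 41, 14, 14, 14, 14, 14, 14, 14, 14, 14, 14], [41, 14, 14, 14, 14, 14, 14, 14, 14, 14, 14]), ([42, 41, 42, 14, 14, 14, 14, 14, 14, 14, 14, 14, 14], [41, 41, 14, 14, 14, 14, 14, 14, 14, 14, 14, 14])]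
def EL : List Elim := [((1, []), 0, 0, 0), ((1, [14]), 0, 0, 44555), ((1, [41]), 1, 0, 78745), ((1, [42]), 1, 0, 70175), ((1, [14, 14]), 0, 0, 5390), ((1, [41, 14]), 0, 0, 44555), ((1, [42, 14]), 0, 0, 44555), ((1, [41, 41]), 1, 0, 41969), ((1, [42, 41]), 0, 0, 2403), ((1, [41, 42]), 0, 0, 906), ((1, [14, 14, 14]), 0, 0, 32671), ((1, [41, 14, 14]), 0, 0, 5390), ((1, [42, 14, 14]), 0, 0, 5390), ((1, [41, 41, 14]), 0, 0, 44555), ((1, [42, 41, 14]), 0, 0, 6526), ((1, [41, 42, 14]), 0, 0, 8052), ((1, [14, 14, 14, 14]), 0, 0, 70786), ((1, [41, 14, 14, 14]), 0, 0, 32671), ((1, [42, 14, 14, 14]), 0, 0, 32671), ((1, [41, 41, 14, 14]), 0, 0, 5390), ((1, [42, 41, 14, 14]), 0, 0, 43037), ((1, [41, 42, 14, 14]), 0, 0, 6074), ((1, [14, 14, 14, 14, 14]), 0, 0, 14685), ((1, [41, 14, 14, 14, 14]), 0, 0, 70786), ((1, [42, 14, 14, 14, 14]), 0, 0, 70786), ((1, [41, 41, 14, 14, 14]), 0, 0, 32671), ((1,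 [42, 41, 14, 14, 14]), 0, 0, 58497), ((1, [41, 42, 14, 14, 14]), 0, 0, 62974), ((1, [14, 14, 14, 14, 14, 14]), 0, 0, 46214), ((1, [41, 14, 14, 14, 14, 14]), 0, 0, 14685), ((1, [42, 14, 14, 14, 14, 14]), 0, 0, 14685), ((1, [41, 41, 14, 14, 14, 14]), 0, 0, 70786), ((1, [42, 41, 14, 14, 14, 14]), 0, 0, 50414), ((1, [41, 42, 14, 14, 14, 14]), 0, 0, 88953), ((1, [14, 14, 14, 14, 14, 14, 14]), 0, 0, 74116), ((1, [41, 14, 14, 14, 14, 14, 14]), 0, 0, 46214), ((1, [42, 14, 14, 14, 14, 14, 14]), 0, 0, 46214), ((1, [41, 41, 14, 14, 14, 14, 14]), 0, 0, 14685), ((1, [42, 41, 14, 14, 14, 14, 14]), 0, 0, 8787), ((1, [41, 42, 14, 14, 14, 14, 14]), 0, 0, 39065), ((1, [14, 14, 14, 14, 14, 14, 14, 14]), 0, 0, 27790), ((1, [41, 14, 14, 14, 14, 14, 14, 14]), 0, 0, 74116), ((1, [42, 14, 14, 14, 14, 14, 14, 14]), 0, 0, 74116), ((1, [41, 41, 14, 14, 14, 14, 14, 14]), 0, 0, 46214), ((1, [42, 41, 14, 14, 14,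 14, 14, 14]), 0, 0, 43478), ((1, [41, 42, 14, 14, 14, 14, 14, 14]), 0, 0, 37773), ((1, [14, 14, 14, 14, 14, 14, 14, 14, 14]), 0, 0, 36067), ((1, [41, 14, 14, 14, 14, 14, 14, 14, 14]), 0, 0, 27790), ((1, [42, 14, 14, 14, 14, 14, 14, 14, 14]), 0, 0, 27790), ((1, [41, 41, 14, 14, 14, 14, 14, 14, 14]), 0, 0, 74116), ((1, [42, 41, 14, 14, 14, 14, 14, 14, 14]), 0, 0, 58285), ((1, [41, 42, 14, 14, 14, 14, 14, 14, 14]), 0, 0, 26727), ((1, [14, 14, 14, 14, 14, 14, 14, 14, 14, 14]), 0, 0, 44103), ((1, [41, 14, 14, 14, 14, 14, 14, 14, 14, 14]), 0, 0, 36067), ((1, [42, 14, 14, 14, 14, 14, 14, 14, 14, 14]), 0, 0, 36067), ((1, [41, 41, 14, 14, 14, 14, 14, 14, 14, 14]), 0, 0, 27790), ((1, [42, 41, 14, 14, 14, 14, 14, 14, 14, 14]), 0, 0, 97501), ((1, [41, 42, 14, 14, 14, 14, 14, 14, 14, 14]), 0, 0, 94286), ((1, [41, 14, 14, 14, 14, 14, 14, 14, 14, 14, 14]), 0, 0, 44103), ((1, [42, 14, 14, 14, 14,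 14, 14, 14, 14, 14, 14]), 0, 0, 44103), ((1, [41, 41, 14, 14, 14, 14, 14, 14, 14, 14, 14]), 0, 0, 36067), ((1, [42, 41, 14, 14, 14, 14, 14, 14, 14, 14, 14]), 0, 0, 7433), ((1, [41, 42, 14, 14, 14, 14, 14, 14, 14, 14, 14]), 0, 0, 6977), ((1, [41, 41, 14, 14, 14, 14, 14, 14, 14, 14, 14, 14]), 0, 0, 44103), ((1, [42, 41, 14, 14, 14, 14, 14, 14, 14, 14, 14, 14]), 0, 0, 34788), ((1, [41, 42, 14, 14, 14, 14, 14, 14, 14, 14, 14, 14]), 0, 0, 33970), ((5, []), 1, 0, 78871), ((5, [14]), 0, 0, 44555), ((5, [41]), 1, 0, 8394), ((5, [42]), 1, 0, 36690), ((5, [14, 14]), 0, 0, 5390), ((5, [41, 14]), 0, 0, 44555), ((5, [42, 14]), 0, 0, 44555), ((5, [41, 41]), 1, 0, 35930), ((5, [42, 41]), 0, 0, 2403), ((5, [41, 42]), 0, 0, 906), ((5, [14, 14, 14]), 0, 0, 32671), ((5, [41, 14, 14]), 0, 0, 5390), ((5, [42, 14, 14]), 0, 0, 5390), ((5, [41, 41, 14]), 0, 0, 44555), ((5, [42, 41, 14]), 0, 0, 6526), ((5,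 [41, 42, 14]), 0, 0, 8052), ((5, [14, 14, 14, 14]), 0, 0, 70786), ((5, [41, 14, 14, 14]), 0, 0, 32671), ((5, [42, 14, 14, 14]), 0, 0, 32671), ((5, [41, 41, 14, 14]), 0, 0, 5390), ((5, [42, 41, 14, 14]), 0, 0, 43037), ((5, [41, 42, 14, 14]), 0, 0, 6074), ((5, [14, 14, 14, 14, 14]), 0, 0, 14685), ((5, [41, 14, 14, 14, 14]), 0, 0, 70786), ((5, [42, 14, 14, 14, 14]), 0, 0, 70786), ((5, [41, 41, 14, 14, 14]), 0, 0, 32671), ((5, [42, 41, 14, 14, 14]), 0, 0, 58497), ((5, [41, 42, 14, 14, 14]), 0, 0, 62974), ((5, [14, 14, 14, 14, 14, 14]), 0, 0, 46214), ((5, [41, 14, 14, 14, 14, 14]), 0, 0, 14685), ((5, [42, 14, 14, 14, 14, 14]), 0, 0, 14685), ((5, [41, 41, 14, 14, 14, 14]), 0, 0, 70786), ((5, [42, 41, 14, 14, 14, 14]), 0, 0, 50414), ((5, [41, 42, 14, 14, 14, 14]), 0, 0, 88953), ((5, [14, 14, 14, 14, 14, 14, 14]), 0, 0, 74116), ((5, [41, 14, 14, 14, 14, 14, 14]), 0, 0, 46214), ((5, [42, 14,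 14, 14, 14, 14, 14]), 0, 0, 46214), ((5, [41, 41, 14, 14, 14, 14, 14]), 0, 0, 14685), ((5, [42, 41, 14, 14, 14, 14, 14]), 0, 0, 8787), ((5, [41, 42, 14, 14, 14, 14, 14]), 0, 0, 39065), ((5, [14, 14, 14, 14, 14, 14, 14, 14]), 0, 0, 27790), ((5, [41, 14, 14, 14, 14, 14, 14, 14]), 0, 0, 74116), ((5, [42, 14, 14, 14, 14, 14, 14, 14]), 0, 0, 74116), ((5, [41, 41, 14, 14, 14, 14, 14, 14]), 0, 0, 46214), ((5, [42, 41, 14, 14, 14, 14, 14, 14]), 0, 0, 43478), ((5, [41, 42, 14, 14, 14, 14, 14, 14]), 0, 0, 37773), ((5, [14, 14, 14, 14, 14, 14, 14, 14, 14]), 0, 0, 36067), ((5, [41, 14, 14, 14, 14, 14, 14, 14, 14]), 0, 0, 27790), ((5, [42, 14, 14, 14, 14, 14, 14, 14, 14]), 0, 0, 27790), ((5, [41, 41, 14, 14, 14, 14, 14, 14, 14]), 0, 0, 74116), ((5, [42, 41, 14, 14, 14, 14, 14, 14, 14]), 0, 0, 58285), ((5, [41, 42, 14, 14, 14, 14, 14, 14, 14]), 0, 0, 26727), ((5, [14, 14, 14, 14, 14, 14, 14, 14,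 14, 14]), 0, 0, 44103), ((5, [41, 14, 14, 14, 14, 14, 14, 14, 14, 14]), 0, 0, 36067), ((5, [42, 14, 14, 14, 14, 14, 14, 14, 14, 14]), 0, 0, 36067), ((5, [41, 41, 14, 14, 14, 14, 14, 14, 14, 14]), 0, 0, 27790), ((5, [42, 41, 14, 14, 14, 14, 14, 14, 14, 14]), 0, 0, 97501), ((5, [41, 42, 14, 14, 14, 14, 14, 14, 14, 14]), 0, 0, 94286), ((5, [41, 14, 14, 14, 14, 14, 14, 14, 14, 14, 14]), 0, 0, 44103), ((5, [42, 14, 14, 14, 14, 14, 14, 14, 14, 14, 14]), 0, 0, 44103), ((5, [41, 41, 14, 14, 14, 14, 14, 14, 14, 14, 14]), 0, 0, 36067), ((5, [42, 41, 14, 14, 14, 14, 14, 14, 14, 14, 14]), 0, 0, 7433), ((5, [41, 42, 14, 14, 14, 14, 14, 14, 14, 14, 14]), 0, 0, 6977), ((5, [41, 41, 14, 14, 14, 14, 14, 14, 14, 14, 14, 14]), 0, 0, 44103), ((5, [42, 41, 14, 14, 14, 14, 14, 14, 14, 14, 14, 14]), 0, 0, 34788), ((5, [41, 42, 14, 14, 14, 14, 14, 14, 14, 14, 14, 14]), 0, 0, 33970)]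
end H0.OCo1
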