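import Cfsg.Agent.H0.OCo1.D
set_option maxRecDepth 100000
set_option Elab.async false
set_option linter.unusedSectionVars false
namespace H0.OCo1
open H0 BN 
theorem c0 : Model.fixP R [23931, 2814, 59972, 96435, 43881, 62044] [[28]] = true := by decide +kernel
theorem c1 : Model.growP R [[28]] [0] 8498 2 = true := by decide +kernel
theorem c2 : Model.fixP R [2814, 59972, 96435, 43881, 62044] [[26], [27]] = true := by decide +kernel
theorem c3 : Model.growP R [[26], [27]] [0, 0, 1, 0, 0, 1, 0, 0, 1, 0, 0, 1, 0] 23931 30 = true := by decide +kernel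
theorem c4 : Model.fixP R [59972, 96435, 43881, 62044] [[24], [25]] = true := by decide +kernel
theorem c5 : Model.growP R [[24], [25]] [0, 1, 0, 1, 0, 1, 0, 1, 0, 1, 0, 1, 0, 1, 0] 2814 336 = true := by decide +kernel
theorem c6 : Model.fixP R [96435, 43881, 62044] [[22], [23]] = true := by decide +kernel
theorem c7 : Model.growP R [[22], [23]] [0, 1, 0, 1, 0, 1, 0, 1, 0, 1, 0, 1, 0, 1, 0, 1, 0] 59972 512 = true := by decide +kernel
theorem c8 : Model.fixP R [43881, 62044] [[20], [21]] = true := by decide +kernel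
theorem c9 : Model.growP R [[20], [21]] [0, 1, 0, 1, 0, 1, 0, 1, 0, 1, 0, 1, 0, 1, 0, 1, 0, 0] 96435 891 = true := by decide +kernel
theorem c10 : Model.fixP R [62044] [[18], [19]] = true := by decide +kernel
theorem c11 : Model.growP R [[18], [19]] [0, 1, 0, 1, 0, 1, 0, 1, 0, 1, 0, 1, 0, 1, 0, 1, 0, 1, 0, 1, 0] 43881 4600 = true := by decide +kernel
theorem c12 : Model.fixP R [] [[16], [17]] = true := by decide +kernel
theorem c13 : Model.growP R [[16], [17]] [1, 0, 1, 0, 1, 0, 1, 0, 1, 0, 1, 0, 1, 0, 1, 0, 1, 0, 1, 0, 1, 0, 1, 0, 1, 0, 1, 0, 1] 62044 98280 = true := by decide +kernel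
theorem c14 : cycB R (subst [[13]] []) [62044] = true := by decide +kernel
theorem c15 : cycB R (subst [[13]] [0]) [39226, 8498, 23931, 2814, 59972, 96435, 43881] = true := by decide +kernel
theorem c16 : cycB R (subst [[13]] [0]) [39226, 8498, 23931, 2814, 59972, 96435, 43881] = true := by decide +kernel
theorem c17 : allL (leafB R xOT (subst [[13]] [0]) [1, 2, 3, 4, 5, 6, 7] [39226, 8498, 23931, 2814, 59972, 96435, 43881] [62044] [62044]) xL17 = true := by decide +kernel
theorem c18 : allL (leafB R xOT (subst [[13]] [0]) [1, 2, 3, 4, 5, 6, 7] [39226, 8498, 23931, 2814, 59972, 96435, 43881] [62044] [62044]) xL18 = true := by decide +kernel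
theorem c19 : allL (leafB R xOT (subst [[13]] [0]) [1, 2, 3, 4, 5, 6, 7] [39226, 8498, 23931, 2814, 59972, 96435, 43881] [62044] [62044]) xL19 = true := by decide +kernel
theorem c20 : allL (leafB R xOT (subst [[13]] [0]) [1, 2, 3, 4, 5, 6, 7] [39226, 8498, 23931, 2814, 59972, 96435, 43881] [62044] [62044]) xL20 = true := by decide +kernel
theorem c21 : allL (leafB R xOT (subst [[13]] [0]) [1, 2, 3, 4, 5, 6, 7] [39226, 8498, 23931, 2814, 59972, 96435, 43881] [62044] [62044]) xL21 = true := by decide +kernel
theorem c22 : allL (leafB R xOT (subst [[13]] [0]) [1, 2, 3, 4, 5, 6, 7] [39226, 8498, 23931, 2814, 59972, 96435, 43881] [62044] [62044]) xL22 = true := by decide +kernel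
theorem c23 : allL (leafB R xOT (subst [[13]] [0]) [1, 2, 3, 4, 5, 6, 7] [39226, 8498, 23931, 2814, 59972, 96435, 43881] [62044] [62044]) xL23 = true := by decide +kernel
theorem c24 : allL (leafB R xOT (subst [[13]] [0]) [1, 2, 3, 4, 5, 6, 7] [39226, 8498, 23931, 2814, 59972, 96435, 43881] [62044] [62044]) xL24 = true := by decide +kernel
theorem c25 : allL (leafB R xOT (subst [[13]] [0]) [1, 2, 3, 4, 5, 6, 7] [39226, 8498, 23931, 2814, 59972, 96435, 43881] [62044] [62044]) xL25 = true := by decide +kernel
theorem c26 : allL (leafB R xOT (subst [[13]] [0]) [1, 2, 3, 4, 5, 6, 7] [39226, 8498, 23931, 2814, 59972, 96435, 43881] [62044] [62044]) xL26 = true := by decide +kernel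
theorem c27 : allL (leafB R xOT (subst [[13]] [0]) [1, 2, 3, 4, 5, 6, 7] [39226, 8498, 23931, 2814, 59972, 96435, 43881] [62044] [62044]) xL27 = true := by decide +kernel
theorem c28 : allL (leafB R xOT (subst [[13]] [0]) [1, 2, 3, 4, 5, 6, 7] [39226, 8498, 23931, 2814, 59972, 96435, 43881] [62044] [62044]) xL28 = true := by decide +kernel
theorem c29 : allL (leafB R xOT (subst [[13]] [0]) [1, 2, 3, 4, 5, 6, 7] [39226, 8498, 23931, 2814, 59972, 96435, 43881] [62044] [62044]) xL29 = true := by decide +kernel
theorem c30 : allL (leafB R xOT (subst [[13]] [0]) [1, 2, 3, 4, 5, 6, 7] [39226, 8498, 23931, 2814, 59972, 96435, 43881] [62044] [62044]) xL30 = true := by decide +kernel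
theorem c31 : allL (leafB R xOT (subst [[13]] [0]) [1, 2, 3, 4, 5, 6, 7] [39226, 8498, 23931, 2814, 59972, 96435, 43881] [62044] [62044]) xL31 = true := by decide +kernel
theorem c32 : allL (leafB R xOT (subst [[13]] [0]) [1, 2, 3, 4, 5, 6, 7] [39226, 8498, 23931, 2814, 59972, 96435, 43881] [62044] [62044]) xL32 = true := by decide +kernel
theorem c33 : allL (leafB R xOT (subst [[13]] [0]) [1, 2, 3, 4, 5, 6, 7] [39226, 8498, 23931, 2814, 59972, 96435, 43881] [62044] [62044]) xL33 = true := by decide +kernel
theorem c34 : allL (leafB R xOT (subst [[13]] [0]) [1, 2, 3, 4, 5, 6, 7] [39226, 8498, 23931, 2814, 59972, 96435, 43881] [62044] [62044]) xL34 = true := by decide +kernel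
theorem c35 : allL (leafB R xOT (subst [[13]] [0]) [1, 2, 3, 4, 5, 6, 7] [39226, 8498, 23931, 2814, 59972, 96435, 43881] [62044] [62044]) xL35 = true := by decide +kernel
theorem c36 : allL (leafB R xOT (subst [[13]] [0]) [1, 2, 3, 4, 5, 6, 7] [39226, 8498, 23931, 2814, 59972, 96435, 43881] [62044] [62044]) xL36 = true := by decide +kernel
theorem c37 : allL (leafB R xOT (subst [[13]] [0]) [1, 2, 3, 4, 5, 6, 7] [39226, 8498, 23931, 2814, 59972, 96435, 43881] [62044] [62044]) xL37 = true := by decide +kernel
theorem c38 : allL (leafB R xOT (subst [[13]] [0]) [1, 2, 3, 4, 5, 6, 7] [39226, 8498, 23931, 2814, 59972, 96435, 43881] [62044] [62044]) xL38 = true := by decide +kernel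
theorem c39 : allL (leafB R xOT (subst [[13]] [0]) [1, 2, 3, 4, 5, 6, 7] [39226, 8498, 23931, 2814, 59972, 96435, 43881] [62044] [62044]) xL39 = true := by decide +kernel
theorem c40 : allL (leafB R xOT (subst [[13]] [0]) [1, 2, 3, 4, 5, 6, 7] [39226, 8498, 23931, 2814, 59972, 96435, 43881] [62044] [62044]) xL40 = true := by decide +kernel
theorem c41 : allL (leafB R xOT (subst [[13]] [0]) [1, 2, 3, 4, 5, 6, 7] [39226, 8498, 23931, 2814, 59972, 96435, 43881] [62044] [62044]) xL41 = true := by decide +kernel
theorem c42 : allL (leafB R xOT (subst [[13]] [0]) [1, 2, 3, 4, 5, 6, 7] [39226, 8498, 23931, 2814, 59972, 96435, 43881] [62044] [62044]) xL42 = true := by decide +kernel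
theorem c43 : allL (leafB R xOT (subst [[13]] [0]) [1, 2, 3, 4, 5, 6, 7] [39226, 8498, 23931, 2814, 59972, 96435, 43881] [62044] [62044]) xL43 = true := by decide +kernel
theorem c44 : freeB R xOT [[13]] xCg [0] [62044] [62044] [] 43881 0 [([], 43881, 3)] [[0]] [0, 0, 0, 0, 0, 0, 0, 0, 0, 0, 0, 0, 0, 0, 0, 0, 0, 0, 0, 0, 0, 0] xc44 = true := by decide +kernel
theorem c45 : cycB R (subst [[13]] []) [62044] = true := by decide +kernel
theorem c46 : exclB R (subst [[13]] [0]) 62044 xD0 = true := by decide +kernel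
theorem c47 : freeB R xOT [[13]] xCg [] [] [] [] 62044 xD0 [([], 62044, 4)] [[0]] [] xc47 = true := by decide +kernel
theorem c48 : Model.invB R (Model.cgens (xch.drop 0)) xO4 = true := by decide +kernel
theorem c49 : Model.invB R (Model.cgens (xch.drop 1)) xO3 = true := by decide +kernel
theorem c50 : Model.invB R (Model.cgens (xch.drop 5)) xO2 = true := by decide +kernel
theorem c51 : Model.invB R (Model.cgens (xch.drop 2)) xO1 = true := by decide +kernel
theorem c52 : Model.invB R (Model.cgens (xch.drop 2)) xO0 = true := by decide +kernel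
theorem c53 : pairsB R [276, 27506, 4601, 98279, 0] (((xCg.flatMap fun w => [[13]].map fun y => (w ++ y, y ++ w)).drop 0).take 1) = true := by decide +kernel
theorem c54 : Model.fixP R [35921, 43099, 62044, 34845, 10662, 82577] [[39], [40]] = true := by decide +kernel
theorem c55 : Model.growP R [[39], [40]] [0, 1, 0] 83406 6 = true := by decide +kernel
theorem c56 : Model.fixP R [43099, 62044, 34845, 10662, 82577] [[37], [38]] = true := by decide +kernel
theorem c57 : Model.growP R [[37], [38]] [0, 1, 0, 0, 0] 35921 10 = true := by decide +kernel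
theorem c58 : Model.fixP R [62044, 34845, 10662, 82577] [[35], [36]] = true := by decide +kernel
theorem c59 : Model.growP R [[35], [36]] [0, 1, 0, 0, 0, 0, 1] 43099 11 = true := by decide +kernel
theorem c60 : Model.fixP R [34845, 10662, 82577] [[33], [34]] = true := by decide +kernel
theorem c61 : Model.growP R [[33], [34]] [0, 1, 0, 1, 0, 1, 0, 1, 0, 1, 0, 1, 0, 1, 0, 1, 0] 62044 672 = true := by decide +kernel
theorem c62 : Model.fixP R [10662, 82577] [[31], [32]] = true := by decide +kernel
theorem c63 : Model.growP R [[31], [32]] [0, 1, 0, 1, 0, 1, 0, 1, 0, 1, 0, 1, 0, 1, 0, 1, 0, 1, 0, 0] 34845 2048 = true := by decide +kernel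
theorem c64 : Model.fixP R [82577] [[29], [30]] = true := by decide +kernel
theorem c65 : Model.growP R [[29], [30]] [0, 1, 0, 1, 0, 1, 0, 1, 0, 1, 0, 1, 0, 1, 0, 1, 0, 1, 0, 1, 0, 1, 0, 1, 0, 0] 10662 46575 = true := by decide +kernel
theorem c66 : Model.fixP R [] [[16], [17]] = true := by decide +kernel
theorem c67 : Model.growP R [[16], [17]] [0, 1, 0, 1, 0, 1, 0, 1, 0, 1, 0, 1, 0, 1, 0, 1, 0, 1, 0, 1, 0, 1, 0, 1, 0, 1, 0, 1] 82577 98280 = true := by decide +kernel
theorem c68 : cycB R (subst [[14]] []) [82577] = true := by decide +kernel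
theorem c69 : cycB R (subst [[14]] []) [10662] = true := by decide +kernel
theorem c70 : cycB R (subst [[14]] []) [34845] = true := by decide +kernel
theorem c71 : cycB R (subst [[14]] []) [62044] = true := by decide +kernel
theorem c72 : cycB R (subst [[14]] [0]) [85247, 83406, 35921, 43099] = true := by decide +kernel
theorem c73 : cycB R (subst [[14]] [0]) [85247, 83406, 35921, 43099] = true := by decide +kernel
theorem c74 : freeB R yOT [[14]] yCg [0, 1, 2, 3] [62044, 34845, 10662, 82577] [62044, 34845, 10662, 82577] [] 43099 0 [([], 43099, 0)] [[0]] [0, 0, 0, 0, 0, 0, 0, 0, 0, 0] yc74 = true := by decide +kernel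
theorem c75 : cycB R (subst [[14]] []) [62044] = true := by decide +kernel
theorem c76 : exclB R (subst [[14]] [0]) 62044 yD3 = true := by decide +kernel
theorem c77 : freeB R yOT [[14]] yCg [0, 1, 2] [34845, 10662, 82577] [34845, 10662, 82577] [] 62044 yD3 [([], 62044, 1)] [[0]] [] yc77 = true := by decide +kernel
theorem c78 : cycB R (subst [[14]] []) [34845] = true := by decide +kernel
theorem c79 : allL (leafB R yOT (subst [[14]] [0]) [1, 2, 3, 4, 5, 6, 7] [85247, 83406, 35921, 43099] [62044, 34845, 10662, 82577] [77927, 81856, 10662, 82577]) yL79 = true := by decide +kernel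
theorem c80 : freeB R yOT [[14]] yCg [0, 1, 2, 3] [62044, 34845, 10662, 82577] [77927, 81856, 10662, 82577] [33, 34, 34, 34, 34, 33, 33, 34, 33, 33, 31, 32, 32, 31, 31, 31, 32, 32, 31, 31, 32] 43099 0 [([], 43099, 0)] [[0]] [0, 0, 0, 0, 0, 0, 0, 0, 0, 0] yc80 = true := by decide +kernel
theorem c81 : cycB R (subst [[14]] []) [77927] = true := by decide +kernel
theorem c82 : freeB R yOT [[14]] yCg [0, 1, 2] [34845, 10662, 82577] [81856, 10662, 82577] [31, 32, 32, 31, 31, 31, 32, 32, 31, 31, 32] 62044 yD3 [([], 62044, 1)] [[0]] [] yc82 = true := by decide +kernel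
theorem c83 : cycB R (subst [[14]] []) [81856] = true := by decide +kernel
theorem c84 : exclB R (subst [[14]] [0]) 34845 yD2 = true := by decide +kernel
theorem c85 : freeB R yOT [[14]] yCg [0, 1] [10662, 82577] [10662, 82577] [] 34845 yD2 [([], 34845, 3)] [[0]] [] yc85 = true := by decide +kernel
theorem c86 : cycB R (subst [[14]] []) [10662] = true := by decide +kernel
theorem c87 : exclB R (subst [[14]] [0]) 10662 yD1 = true := by decide +kernel
theorem c88 : freeB R yOT [[14]] yCg [0] [82577] [82577] [] 10662 yD1 [([], 10662, 4)] [[0]] [] yc88 = true := by decide +kernel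
theorem c89 : cycB R (subst [[14]] []) [82577] = true := by decide +kernel
theorem c90 : exclB R (subst [[14]] [0]) 82577 yD0 = true := by decide +kernel
theorem c91 : freeB R yOT [[14]] yCg [] [] [] [] 82577 yD0 [([], 82577, 5)] [[0], [1], [2]] [1, 2, 1] yc91 = true := by decide +kernel
theorem c92 : Model.invB R (Model.cgens (ych.drop 0)) yO5 = true := by decide +kernel
theorem c93 : Model.invB R (Model.cgens (ych.drop 1)) yO4 = true := by decide +kernel
theorem c94 : Model.invB R (Model.cgens (ych.drop 2)) yO3 = true := by decide +kernel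
theorem c95 : Model.invB R (Model.cgens (ych.drop 6)) yO2 = true := by decide +kernel
theorem c96 : Model.invB R (Model.cgens (ych.drop 3)) yO1 = true := by decide +kernel
theorem c97 : Model.invB R (Model.cgens (ych.drop 4)) yO0 = true := by decide +kernel
theorem c98 : pairsB R [276, 27506, 4601, 98279, 0] (((yCg.flatMap fun w => [[14]].map fun y => (w ++ y, y ++ w)).drop 0).take 3) = true := by decide +kernel
theorem c99 : pairsB R [276, 27506, 4601, 98279, 0] ((CE.drop 0).take 7) = true := by decide +kernel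
theorem c100 : pairsB R [276, 27506, 4601, 98279, 0] ((CE.drop 7).take 4) = true := by decide +kernel
theorem c101 : pairsB R [276, 27506, 4601, 98279, 0] ((CE.drop 11).take 4) = true := by decide +kernel
theorem c102 : pairsB R [276, 27506, 4601, 98279, 0] ((CE.drop 15).take 3) = true := by decide +kernel
theorem c103 : pairsB R [276, 27506, 4601, 98279, 0] ((CE.drop 18).take 3) = true := by decide +kernel
theorem c104 : pairsB R [276, 27506, 4601, 98279, 0] ((CE.drop 21).take 2) = true := by decide +kernel
end H0.OCo1
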