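import Cfsg.Agent.H0.OCo1.D
set_option maxRecDepth 100000
set_option Elab.async false
set_option linter.unusedSectionVars false
namespace H0.OCo1
open H0 BN 
theorem c105 : pairsB R [276, 27506, 4601, 98279, 0] ((CE.drop 23).take 2) = true := by decide +kernel
theorem c106 : pairsB R [276, 27506, 4601, 98279, 0] ((CE.drop 25).take 2) = true := by decide +kernel
theorem c107 : pairsB R [276, 27506, 4601, 98279, 0] ((CE.drop 27).take 2) = true := by decide +kernel
theorem c108 : pairsB R [276, 27506, 4601, 98279, 0] ((CE.drop 29).take 2) = true := by decide +kernel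
theorem c109 : pairsB R [276, 27506, 4601, 98279, 0] ((CE.drop 31).take 2) = true := by decide +kernel
theorem c110 : pairsB R [276, 27506, 4601, 98279, 0] ((CE.drop 33).take 2) = true := by decide +kernel
theorem c111 : pairsB R [276, 27506, 4601, 98279, 0] ((CE.drop 35).take 2) = true := by decide +kernel
theorem c112 : pairsB R [276, 27506, 4601, 98279, 0] ((CE.drop 37).take 2) = true := by decide +kernel
theorem c113 : pairsB R [276, 27506, 4601, 98279, 0] ((CE.drop 39).take 1) = true := by decide +kernel
end H0.OCo1
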