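import Cfsg.Agent.H0.OCo1.D
set_option maxRecDepth 100000
set_option Elab.async false
set_option linter.unusedSectionVars false
namespace H0.OCo1
open H0 BN 
theorem c190 : pairsB R [276, 27506, 4601, 98279, 0] ((CE.drop 178).take 1) = true := by decide +kernel
theorem c191 : pairsB R [276, 27506, 4601, 98279, 0] ((CE.drop 179).take 1) = true := by decide +kernel
theorem c192 : pairsB R [276, 27506, 4601, 98279, 0] ((CE.drop 180).take 1) = true := by decide +kernel
theorem c193 : pairsB R [276, 27506, 4601, 98279, 0] ((CE.drop 181).take 1) = true := by decide +kernel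
theorem c194 : pairsB R [276, 27506, 4601, 98279, 0] ((CE.drop 182).take 1) = true := by decide +kernel
theorem c195 : pairsB R [276, 27506, 4601, 98279, 0] ((CE.drop 183).take 1) = true := by decide +kernel
theorem c196 : pairsB R [276, 27506, 4601, 98279, 0] ((CE.drop 184).take 1) = true := by decide +kernel
theorem c197 : pairsB R [276, 27506, 4601, 98279, 0] ((CE.drop 185).take 1) = true := by decide +kernel
theorem c198 : pairsB R [276, 27506, 4601, 98279, 0] ((CE.drop 186).take 1) = true := by decide +kernel
theorem c199 : pairsB R [276, 27506, 4601, 98279, 0] ((CE.drop 187).take 1) = true := by decide +kernel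
theorem c200 : pairsB R [276, 27506, 4601, 98279, 0] ((CE.drop 188).take 1) = true := by decide +kernel
theorem c201 : pairsB R [276, 27506, 4601, 98279, 0] ((CE.drop 189).take 1) = true := by decide +kernel
end H0.OCo1
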