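import Cfsg.Agent.H0.OCo1.D
set_option maxRecDepth 100000
set_option Elab.async false
set_option linter.unusedSectionVars false
namespace H0.OCo1
open H0 BN 
theorem c202 : pairsB R [276, 27506, 4601, 98279, 0] ((CE.drop 190).take 1) = true := by decide +kernel
theorem c203 : pairsB R [276, 27506, 4601, 98279, 0] ((CE.drop 191).take 1) = true := by decide +kernel
theorem c204 : pairsB R [276, 27506, 4601, 98279, 0] ((CE.drop 192).take 1) = true := by decide +kernel
theorem c205 : pairsB R [276, 27506, 4601, 98279, 0] ((CE.drop 193).take 1) = true := by decide +kernel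
theorem c206 : pairsB R [276, 27506, 4601, 98279, 0] ((CE.drop 194).take 1) = true := by decide +kernel
theorem c207 : pairsB R [276, 27506, 4601, 98279, 0] ((CE.drop 195).take 1) = true := by decide +kernel
theorem c208 : pairsB R [276, 27506, 4601, 98279, 0] ((CE.drop 196).take 1) = true := by decide +kernel
theorem c209 : pairsB R [276, 27506, 4601, 98279, 0] ((CE.drop 197).take 1) = true := by decide +kernel
theorem c210 : pairsB R [276, 27506, 4601, 98279, 0] (((Model.outE 13 14 15 [14] 23 2 1 1 RL).drop 0).take 3) = true := by decide +kernel
theorem c211 : pairsB R [276, 27506, 4601, 98279, 0] (((Model.outE 13 14 15 [14] 23 2 1 1 RL).drop 3).take 2) = true := by decide +kernel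
end H0.OCo1
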