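import Cfsg.Agent.H0.OCo1.D
set_option maxRecDepth 100000
set_option Elab.async false
set_option linter.unusedSectionVars false
namespace H0.OCo1
open H0 BN 
theorem c212 : pairsB R [276, 27506, 4601, 98279, 0] (((Model.outE 13 14 15 [14] 23 2 1 1 RL).drop 5).take 1) = true := by decide +kernel
theorem c213 : neB R [13] [] 0 54306 0 = true := by decide +kernel
theorem c214 : allL (elimB R 13 14 15 RL [(1, [])]) ((EL.drop 0).take 14) = true := by decide +kernel
theorem c215 : allL (elimB R 13 14 15 RL [(1, [])]) ((EL.drop 14).take 22) = true := by decide +kernel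
theorem c216 : allL (elimB R 13 14 15 RL [(1, [])]) ((EL.drop 36).take 15) = true := by decide +kernel
theorem c217 : allL (elimB R 13 14 15 RL [(1, [])]) ((EL.drop 51).take 12) = true := by decide +kernel
theorem c218 : allL (elimB R 13 14 15 RL [(1, [])]) ((EL.drop 63).take 5) = true := by decide +kernel
theorem c219 : allL (elimB R 13 14 15 RL [(1, [])]) ((EL.drop 68).take 3) = true := by decide +kernel
end H0.OCo1
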