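import Cfsg.Agent.H0.OCo1.D
set_option maxRecDepth 100000
set_option Elab.async false
set_option linter.unusedSectionVars false
namespace H0.OCo1
open H0 BN 
theorem c220 : allL (elimB R 13 14 15 RL [(1, [])]) ((EL.drop 71).take 17) = true := by decide +kernel
theorem c221 : allL (elimB R 13 14 15 RL [(1, [])]) ((EL.drop 88).take 19) = true := by decide +kernel
theorem c222 : allL (elimB R 13 14 15 RL [(1, [])]) ((EL.drop 107).take 13) = true := by decide +kernel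
theorem c223 : allL (elimB R 13 14 15 RL [(1, [])]) ((EL.drop 120).take 11) = true := by decide +kernel
theorem c224 : allL (elimB R 13 14 15 RL [(1, [])]) ((EL.drop 131).take 1) = true := by decide +kernel
theorem c225 : eqW R 0 3 [42] [2, 0, 2, 1, 0, 2, 0, 1, 2, 0, 1, 2, 1, 2, 1, 2, 1, 3, 4, 4, 3, 3, 3, 4, 3, 4, 3, 3, 4, 3, 4, 4, 3, 4, 3, 6, 6, 6, 5, 6, 6, 5, 6, 5, 6, 5, 6, 6, 6, 7, 8, 8, 7, 8, 7, 7, 8, 9, 10] = true := by decide +kernel
theorem c226 : eqW R 3 3 [42] [2, 0, 2, 1, 0, 2, 0, 1, 2, 0, 1, 2, 1, 2, 1, 2, 1, 3, 4, 4, 3, 3, 3, 4, 3, 4, 3, 3, 4, 3, 4, 4, 3, 4, 3, 6, 6, 6, 5, 6, 6, 5, 6, 5, 6, 5, 6, 6, 6, 7, 8, 8, 7, 8, 7, 7, 8, 9, 10] = true := by decide +kernel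
theorem c227 : eqW R 6 3 [42] [2, 0, 2, 1, 0, 2, 0, 1, 2, 0, 1, 2, 1, 2, 1, 2, 1, 3, 4, 4, 3, 3, 3, 4, 3, 4, 3, 3, 4, 3, 4, 4, 3, 4, 3, 6, 6, 6, 5, 6, 6, 5, 6, 5, 6, 5, 6, 6, 6, 7, 8, 8, 7, 8, 7, 7, 8, 9, 10] = true := by decide +kernel
theorem c228 : eqW R 9 3 [42] [2, 0, 2, 1, 0, 2, 0, 1, 2, 0, 1, 2, 1, 2, 1, 2, 1, 3, 4, 4, 3, 3, 3, 4, 3, 4, 3, 3, 4, 3, 4, 4, 3, 4, 3, 6, 6, 6, 5, 6, 6, 5, 6, 5, 6, 5, 6, 6, 6, 7, 8, 8, 7, 8, 7, 7, 8, 9, 10] = true := by decide +kernel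
theorem c229 : eqW R 12 3 [42] [2, 0, 2, 1, 0, 2, 0, 1, 2, 0, 1, 2, 1, 2, 1, 2, 1, 3, 4, 4, 3, 3, 3, 4, 3, 4, 3, 3, 4, 3, 4, 4, 3, 4, 3, 6, 6, 6, 5, 6, 6, 5, 6, 5, 6, 5, 6, 6, 6, 7, 8, 8, 7, 8, 7, 7, 8, 9, 10] = true := by decide +kernel
theorem c230 : eqW R 15 2 [42] [2, 0, 2, 1, 0, 2, 0, 1, 2, 0, 1, 2, 1, 2, 1, 2, 1, 3, 4, 4, 3, 3, 3, 4, 3, 4, 3, 3, 4, 3, 4, 4, 3, 4, 3, 6, 6, 6, 5, 6, 6, 5, 6, 5, 6, 5, 6, 6, 6, 7, 8, 8, 7, 8, 7, 7, 8, 9, 10] = true := by decide +kernel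
theorem c231 : eqW R 0 3 [41] [1, 0, 1, 0, 2, 1, 2, 0, 1, 2, 0, 2, 1, 2, 1, 3, 4, 4, 3, 3, 4, 3, 3, 4, 3, 4, 3, 4, 3, 3, 3, 4, 3, 4, 6, 5, 5, 5, 6, 5, 6, 6, 5, 6, 6, 6, 6, 6, 8, 7, 8, 8, 7, 7, 8, 7, 7, 7, 8, 7, 7, 10, 9] = true := by decide +kernel
theorem c232 : eqW R 3 3 [41] [1, 0, 1, 0, 2, 1, 2, 0, 1, 2, 0, 2, 1, 2, 1, 3, 4, 4, 3, 3, 4, 3, 3, 4, 3, 4, 3, 4, 3, 3, 3, 4, 3, 4, 6, 5, 5, 5, 6, 5, 6, 6, 5, 6, 6, 6, 6, 6, 8, 7, 8, 8, 7, 7, 8, 7, 7, 7, 8, 7, 7, 10, 9] = true := by decide +kernel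
theorem c233 : eqW R 6 3 [41] [1, 0, 1, 0, 2, 1, 2, 0, 1, 2, 0, 2, 1, 2, 1, 3, 4, 4, 3, 3, 4, 3, 3, 4, 3, 4, 3, 4, 3, 3, 3, 4, 3, 4, 6, 5, 5, 5, 6, 5, 6, 6, 5, 6, 6, 6, 6, 6, 8, 7, 8, 8, 7, 7, 8, 7, 7, 7, 8, 7, 7, 10, 9] = true := by decide +kernel
theorem c234 : eqW R 9 3 [41] [1, 0, 1, 0, 2, 1, 2, 0, 1, 2, 0, 2, 1, 2, 1, 3, 4, 4, 3, 3, 4, 3, 3, 4, 3, 4, 3, 4, 3, 3, 3, 4, 3, 4, 6, 5, 5, 5, 6, 5, 6, 6, 5, 6, 6, 6, 6, 6, 8, 7, 8, 8, 7, 7, 8, 7, 7, 7, 8, 7, 7, 10, 9] = true := by decide +kernel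
theorem c235 : eqW R 12 3 [41] [1, 0, 1, 0, 2, 1, 2, 0, 1, 2, 0, 2, 1, 2, 1, 3, 4, 4, 3, 3, 4, 3, 3, 4, 3, 4, 3, 4, 3, 3, 3, 4, 3, 4, 6, 5, 5, 5, 6, 5, 6, 6, 5, 6, 6, 6, 6, 6, 8, 7, 8, 8, 7, 7, 8, 7, 7, 7, 8, 7, 7, 10, 9] = true := by decide +kernel
theorem c236 : eqW R 15 2 [41] [1, 0, 1, 0, 2, 1, 2, 0, 1, 2, 0, 2, 1, 2, 1, 3, 4, 4, 3, 3, 4, 3, 3, 4, 3, 4, 3, 4, 3, 3, 3, 4, 3, 4, 6, 5, 5, 5, 6, 5, 6, 6, 5, 6, 6, 6, 6, 6, 8, 7, 8, 8, 7, 7, 8, 7, 7, 7, 8, 7, 7, 10, 9] = true := by decide +kernel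
theorem c237 : eqW R 0 3 [40] [37, 38, 37, 37, 37, 37, 38] = true := by decide +kernel
theorem c238 : eqW R 3 3 [40] [37, 38, 37, 37, 37, 37, 38] = true := by decide +kernel
theorem c239 : eqW R 6 3 [40] [37, 38, 37, 37, 37, 37, 38] = true := by decide +kernel
theorem c240 : eqW R 9 3 [40] [37, 38, 37, 37, 37, 37, 38] = true := by decide +kernel
theorem c241 : eqW R 12 3 [40] [37, 38, 37, 37, 37, 37, 38] = true := by decide +kernel
theorem c242 : eqW R 15 2 [40] [37, 38, 37, 37, 37, 37, 38] = true := by decide +kernel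
theorem c243 : eqW R 0 3 [39] [38, 37, 37, 38] = true := by decide +kernel
theorem c244 : eqW R 3 3 [39] [38, 37, 37, 38] = true := by decide +kernel
theorem c245 : eqW R 6 3 [39] [38, 37, 37, 38] = true := by decide +kernel
theorem c246 : eqW R 9 3 [39] [38, 37, 37, 38] = true := by decide +kernel
theorem c247 : eqW R 12 3 [39] [38, 37, 37, 38] = true := by decide +kernel
theorem c248 : eqW R 15 2 [39] [38, 37, 37, 38] = true := by decide +kernel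
theorem c249 : eqW R 0 3 [38] [35, 35, 36, 35, 35, 36] = true := by decide +kernel
theorem c250 : eqW R 3 3 [38] [35, 35, 36, 35, 35, 36] = true := by decide +kernel
theorem c251 : eqW R 6 3 [38] [35, 35, 36, 35, 35, 36] = true := by decide +kernel
theorem c252 : eqW R 9 3 [38] [35, 35, 36, 35, 35, 36] = true := by decide +kernel
theorem c253 : eqW R 12 3 [38] [35, 35, 36, 35, 35, 36] = true := by decide +kernel
theorem c254 : eqW R 15 2 [38] [35, 35, 36, 35, 35, 36] = true := by decide +kernel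
theorem c255 : eqW R 0 3 [37] [35, 35, 36, 35, 36, 35] = true := by decide +kernel
theorem c256 : eqW R 3 3 [37] [35, 35, 36, 35, 36, 35] = true := by decide +kernel
theorem c257 : eqW R 6 3 [37] [35, 35, 36, 35, 36, 35] = true := by decide +kernel
theorem c258 : eqW R 9 3 [37] [35, 35, 36, 35, 36, 35] = true := by decide +kernel
theorem c259 : eqW R 12 3 [37] [35, 35, 36, 35, 36, 35] = true := by decide +kernel
theorem c260 : eqW R 15 2 [37] [35, 35, 36, 35, 36, 35] = true := by decide +kernel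
theorem c261 : eqW R 0 3 [36] [34, 33, 33, 33, 34, 34, 33, 34, 33, 33, 34] = true := by decide +kernel
theorem c262 : eqW R 3 3 [36] [34, 33, 33, 33, 34, 34, 33, 34, 33, 33, 34] = true := by decide +kernel
theorem c263 : eqW R 6 3 [36] [34, 33, 33, 33, 34, 34, 33, 34, 33, 33, 34] = true := by decide +kernel
theorem c264 : eqW R 9 3 [36] [34, 33, 33, 33, 34, 34, 33, 34, 33, 33, 34] = true := by decide +kernel
theorem c265 : eqW R 12 3 [36] [34, 33, 33, 33, 34, 34, 33, 34, 33, 33, 34] = true := by decide +kernel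
theorem c266 : eqW R 15 2 [36] [34, 33, 33, 33, 34, 34, 33, 34, 33, 33, 34] = true := by decide +kernel
theorem c267 : eqW R 0 3 [35] [34, 33, 34, 34, 34, 33, 33, 34, 33, 33, 33] = true := by decide +kernel
theorem c268 : eqW R 3 3 [35] [34, 33, 34, 34, 34, 33, 33, 34, 33, 33, 33] = true := by decide +kernel
theorem c269 : eqW R 6 3 [35] [34, 33, 34, 34, 34, 33, 33, 34, 33, 33, 33] = true := by decide +kernel
theorem c270 : eqW R 9 3 [35] [34, 33, 34, 34, 34, 33, 33, 34, 33, 33, 33] = true := by decide +kernel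
theorem c271 : eqW R 12 3 [35] [34, 33, 34, 34, 34, 33, 33, 34, 33, 33, 33] = true := by decide +kernel
theorem c272 : eqW R 15 2 [35] [34, 33, 34, 34, 34, 33, 33, 34, 33, 33, 33] = true := by decide +kernel
theorem c273 : eqW R 0 3 [34] [32, 32, 31, 32, 31, 31, 31, 32, 32, 32, 32, 32, 31] = true := by decide +kernel
theorem c274 : eqW R 3 3 [34] [32, 32, 31, 32, 31, 31, 31, 32, 32, 32, 32, 32, 31] = true := by decide +kernel
theorem c275 : eqW R 6 3 [34] [32, 32, 31, 32, 31, 31, 31, 32, 32, 32, 32, 32, 31] = true := by decide +kernel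
theorem c276 : eqW R 9 3 [34] [32, 32, 31, 32, 31, 31, 31, 32, 32, 32, 32, 32, 31] = true := by decide +kernel
theorem c277 : eqW R 12 3 [34] [32, 32, 31, 32, 31, 31, 31, 32, 32, 32, 32, 32, 31] = true := by decide +kernel
theorem c278 : eqW R 15 2 [34] [32, 32, 31, 32, 31, 31, 31, 32, 32, 32, 32, 32, 31] = true := by decide +kernel
theorem c279 : eqW R 0 3 [33] [32, 31, 31, 31, 31, 32, 32, 31, 31, 32] = true := by decide +kernel
theorem c280 : eqW R 3 3 [33] [32, 31, 31, 31, 31, 32, 32, 31, 31, 32] = true := by decide +kernel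
theorem c281 : eqW R 6 3 [33] [32, 31, 31, 31, 31, 32, 32, 31, 31, 32] = true := by decide +kernel
theorem c282 : eqW R 9 3 [33] [32, 31, 31, 31, 31, 32, 32, 31, 31, 32] = true := by decide +kernel
theorem c283 : eqW R 12 3 [33] [32, 31, 31, 31, 31, 32, 32, 31, 31, 32] = true := by decide +kernel
theorem c284 : eqW R 15 2 [33] [32, 31, 31, 31, 31, 32, 32, 31, 31, 32] = true := by decide +kernel
theorem c285 : eqW R 0 3 [32] [30, 29, 30, 29, 30, 30, 30, 29, 30, 29, 29, 30, 30, 29, 30, 29, 30, 29, 30, 29] = true := by decide +kernel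
theorem c286 : eqW R 3 3 [32] [30, 29, 30, 29, 30, 30, 30, 29, 30, 29, 29, 30, 30, 29, 30, 29, 30, 29, 30, 29] = true := by decide +kernel
theorem c287 : eqW R 6 3 [32] [30, 29, 30, 29, 30, 30, 30, 29, 30, 29, 29, 30, 30, 29, 30, 29, 30, 29, 30, 29] = true := by decide +kernel
theorem c288 : eqW R 9 3 [32] [30, 29, 30, 29, 30, 30, 30, 29, 30, 29, 29, 30, 30, 29, 30, 29, 30, 29, 30, 29] = true := by decide +kernel
theorem c289 : eqW R 12 3 [32] [30, 29, 30, 29, 30, 30, 30, 29, 30, 29, 29, 30, 30, 29, 30, 29, 30, 29, 30, 29] = true := by decide +kernel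
theorem c290 : eqW R 15 2 [32] [30, 29, 30, 29, 30, 30, 30, 29, 30, 29, 29, 30, 30, 29, 30, 29, 30, 29, 30, 29] = true := by decide +kernel
theorem c291 : eqW R 0 3 [31] [29, 30, 30, 29, 29, 30, 30, 29, 30, 30, 29, 29, 30, 30, 30, 30, 29, 29, 29] = true := by decide +kernel
theorem c292 : eqW R 3 3 [31] [29, 30, 30, 29, 29, 30, 30, 29, 30, 30, 29, 29, 30, 30, 30, 30, 29, 29, 29] = true := by decide +kernel
theorem c293 : eqW R 6 3 [31] [29, 30, 30, 29, 29, 30, 30, 29, 30, 30, 29, 29, 30, 30, 30, 30, 29, 29, 29] = true := by decide +kernel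
theorem c294 : eqW R 9 3 [31] [29, 30, 30, 29, 29, 30, 30, 29, 30, 30, 29, 29, 30, 30, 30, 30, 29, 29, 29] = true := by decide +kernel
theorem c295 : eqW R 12 3 [31] [29, 30, 30, 29, 29, 30, 30, 29, 30, 30, 29, 29, 30, 30, 30, 30, 29, 29, 29] = true := by decide +kernel
theorem c296 : eqW R 15 2 [31] [29, 30, 30, 29, 29, 30, 30, 29, 30, 30, 29, 29, 30, 30, 30, 30, 29, 29, 29] = true := by decide +kernel
theorem c297 : eqW R 0 3 [30] [17, 17, 17, 16, 16, 16, 17, 16, 16, 16, 16, 17, 17, 16, 16, 16, 17, 16, 16] = true := by decide +kernel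
theorem c298 : eqW R 3 3 [30] [17, 17, 17, 16, 16, 16, 17, 16, 16, 16, 16, 17, 17, 16, 16, 16, 17, 16, 16] = true := by decide +kernel
theorem c299 : eqW R 6 3 [30] [17, 17, 17, 16, 16, 16, 17, 16, 16, 16, 16, 17, 17, 16, 16, 16, 17, 16, 16] = true := by decide +kernel
theorem c300 : eqW R 9 3 [30] [17, 17, 17, 16, 16, 16, 17, 16, 16, 16, 16, 17, 17, 16, 16, 16, 17, 16, 16] = true := by decide +kernel
theorem c301 : eqW R 12 3 [30] [17, 17, 17, 16, 16, 16, 17, 16, 16, 16, 16, 17, 17, 16, 16, 16, 17, 16, 16] = true := by decide +kernel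
theorem c302 : eqW R 15 2 [30] [17, 17, 17, 16, 16, 16, 17, 16, 16, 16, 16, 17, 17, 16, 16, 16, 17, 16, 16] = true := by decide +kernel
theorem c303 : eqW R 0 3 [29] [16, 16, 16, 16, 17, 17, 17, 17, 16, 17, 16, 17, 17, 17, 17, 16] = true := by decide +kernel
theorem c304 : eqW R 3 3 [29] [16, 16, 16, 16, 17, 17, 17, 17, 16, 17, 16, 17, 17, 17, 17, 16] = true := by decide +kernel
theorem c305 : eqW R 6 3 [29] [16, 16, 16, 16, 17, 17, 17, 17, 16, 17, 16, 17, 17, 17, 17, 16] = true := by decide +kernel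
theorem c306 : eqW R 9 3 [29] [16, 16, 16, 16, 17, 17, 17, 17, 16, 17, 16, 17, 17, 17, 17, 16] = true := by decide +kernel
theorem c307 : eqW R 12 3 [29] [16, 16, 16, 16, 17, 17, 17, 17, 16, 17, 16, 17, 17, 17, 17, 16] = true := by decide +kernel
theorem c308 : eqW R 15 2 [29] [16, 16, 16, 16, 17, 17, 17, 17, 16, 17, 16, 17, 17, 17, 17, 16] = true := by decide +kernel
theorem c309 : eqW R 0 3 [28] [26, 27, 26, 26, 26] = true := by decide +kernel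
theorem c310 : eqW R 3 3 [28] [26, 27, 26, 26, 26] = true := by decide +kernel
theorem c311 : eqW R 6 3 [28] [26, 27, 26, 26, 26] = true := by decide +kernel
theorem c312 : eqW R 9 3 [28] [26, 27, 26, 26, 26] = true := by decide +kernel
theorem c313 : eqW R 12 3 [28] [26, 27, 26, 26, 26] = true := by decide +kernel
theorem c314 : eqW R 15 2 [28] [26, 27, 26, 26, 26] = true := by decide +kernel
theorem c315 : eqW R 0 3 [27] [24, 25, 25, 24, 25, 24, 24, 24, 25] = true := by decide +kernel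
theorem c316 : eqW R 3 3 [27] [24, 25, 25, 24, 25, 24, 24, 24, 25] = true := by decide +kernel
theorem c317 : eqW R 6 3 [27] [24, 25, 25, 24, 25, 24, 24, 24, 25] = true := by decide +kernel
theorem c318 : eqW R 9 3 [27] [24, 25, 25, 24, 25, 24, 24, 24, 25] = true := by decide +kernel
theorem c319 : eqW R 12 3 [27] [24, 25, 25, 24, 25, 24, 24, 24, 25] = true := by decide +kernel
theorem c320 : eqW R 15 2 [27] [24, 25, 25, 24, 25, 24, 24, 24, 25] = true := by decide +kernel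
theorem c321 : eqW R 0 3 [26] [24, 24, 25, 25, 24, 25, 24, 25, 24, 25, 24, 25] = true := by decide +kernel
theorem c322 : eqW R 3 3 [26] [24, 24, 25, 25, 24, 25, 24, 25, 24, 25, 24, 25] = true := by decide +kernel
theorem c323 : eqW R 6 3 [26] [24, 24, 25, 25, 24, 25, 24, 25, 24, 25, 24, 25] = true := by decide +kernel
theorem c324 : eqW R 9 3 [26] [24, 24, 25, 25, 24, 25, 24, 25, 24, 25, 24, 25] = true := by decide +kernel
theorem c325 : eqW R 12 3 [26] [24, 24, 25, 25, 24, 25, 24, 25, 24, 25, 24, 25] = true := by decide +kernel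
theorem c326 : eqW R 15 2 [26] [24, 24, 25, 25, 24, 25, 24, 25, 24, 25, 24, 25] = true := by decide +kernel
theorem c327 : eqW R 0 3 [25] [22, 23, 23, 23, 23, 22, 23, 22, 22, 22, 23] = true := by decide +kernel
theorem c328 : eqW R 3 3 [25] [22, 23, 23, 23, 23, 22, 23, 22, 22, 22, 23] = true := by decide +kernel
theorem c329 : eqW R 6 3 [25] [22, 23, 23, 23, 23, 22, 23, 22, 22, 22, 23] = true := by decide +kernel
theorem c330 : eqW R 9 3 [25] [22, 23, 23, 23, 23, 22, 23, 22, 22, 22, 23] = true := by decide +kernel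
theorem c331 : eqW R 12 3 [25] [22, 23, 23, 23, 23, 22, 23, 22, 22, 22, 23] = true := by decide +kernel
theorem c332 : eqW R 15 2 [25] [22, 23, 23, 23, 23, 22, 23, 22, 22, 22, 23] = true := by decide +kernel
theorem c333 : eqW R 0 3 [24] [22, 22, 22, 23, 23, 22, 22] = true := by decide +kernel
theorem c334 : eqW R 3 3 [24] [22, 22, 22, 23, 23, 22, 22] = true := by decide +kernel
theorem c335 : eqW R 6 3 [24] [22, 22, 22, 23, 23, 22, 22] = true := by decide +kernel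
theorem c336 : eqW R 9 3 [24] [22, 22, 22, 23, 23, 22, 22] = true := by decide +kernel
theorem c337 : eqW R 12 3 [24] [22, 22, 22, 23, 23, 22, 22] = true := by decide +kernel
theorem c338 : eqW R 15 2 [24] [22, 22, 22, 23, 23, 22, 22] = true := by decide +kernel
theorem c339 : eqW R 0 3 [23] [21, 21, 21, 20, 21, 20, 21, 20, 21, 20] = true := by decide +kernel
theorem c340 : eqW R 3 3 [23] [21, 21, 21, 20, 21, 20, 21, 20, 21, 20] = true := by decide +kernel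
theorem c341 : eqW R 6 3 [23] [21, 21, 21, 20, 21, 20, 21, 20, 21, 20] = true := by decide +kernel
theorem c342 : eqW R 9 3 [23] [21, 21, 21, 20, 21, 20, 21, 20, 21, 20] = true := by decide +kernel
theorem c343 : eqW R 12 3 [23] [21, 21, 21, 20, 21, 20, 21, 20, 21, 20] = true := by decide +kernel
theorem c344 : eqW R 15 2 [23] [21, 21, 21, 20, 21, 20, 21, 20, 21, 20] = true := by decide +kernel
theorem c345 : eqW R 0 3 [22] [20, 20, 21, 21, 21, 21, 21, 20, 20, 21, 21, 20, 21, 21, 21, 20] = true := by decide +kernel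
theorem c346 : eqW R 3 3 [22] [20, 20, 21, 21, 21, 21, 21, 20, 20, 21, 21, 20, 21, 21, 21, 20] = true := by decide +kernel
theorem c347 : eqW R 6 3 [22] [20, 20, 21, 21, 21, 21, 21, 20, 20, 21, 21, 20, 21, 21, 21, 20] = true := by decide +kernel
theorem c348 : eqW R 9 3 [22] [20, 20, 21, 21, 21, 21, 21, 20, 20, 21, 21, 20, 21, 21, 21, 20] = true := by decide +kernel
theorem c349 : eqW R 12 3 [22] [20, 20, 21, 21, 21, 21, 21, 20, 20, 21, 21, 20, 21, 21, 21, 20] = true := by decide +kernel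
theorem c350 : eqW R 15 2 [22] [20, 20, 21, 21, 21, 21, 21, 20, 20, 21, 21, 20, 21, 21, 21, 20] = true := by decide +kernel
theorem c351 : eqW R 0 3 [21] [18, 19, 19, 18, 19, 19, 18, 18, 18, 19, 18, 18, 19, 19, 18] = true := by decide +kernel
theorem c352 : eqW R 3 3 [21] [18, 19, 19, 18, 19, 19, 18, 18, 18, 19, 18, 18, 19, 19, 18] = true := by decide +kernel
theorem c353 : eqW R 6 3 [21] [18, 19, 19, 18, 19, 19, 18, 18, 18, 19, 18, 18, 19, 19, 18] = true := by decide +kernel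
theorem c354 : eqW R 9 3 [21] [18, 19, 19, 18, 19, 19, 18, 18, 18, 19, 18, 18, 19, 19, 18] = true := by decide +kernel
theorem c355 : eqW R 12 3 [21] [18, 19, 19, 18, 19, 19, 18, 18, 18, 19, 18, 18, 19, 19, 18] = true := by decide +kernel
theorem c356 : eqW R 15 2 [21] [18, 19, 19, 18, 19, 19, 18, 18, 18, 19, 18, 18, 19, 19, 18] = true := by decide +kernel
theorem c357 : eqW R 0 3 [20] [18, 19, 19, 19, 18, 18, 18, 19, 19, 19, 18] = true := by decide +kernel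
theorem c358 : eqW R 3 3 [20] [18, 19, 19, 19, 18, 18, 18, 19, 19, 19, 18] = true := by decide +kernel
theorem c359 : eqW R 6 3 [20] [18, 19, 19, 19, 18, 18, 18, 19, 19, 19, 18] = true := by decide +kernel
theorem c360 : eqW R 9 3 [20] [18, 19, 19, 19, 18, 18, 18, 19, 19, 19, 18] = true := by decide +kernel
theorem c361 : eqW R 12 3 [20] [18, 19, 19, 19, 18, 18, 18, 19, 19, 19, 18] = true := by decide +kernel
theorem c362 : eqW R 15 2 [20] [18, 19, 19, 19, 18, 18, 18, 19, 19, 19, 18] = true := by decide +kernel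
theorem c363 : eqW R 0 3 [19] [17, 17, 17, 16, 17, 17, 17, 16, 17, 17, 17, 17, 17, 16, 17, 16, 17, 16, 16, 16, 17] = true := by decide +kernel
theorem c364 : eqW R 3 3 [19] [17, 17, 17, 16, 17, 17, 17, 16, 17, 17, 17, 17, 17, 16, 17, 16, 17, 16, 16, 16, 17] = true := by decide +kernel
theorem c365 : eqW R 6 3 [19] [17, 17, 17, 16, 17, 17, 17, 16, 17, 17, 17, 17, 17, 16, 17, 16, 17, 16, 16, 16, 17] = true := by decide +kernel
theorem c366 : eqW R 9 3 [19] [17, 17, 17, 16, 17, 17, 17, 16, 17, 17, 17, 17, 17, 16, 17, 16, 17, 16, 16, 16, 17] = true := by decide +kernel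
theorem c367 : eqW R 12 3 [19] [17, 17, 17, 16, 17, 17, 17, 16, 17, 17, 17, 17, 17, 16, 17, 16, 17, 16, 16, 16, 17] = true := by decide +kernel
theorem c368 : eqW R 15 2 [19] [17, 17, 17, 16, 17, 17, 17, 16, 17, 17, 17, 17, 17, 16, 17, 16, 17, 16, 16, 16, 17] = true := by decide +kernel
theorem c369 : eqW R 0 3 [18] [17, 16, 16, 17, 17, 17, 16, 16, 17, 17, 16, 17, 17, 16, 16, 17, 16, 16, 17, 16, 17, 16] = true := by decide +kernel
theorem c370 : eqW R 3 3 [18] [17, 16, 16, 17, 17, 17, 16, 16, 17, 17, 16, 17, 17, 16, 16, 17, 16, 16, 17, 16, 17, 16] = true := by decide +kernel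
theorem c371 : eqW R 6 3 [18] [17, 16, 16, 17, 17, 17, 16, 16, 17, 17, 16, 17, 17, 16, 16, 17, 16, 16, 17, 16, 17, 16] = true := by decide +kernel
theorem c372 : eqW R 9 3 [18] [17, 16, 16, 17, 17, 17, 16, 16, 17, 17, 16, 17, 17, 16, 16, 17, 16, 16, 17, 16, 17, 16] = true := by decide +kernel
theorem c373 : eqW R 12 3 [18] [17, 16, 16, 17, 17, 17, 16, 16, 17, 17, 16, 17, 17, 16, 16, 17, 16, 16, 17, 16, 17, 16] = true := by decide +kernel
theorem c374 : eqW R 15 2 [18] [17, 16, 16, 17, 17, 17, 16, 16, 17, 17, 16, 17, 17, 16, 16, 17, 16, 16, 17, 16, 17, 16] = true := by decide +kernel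
theorem c375 : eqW R 0 3 [17] [13, 15, 13, 15] = true := by decide +kernel
theorem c376 : eqW R 3 3 [17] [13, 15, 13, 15] = true := by decide +kernel
theorem c377 : eqW R 6 3 [17] [13, 15, 13, 15] = true := by decide +kernel
theorem c378 : eqW R 9 3 [17] [13, 15, 13, 15] = true := by decide +kernel
theorem c379 : eqW R 12 3 [17] [13, 15, 13, 15] = true := by decide +kernel
theorem c380 : eqW R 15 2 [17] [13, 15, 13, 15] = true := by decide +kernel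
theorem c381 : eqW R 0 3 [16] [14, 14, 14, 13] = true := by decide +kernel
theorem c382 : eqW R 3 3 [16] [14, 14, 14, 13] = true := by decide +kernel
theorem c383 : eqW R 6 3 [16] [14, 14, 14, 13] = true := by decide +kernel
theorem c384 : eqW R 9 3 [16] [14, 14, 14, 13] = true := by decide +kernel
theorem c385 : eqW R 12 3 [16] [14, 14, 14, 13] = true := by decide +kernel
theorem c386 : eqW R 15 2 [16] [14, 14, 14, 13] = true := by decide +kernel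
theorem c387 : eqW R 0 3 [15] [2, 0, 2, 1, 0, 2, 0, 1, 2, 0, 1, 2, 1, 2, 1, 2, 1, 3, 4, 4, 3, 3, 3, 4, 3, 4, 3, 3, 4, 3, 4, 4, 3, 4, 3, 6, 6, 6, 5, 6, 6, 5, 6, 5, 6, 5, 6, 6, 6, 7, 8, 8, 7, 8, 7, 7, 8, 9, 10] = true := by decide +kernel
theorem c388 : eqW R 3 3 [15] [2, 0, 2, 1, 0, 2, 0, 1, 2, 0, 1, 2, 1, 2, 1, 2, 1, 3, 4, 4, 3, 3, 3, 4, 3, 4, 3, 3, 4, 3, 4, 4, 3, 4, 3, 6, 6, 6, 5, 6, 6, 5, 6, 5, 6, 5, 6, 6, 6, 7, 8, 8, 7, 8, 7, 7, 8, 9, 10] = true := by decide +kernel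
theorem c389 : eqW R 6 3 [15] [2, 0, 2, 1, 0, 2, 0, 1, 2, 0, 1, 2, 1, 2, 1, 2, 1, 3, 4, 4, 3, 3, 3, 4, 3, 4, 3, 3, 4, 3, 4, 4, 3, 4, 3, 6, 6, 6, 5, 6, 6, 5, 6, 5, 6, 5, 6, 6, 6, 7, 8, 8, 7, 8, 7, 7, 8, 9, 10] = true := by decide +kernel
theorem c390 : eqW R 9 3 [15] [2, 0, 2, 1, 0, 2, 0, 1, 2, 0, 1, 2, 1, 2, 1, 2, 1, 3, 4, 4, 3, 3, 3, 4, 3, 4, 3, 3, 4, 3, 4, 4, 3, 4, 3, 6, 6, 6, 5, 6, 6, 5, 6, 5, 6, 5, 6, 6, 6, 7, 8, 8, 7, 8, 7, 7, 8, 9, 10] = true := by decide +kernel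
theorem c391 : eqW R 12 3 [15] [2, 0, 2, 1, 0, 2, 0, 1, 2, 0, 1, 2, 1, 2, 1, 2, 1, 3, 4, 4, 3, 3, 3, 4, 3, 4, 3, 3, 4, 3, 4, 4, 3, 4, 3, 6, 6, 6, 5, 6, 6, 5, 6, 5, 6, 5, 6, 6, 6, 7, 8, 8, 7, 8, 7, 7, 8, 9, 10] = true := by decide +kernel
theorem c392 : eqW R 15 2 [15] [2, 0, 2, 1, 0, 2, 0, 1, 2, 0, 1, 2, 1, 2, 1, 2, 1, 3, 4, 4, 3, 3, 3, 4, 3, 4, 3, 3, 4, 3, 4, 4, 3, 4, 3, 6, 6, 6, 5, 6, 6, 5, 6, 5, 6, 5, 6, 6, 6, 7, 8, 8, 7, 8, 7, 7, 8, 9, 10] = true := by decide +kernel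
theorem c393 : eqW R 0 3 [14] [1, 2, 0, 2, 1, 0, 1, 0, 1, 0, 1, 0, 2, 0, 1, 3, 3, 4, 4, 3, 3, 4, 3, 4, 4, 3, 3, 3, 4, 3, 3, 3, 6, 5, 6, 5, 6, 5, 6, 5, 5, 7, 8, 8, 8, 7, 7, 7, 7, 7, 8, 7, 7, 9, 10] = true := by decide +kernel
theorem c394 : eqW R 3 3 [14] [1, 2, 0, 2, 1, 0, 1, 0, 1, 0, 1, 0, 2, 0, 1, 3, 3, 4, 4, 3, 3, 4, 3, 4, 4, 3, 3, 3, 4, 3, 3, 3, 6, 5, 6, 5, 6, 5, 6, 5, 5, 7, 8, 8, 8, 7, 7, 7, 7, 7, 8, 7, 7, 9, 10] = true := by decide +kernel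
theorem c395 : eqW R 6 3 [14] [1, 2, 0, 2, 1, 0, 1, 0, 1, 0, 1, 0, 2, 0, 1, 3, 3, 4, 4, 3, 3, 4, 3, 4, 4, 3, 3, 3, 4, 3, 3, 3, 6, 5, 6, 5, 6, 5, 6, 5, 5, 7, 8, 8, 8, 7, 7, 7, 7, 7, 8, 7, 7, 9, 10] = true := by decide +kernel
theorem c396 : eqW R 9 3 [14] [1, 2, 0, 2, 1, 0, 1, 0, 1, 0, 1, 0, 2, 0, 1, 3, 3, 4, 4, 3, 3, 4, 3, 4, 4, 3, 3, 3, 4, 3, 3, 3, 6, 5, 6, 5, 6, 5, 6, 5, 5, 7, 8, 8, 8, 7, 7, 7, 7, 7, 8, 7, 7, 9, 10] = true := by decide +kernel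
theorem c397 : eqW R 12 3 [14] [1, 2, 0, 2, 1, 0, 1, 0, 1, 0, 1, 0, 2, 0, 1, 3, 3, 4, 4, 3, 3, 4, 3, 4, 4, 3, 3, 3, 4, 3, 3, 3, 6, 5, 6, 5, 6, 5, 6, 5, 5, 7, 8, 8, 8, 7, 7, 7, 7, 7, 8, 7, 7, 9, 10] = true := by decide +kernel
end H0.OCo1
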