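import Cfsg.Agent.H0.OCo1.D
set_option maxRecDepth 100000
set_option Elab.async false
set_option linter.unusedSectionVars false
namespace H0.OCo1
open H0 BN 
theorem c398 : eqW R 15 2 [14] [1, 2, 0, 2, 1, 0, 1, 0, 1, 0, 1, 0, 2, 0, 1, 3, 3, 4, 4, 3, 3, 4, 3, 4, 4, 3, 3, 3, 4, 3, 3, 3, 6, 5, 6, 5, 6, 5, 6, 5, 5, 7, 8, 8, 8, 7, 7, 7, 7, 7, 8, 7, 7, 9, 10] = true := by decide +kernel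
theorem c399 : eqW R 0 3 [13] [2, 1, 0, 2, 1, 2, 1, 2, 1, 2, 0, 2, 0, 1, 0, 2, 3, 3, 3, 4, 4, 3, 3, 3, 3, 4, 3, 3, 3, 3, 4, 4, 6, 5, 6, 5, 5, 5, 6, 6, 5, 6, 5, 6, 7, 7, 7, 8, 7, 8, 8, 8, 7, 9] = true := by decide +kernel
theorem c400 : eqW R 3 3 [13] [2, 1, 0, 2, 1, 2, 1, 2, 1, 2, 0, 2, 0, 1, 0, 2, 3, 3, 3, 4, 4, 3, 3, 3, 3, 4, 3, 3, 3, 3, 4, 4, 6, 5, 6, 5, 5, 5, 6, 6, 5, 6, 5, 6, 7, 7, 7, 8, 7, 8, 8, 8, 7, 9] = true := by decide +kernel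
theorem c401 : eqW R 6 3 [13] [2, 1, 0, 2, 1, 2, 1, 2, 1, 2, 0, 2, 0, 1, 0, 2, 3, 3, 3, 4, 4, 3, 3, 3, 3, 4, 3, 3, 3, 3, 4, 4, 6, 5, 6, 5, 5, 5, 6, 6, 5, 6, 5, 6, 7, 7, 7, 8, 7, 8, 8, 8, 7, 9] = true := by decide +kernel
theorem c402 : eqW R 9 3 [13] [2, 1, 0, 2, 1, 2, 1, 2, 1, 2, 0, 2, 0, 1, 0, 2, 3, 3, 3, 4, 4, 3, 3, 3, 3, 4, 3, 3, 3, 3, 4, 4, 6, 5, 6, 5, 5, 5, 6, 6, 5, 6, 5, 6, 7, 7, 7, 8, 7, 8, 8, 8, 7, 9] = true := by decide +kernel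
theorem c403 : eqW R 12 3 [13] [2, 1, 0, 2, 1, 2, 1, 2, 1, 2, 0, 2, 0, 1, 0, 2, 3, 3, 3, 4, 4, 3, 3, 3, 3, 4, 3, 3, 3, 3, 4, 4, 6, 5, 6, 5, 5, 5, 6, 6, 5, 6, 5, 6, 7, 7, 7, 8, 7, 8, 8, 8, 7, 9] = true := by decide +kernel
theorem c404 : eqW R 15 2 [13] [2, 1, 0, 2, 1, 2, 1, 2, 1, 2, 0, 2, 0, 1, 0, 2, 3, 3, 3, 4, 4, 3, 3, 3, 3, 4, 3, 3, 3, 3, 4, 4, 6, 5, 6, 5, 5, 5, 6, 6, 5, 6, 5, 6, 7, 7, 7, 8, 7, 8, 8, 8, 7, 9] = true := by decide +kernel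
end H0.OCo1
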