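import Cfsg.Agent.H0.OCo1.D
set_option maxRecDepth 100000
set_option Elab.async false
set_option linter.unusedSectionVars false
namespace H0.OCo1
open H0 BN 
theorem c114 : pairsB R [276, 27506, 4601, 98279, 0] ((CE.drop 40).take 1) = true := by decide +kernel
theorem c115 : pairsB R [276, 27506, 4601, 98279, 0] ((CE.drop 41).take 1) = true := by decide +kernel
theorem c116 : pairsB R [276, 27506, 4601, 98279, 0] ((CE.drop 42).take 1) = true := by decide +kernel
theorem c117 : pairsB R [276, 27506, 4601, 98279, 0] ((CE.drop 43).take 1) = true := by decide +kernel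
theorem c118 : pairsB R [276, 27506, 4601, 98279, 0] ((CE.drop 44).take 1) = true := by decide +kernel
theorem c119 : pairsB R [276, 27506, 4601, 98279, 0] ((CE.drop 45).take 1) = true := by decide +kernel
theorem c120 : pairsB R [276, 27506, 4601, 98279, 0] ((CE.drop 46).take 1) = true := by decide +kernel
theorem c121 : pairsB R [276, 27506, 4601, 98279, 0] ((CE.drop 47).take 1) = true := by decide +kernel
theorem c122 : pairsB R [276, 27506, 4601, 98279, 0] ((CE.drop 48).take 1) = true := by decide +kernel
theorem c123 : pairsB R [276, 27506, 4601, 98279, 0] ((CE.drop 49).take 1) = true := by decide +kernel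
theorem c124 : pairsB R [276, 27506, 4601, 98279, 0] ((CE.drop 50).take 1) = true := by decide +kernel
theorem c125 : pairsB R [276, 27506, 4601, 98279, 0] ((CE.drop 51).take 2) = true := by decide +kernel
end H0.OCo1
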