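import Cfsg.Agent.H0.OCo1.D
set_option maxRecDepth 100000
set_option Elab.async false
set_option linter.unusedSectionVars false
namespace H0.OCo1
open H0 BN 
theorem c126 : pairsB R [276, 27506, 4601, 98279, 0] ((CE.drop 53).take 1) = true := by decide +kernel
theorem c127 : pairsB R [276, 27506, 4601, 98279, 0] ((CE.drop 54).take 1) = true := by decide +kernel
theorem c128 : pairsB R [276, 27506, 4601, 98279, 0] ((CE.drop 55).take 1) = true := by decide +kernel
theorem c129 : pairsB R [276, 27506, 4601, 98279, 0] ((CE.drop 56).take 1) = true := by decide +kernel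
theorem c130 : pairsB R [276, 27506, 4601, 98279, 0] ((CE.drop 57).take 1) = true := by decide +kernel
theorem c131 : pairsB R [276, 27506, 4601, 98279, 0] ((CE.drop 58).take 2) = true := by decide +kernel
theorem c132 : pairsB R [276, 27506, 4601, 98279, 0] ((CE.drop 60).take 1) = true := by decide +kernel
theorem c133 : pairsB R [276, 27506, 4601, 98279, 0] ((CE.drop 61).take 1) = true := by decide +kernel
theorem c134 : pairsB R [276, 27506, 4601, 98279, 0] ((CE.drop 62).take 1) = true := by decide +kernel
theorem c135 : pairsB R [276, 27506, 4601, 98279, 0] ((CE.drop 63).take 2) = true := by decide +kernel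
end H0.OCo1
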