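import Cfsg.Agent.H0.OCo1.D
set_option maxRecDepth 100000
set_option Elab.async false
set_option linter.unusedSectionVars false
namespace H0.OCo1
open H0 BN 
theorem c136 : pairsB R [276, 27506, 4601, 98279, 0] ((CE.drop 65).take 5) = true := by decide +kernel
theorem c137 : pairsB R [276, 27506, 4601, 98279, 0] ((CE.drop 70).take 6) = true := by decide +kernel
theorem c138 : pairsB R [276, 27506, 4601, 98279, 0] ((CE.drop 76).take 4) = true := by decide +kernel
theorem c139 : pairsB R [276, 27506, 4601, 98279, 0] ((CE.drop 80).take 4) = true := by decide +kernel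
theorem c140 : pairsB R [276, 27506, 4601, 98279, 0] ((CE.drop 84).take 3) = true := by decide +kernel
theorem c141 : pairsB R [276, 27506, 4601, 98279, 0] ((CE.drop 87).take 3) = true := by decide +kernel
theorem c142 : pairsB R [276, 27506, 4601, 98279, 0] ((CE.drop 90).take 3) = true := by decide +kernel
theorem c143 : pairsB R [276, 27506, 4601, 98279, 0] ((CE.drop 93).take 2) = true := by decide +kernel
end H0.OCo1
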