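import Cfsg.Agent.H0.OCo1.D
set_option maxRecDepth 100000
set_option Elab.async false
set_option linter.unusedSectionVars false
namespace H0.OCo1
open H0 BN 
theorem c144 : pairsB R [276, 27506, 4601, 98279, 0] ((CE.drop 95).take 2) = true := by decide +kernel
theorem c145 : pairsB R [276, 27506, 4601, 98279, 0] ((CE.drop 97).take 2) = true := by decide +kernel
theorem c146 : pairsB R [276, 27506, 4601, 98279, 0] ((CE.drop 99).take 2) = true := by decide +kernel
theorem c147 : pairsB R [276, 27506, 4601, 98279, 0] ((CE.drop 101).take 2) = true := by decide +kernel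
theorem c148 : pairsB R [276, 27506, 4601, 98279, 0] ((CE.drop 103).take 2) = true := by decide +kernel
theorem c149 : pairsB R [276, 27506, 4601, 98279, 0] ((CE.drop 105).take 2) = true := by decide +kernel
theorem c150 : pairsB R [276, 27506, 4601, 98279, 0] ((CE.drop 107).take 1) = true := by decide +kernel
theorem c151 : pairsB R [276, 27506, 4601, 98279, 0] ((CE.drop 108).take 2) = true := by decide +kernel
end H0.OCo1
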