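import Cfsg.Agent.H0.OCo1.D
set_option maxRecDepth 100000
set_option Elab.async false
set_option linter.unusedSectionVars false
namespace H0.OCo1
open H0 BN 
theorem c152 : pairsB R [276, 27506, 4601, 98279, 0] ((CE.drop 110).take 2) = true := by decide +kernel
theorem c153 : pairsB R [276, 27506, 4601, 98279, 0] ((CE.drop 112).take 1) = true := by decide +kernel
theorem c154 : pairsB R [276, 27506, 4601, 98279, 0] ((CE.drop 113).take 1) = true := by decide +kernel
theorem c155 : pairsB R [276, 27506, 4601, 98279, 0] ((CE.drop 114).take 1) = true := by decide +kernel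
theorem c156 : pairsB R [276, 27506, 4601, 98279, 0] ((CE.drop 115).take 1) = true := by decide +kernel
theorem c157 : pairsB R [276, 27506, 4601, 98279, 0] ((CE.drop 116).take 1) = true := by decide +kernel
theorem c158 : pairsB R [276, 27506, 4601, 98279, 0] ((CE.drop 117).take 1) = true := by decide +kernel
theorem c159 : pairsB R [276, 27506, 4601, 98279, 0] ((CE.drop 118).take 1) = true := by decide +kernel
theorem c160 : pairsB R [276, 27506, 4601, 98279, 0] ((CE.drop 119).take 1) = true := by decide +kernel
theorem c161 : pairsB R [276, 27506, 4601, 98279, 0] ((CE.drop 120).take 1) = true := by decide +kernel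
theorem c162 : pairsB R [276, 27506, 4601, 98279, 0] ((CE.drop 121).take 1) = true := by decide +kernel
end H0.OCo1
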