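import Cfsg.Agent.H0.OCo1.D
set_option maxRecDepth 100000
set_option Elab.async false
set_option linter.unusedSectionVars false
namespace H0.OCo1
open H0 BN 
theorem c163 : pairsB R [276, 27506, 4601, 98279, 0] ((CE.drop 122).take 1) = true := by decide +kernel
theorem c164 : pairsB R [276, 27506, 4601, 98279, 0] ((CE.drop 123).take 1) = true := by decide +kernel
theorem c165 : pairsB R [276, 27506, 4601, 98279, 0] ((CE.drop 124).take 1) = true := by decide +kernel
theorem c166 : pairsB R [276, 27506, 4601, 98279, 0] ((CE.drop 125).take 1) = true := by decide +kernel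
theorem c167 : pairsB R [276, 27506, 4601, 98279, 0] ((CE.drop 126).take 1) = true := by decide +kernel
theorem c168 : pairsB R [276, 27506, 4601, 98279, 0] ((CE.drop 127).take 1) = true := by decide +kernel
theorem c169 : pairsB R [276, 27506, 4601, 98279, 0] ((CE.drop 128).take 1) = true := by decide +kernel
theorem c170 : pairsB R [276, 27506, 4601, 98279, 0] ((CE.drop 129).take 1) = true := by decide +kernel
theorem c171 : pairsB R [276, 27506, 4601, 98279, 0] ((CE.drop 130).take 1) = true := by decide +kernel
theorem c172 : pairsB R [276, 27506, 4601, 98279, 0] ((CE.drop 131).take 3) = true := by decide +kernel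
end H0.OCo1
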