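import Cfsg.Agent.H0.OCo1.D
set_option maxRecDepth 100000
set_option Elab.async false
set_option linter.unusedSectionVars false
namespace H0.OCo1
open H0 BN 
theorem c173 : pairsB R [276, 27506, 4601, 98279, 0] ((CE.drop 134).take 7) = true := by decide +kernel
theorem c174 : pairsB R [276, 27506, 4601, 98279, 0] ((CE.drop 141).take 4) = true := by decide +kernel
theorem c175 : pairsB R [276, 27506, 4601, 98279, 0] ((CE.drop 145).take 4) = true := by decide +kernel
theorem c176 : pairsB R [276, 27506, 4601, 98279, 0] ((CE.drop 149).take 3) = true := by decide +kernel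
theorem c177 : pairsB R [276, 27506, 4601, 98279, 0] ((CE.drop 152).take 3) = true := by decide +kernel
theorem c178 : pairsB R [276, 27506, 4601, 98279, 0] ((CE.drop 155).take 3) = true := by decide +kernel
theorem c179 : pairsB R [276, 27506, 4601, 98279, 0] ((CE.drop 158).take 2) = true := by decide +kernel
theorem c180 : pairsB R [276, 27506, 4601, 98279, 0] ((CE.drop 160).take 2) = true := by decide +kernel
end H0.OCo1
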