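import Cfsg.Agent.H0.OCo1.D
set_option maxRecDepth 100000
set_option Elab.async false
set_option linter.unusedSectionVars false
namespace H0.OCo1
open H0 BN 
theorem c181 : pairsB R [276, 27506, 4601, 98279, 0] ((CE.drop 162).take 2) = true := by decide +kernel
theorem c182 : pairsB R [276, 27506, 4601, 98279, 0] ((CE.drop 164).take 2) = true := by decide +kernel
theorem c183 : pairsB R [276, 27506, 4601, 98279, 0] ((CE.drop 166).take 2) = true := by decide +kernel
theorem c184 : pairsB R [276, 27506, 4601, 98279, 0] ((CE.drop 168).take 2) = true := by decide +kernel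
theorem c185 : pairsB R [276, 27506, 4601, 98279, 0] ((CE.drop 170).take 2) = true := by decide +kernel
theorem c186 : pairsB R [276, 27506, 4601, 98279, 0] ((CE.drop 172).take 1) = true := by decide +kernel
theorem c187 : pairsB R [276, 27506, 4601, 98279, 0] ((CE.drop 173).take 1) = true := by decide +kernel
theorem c188 : pairsB R [276, 27506, 4601, 98279, 0] ((CE.drop 174).take 2) = true := by decide +kernel
theorem c189 : pairsB R [276, 27506, 4601, 98279, 0] ((CE.drop 176).take 2) = true := by decide +kernel
end H0.OCo1
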