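import Cfsg.Agent.H0.OCo1.K0
import Cfsg.Agent.H0.OCo1.K1
import Cfsg.Agent.H0.OCo1.K2
import Cfsg.Agent.H0.OCo1.K3
import Cfsg.Agent.H0.OCo1.K4
import Cfsg.Agent.H0.OCo1.K5
import Cfsg.Agent.H0.OCo1.K6
import Cfsg.Agent.H0.OCo1.K7
import Cfsg.Agent.H0.OCo1.K8
import Cfsg.Agent.H0.OCo1.K9
import Cfsg.Agent.H0.OCo1.K10
import Cfsg.Agent.H0.OCo1.K11
import Cfsg.Agent.H0.OCo1.K12
import Cfsg.Agent.H0.OCo1.K13
import Cfsg.Agent.H0.OCo1.K14
set_option maxRecDepth 100000
set_option Elab.async false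
set_option linter.unusedSectionVars false
namespace H0.OCo1
open H0 BN 
theorem defs_ok : DefsOK R.p defs 13 := (defsOK_cons (eq_of_bits R (eqb_step R (eqb_step R (eqb_step R (eqb_step R (eqb_step R (eqb_step R (eqb_zero R [13] [2, 1, 0, 2, 1, 2, 1, 2, 1, 2, 0, 2, 0, 1, 0, 2, 3, 3, 3, 4, 4, 3, 3, 3, 3, 4, 3, 3, 3, 3, 4, 4, 6, 5, 6, 5, 5, 5, 6, 6, 5, 6, 5, 6, 7, 7, 7, 8, 7, 8, 8, 8, 7, 9]) c399) c400) c401) c402) c403) c404)) (by decide) (defsOK_cons (eq_of_bits R (eqb_step R (eqb_step R (eqb_step R (eqb_step R (eqb_step R (eqb_step R (eqb_zero R [14] [1, 2, 0, 2, 1, 0, 1, 0, 1, 0, 1, 0, 2, 0, 1, 3, 3, 4, 4, 3, 3, 4, 3, 4, 4, 3, 3, 3, 4, 3, 3, 3, 6, 5, 6, 5, 6, 5, 6, 5, 5, 7, 8, 8, 8, 7, 7, 7, 7, 7, 8, 7, 7, 9, 10]) c393) c394) c395) c396) c397) c398)) (by decide) (defsOK_cons (eq_of_bits R (eqb_step R (eqb_step R (eqb_step R (eqb_step R (eqb_step R (eqb_step R (eqb_zero R [15] [2, 0, 2, 1, 0, 2, 0, 1, 2, 0, 1, 2, 1, 2, 1, 2, 1,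 3, 4, 4, 3, 3, 3, 4, 3, 4, 3, 3, 4, 3, 4, 4, 3, 4, 3, 6, 6, 6, 5, 6, 6, 5, 6, 5, 6, 5, 6, 6, 6, 7, 8, 8, 7, 8, 7, 7, 8, 9, 10]) c387) c388) c389) c390) c391) c392)) (by decide) (defsOK_cons (eq_of_bits R (eqb_step R (eqb_step R (eqb_step R (eqb_step R (eqb_step R (eqb_step R (eqb_zero R [16] [14, 14, 14, 13]) c381) c382) c383) c384) c385) c386)) (by decide) (defsOK_cons (eq_of_bits R (eqb_step R (eqb_step R (eqb_step R (eqb_step R (eqb_step R (eqb_step R (eqb_zero R [17] [13, 15, 13, 15]) c375) c376) c377) c378) c379) c380)) (by decide) (defsOK_cons (eq_of_bits R (eqb_step R (eqb_step R (eqb_step R (eqb_step R (eqb_step R (eqb_step R (eqb_zero R [18] [17, 16, 16, 17, 17, 17, 16, 16, 17, 17, 16, 17, 17, 16, 16, 17, 16, 16, 17, 16, 17, 16]) c369) c370) c371) c372) c373) c374)) (by decide) (defsOK_cons (eq_of_bits R (eqb_step R (eqb_step R (eqb_step R (eqb_step R (eqb_step R (eqb_step R (eqb_zero R [19] [17, 17, 17, 16, 17, 17, 17,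 16, 17, 17, 17, 17, 17, 16, 17, 16, 17, 16, 16, 16, 17]) c363) c364) c365) c366) c367) c368)) (by decide) (defsOK_cons (eq_of_bits R (eqb_step R (eqb_step R (eqb_step R (eqb_step R (eqb_step R (eqb_step R (eqb_zero R [20] [18, 19, 19, 19, 18, 18, 18, 19, 19, 19, 18]) c357) c358) c359) c360) c361) c362)) (by decide) (defsOK_cons (eq_of_bits R (eqb_step R (eqb_step R (eqb_step R (eqb_step R (eqb_step R (eqb_step R (eqb_zero R [21] [18, 19, 19, 18, 19, 19, 18, 18, 18, 19, 18, 18, 19, 19, 18]) c351) c352) c353) c354) c355) c356)) (by decide) (defsOK_cons (eq_of_bits R (eqb_step R (eqb_step R (eqb_step R (eqb_step R (eqb_step R (eqb_step R (eqb_zero R [22] [20, 20, 21, 21, 21, 21, 21, 20, 20, 21, 21, 20, 21, 21, 21, 20]) c345) c346) c347) c348) c349) c350)) (by decide) (defsOK_cons (eq_of_bits R (eqb_step R (eqb_step R (eqb_step R (eqb_step R (eqb_step R (eqb_step R (eqb_zero R [23] [21, 21, 21, 20, 21, 20, 21, 20, 21, 20]) c339) c340)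 c341) c342) c343) c344)) (by decide) (defsOK_cons (eq_of_bits R (eqb_step R (eqb_step R (eqb_step R (eqb_step R (eqb_step R (eqb_step R (eqb_zero R [24] [22, 22, 22, 23, 23, 22, 22]) c333) c334) c335) c336) c337) c338)) (by decide) (defsOK_cons (eq_of_bits R (eqb_step R (eqb_step R (eqb_step R (eqb_step R (eqb_step R (eqb_step R (eqb_zero R [25] [22, 23, 23, 23, 23, 22, 23, 22, 22, 22, 23]) c327) c328) c329) c330) c331) c332)) (by decide) (defsOK_cons (eq_of_bits R (eqb_step R (eqb_step R (eqb_step R (eqb_step R (eqb_step R (eqb_step R (eqb_zero R [26] [24, 24, 25, 25, 24, 25, 24, 25, 24, 25, 24, 25]) c321) c322) c323) c324) c325) c326)) (by decide) (defsOK_cons (eq_of_bits R (eqb_step R (eqb_step R (eqb_step R (eqb_step R (eqb_step R (eqb_step R (eqb_zero R [27] [24, 25, 25, 24, 25, 24, 24, 24, 25]) c315) c316) c317) c318) c319) c320)) (by decide) (defsOK_cons (eq_of_bits R (eqb_step R (eqb_step R (eqb_step R (eqb_step R (eqb_step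 R (eqb_step R (eqb_zero R [28] [26, 27, 26, 26, 26]) c309) c310) c311) c312) c313) c314)) (by decide) (defsOK_cons (eq_of_bits R (eqb_step R (eqb_step R (eqb_step R (eqb_step R (eqb_step R (eqb_step R (eqb_zero R [29] [16, 16, 16, 16, 17, 17, 17, 17, 16, 17, 16, 17, 17, 17, 17, 16]) c303) c304) c305) c306) c307) c308)) (by decide) (defsOK_cons (eq_of_bits R (eqb_step R (eqb_step R (eqb_step R (eqb_step R (eqb_step R (eqb_step R (eqb_zero R [30] [17, 17, 17, 16, 16, 16, 17, 16, 16, 16, 16, 17, 17, 16, 16, 16, 17, 16, 16]) c297) c298) c299) c300) c301) c302)) (by decide) (defsOK_cons (eq_of_bits R (eqb_step R (eqb_step R (eqb_step R (eqb_step R (eqb_step R (eqb_step R (eqb_zero R [31] [29, 30, 30, 29, 29, 30, 30, 29, 30, 30, 29, 29, 30, 30, 30, 30, 29, 29, 29]) c291) c292) c293) c294) c295) c296)) (by decide) (defsOK_cons (eq_of_bits R (eqb_step R (eqb_step R (eqb_step R (eqb_step R (eqb_step R (eqb_step R (eqb_zero R [32] [30, 29,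 30, 29, 30, 30, 30, 29, 30, 29, 29, 30, 30, 29, 30, 29, 30, 29, 30, 29]) c285) c286) c287) c288) c289) c290)) (by decide) (defsOK_cons (eq_of_bits R (eqb_step R (eqb_step R (eqb_step R (eqb_step R (eqb_step R (eqb_step R (eqb_zero R [33] [32, 31, 31, 31, 31, 32, 32, 31, 31, 32]) c279) c280) c281) c282) c283) c284)) (by decide) (defsOK_cons (eq_of_bits R (eqb_step R (eqb_step R (eqb_step R (eqb_step R (eqb_step R (eqb_step R (eqb_zero R [34] [32, 32, 31, 32, 31, 31, 31, 32, 32, 32, 32, 32, 31]) c273) c274) c275) c276) c277) c278)) (by decide) (defsOK_cons (eq_of_bits R (eqb_step R (eqb_step R (eqb_step R (eqb_step R (eqb_step R (eqb_step R (eqb_zero R [35] [34, 33, 34, 34, 34, 33, 33, 34, 33, 33, 33]) c267) c268) c269) c270) c271) c272)) (by decide) (defsOK_cons (eq_of_bits R (eqb_step R (eqb_step R (eqb_step R (eqb_step R (eqb_step R (eqb_step R (eqb_zero R [36] [34, 33, 33, 33, 34, 34, 33, 34, 33, 33, 34]) c261) c262) c263) c264)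 c265) c266)) (by decide) (defsOK_cons (eq_of_bits R (eqb_step R (eqb_step R (eqb_step R (eqb_step R (eqb_step R (eqb_step R (eqb_zero R [37] [35, 35, 36, 35, 36, 35]) c255) c256) c257) c258) c259) c260)) (by decide) (defsOK_cons (eq_of_bits R (eqb_step R (eqb_step R (eqb_step R (eqb_step R (eqb_step R (eqb_step R (eqb_zero R [38] [35, 35, 36, 35, 35, 36]) c249) c250) c251) c252) c253) c254)) (by decide) (defsOK_cons (eq_of_bits R (eqb_step R (eqb_step R (eqb_step R (eqb_step R (eqb_step R (eqb_step R (eqb_zero R [39] [38, 37, 37, 38]) c243) c244) c245) c246) c247) c248)) (by decide) (defsOK_cons (eq_of_bits R (eqb_step R (eqb_step R (eqb_step R (eqb_step R (eqb_step R (eqb_step R (eqb_zero R [40] [37, 38, 37, 37, 37, 37, 38]) c237) c238) c239) c240) c241) c242)) (by decide) (defsOK_cons (eq_of_bits R (eqb_step R (eqb_step R (eqb_step R (eqb_step R (eqb_step R (eqb_step R (eqb_zero R [41] [1, 0, 1, 0, 2, 1, 2, 0, 1, 2, 0, 2, 1, 2,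 1, 3, 4, 4, 3, 3, 4, 3, 3, 4, 3, 4, 3, 4, 3, 3, 3, 4, 3, 4, 6, 5, 5, 5, 6, 5, 6, 6, 5, 6, 6, 6, 6, 6, 8, 7, 8, 8, 7, 7, 8, 7, 7, 7, 8, 7, 7, 10, 9]) c231) c232) c233) c234) c235) c236)) (by decide) (defsOK_cons (eq_of_bits R (eqb_step R (eqb_step R (eqb_step R (eqb_step R (eqb_step R (eqb_step R (eqb_zero R [42] [2, 0, 2, 1, 0, 2, 0, 1, 2, 0, 1, 2, 1, 2, 1, 2, 1, 3, 4, 4, 3, 3, 3, 4, 3, 4, 3, 3, 4, 3, 4, 4, 3, 4, 3, 6, 6, 6, 5, 6, 6, 5, 6, 5, 6, 5, 6, 6, 6, 7, 8, 8, 7, 8, 7, 7, 8, 9, 10]) c225) c226) c227) c228) c229) c230)) (by decide) (defsOK_nil _ _)))))))))))))))))))))))))))))))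
universe u
variable {G : Type u} [Group G] [Finite G] (m0 : Model G) (h0 : m0.R = H6M.MCo1.R)
noncomputable def m : Model G := m0.ext (lg := nat_lit 17) (N := nat_lit 131072) (l := H6M.MCo1.nl) h0 nl nl_ok 13 rfl defs defs_ok (by decide +kernel)
theorem mR : (m m0 h0).R = R := rfl
variable (hb : m0.pst [276, 27506, 4601, 98279, 0] = ⊥) (hc : Nat.card G = 4157776806543360000)
include h0 hb hc
theorem base : (m m0 h0).pst [276, 27506, 4601, 98279, 0] = ⊥ := hb
omit hb hc in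
theorem xch_ok : (m m0 h0).ChainOK xch [] := ((m m0 h0).chain_cons [1, 0, 1, 0, 1, 0, 1, 0, 1, 0, 1, 0, 1, 0, 1, 0, 1, 0, 1, 0, 1, 0, 1, 0, 1, 0, 1, 0, 1] (Model.via _ (mR m0 h0) (fun R => Model.fixP R [] [[16], [17]]) c12) (Model.via _ (mR m0 h0) (fun R => Model.growP R [[16], [17]] [1, 0, 1, 0, 1, 0, 1, 0, 1, 0, 1, 0, 1, 0, 1, 0, 1, 0, 1, 0, 1, 0, 1, 0, 1, 0, 1, 0, 1] 62044 98280) c13) ((m m0 h0).chain_cons [0, 1, 0, 1, 0, 1, 0, 1, 0, 1, 0, 1, 0, 1, 0, 1, 0, 1, 0, 1, 0] (Model.via _ (mR m0 h0) (fun R => Model.fixP R [62044] [[18], [19]]) c10) (Model.via _ (mR m0 h0) (fun R => Model.growP R [[18], [19]] [0, 1, 0, 1, 0, 1, 0, 1, 0, 1, 0, 1, 0, 1, 0, 1, 0, 1, 0, 1, 0] 43881 4600) c11) ((m m0 h0).chain_cons [0, 1, 0, 1, 0, 1, 0, 1, 0, 1, 0, 1, 0, 1, 0, 1, 0, 0] (Model.via _ (mR m0 h0) (fun R => Model.fixP R [43881, 62044] [[20], [21]]) c8) (Model.via _ (mR m0 h0) (fun R => Model.growP R [[20], [21]] [0, 1, 0, 1, 0, 1, 0, 1, 0, 1,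 0, 1, 0, 1, 0, 1, 0, 0] 96435 891) c9) ((m m0 h0).chain_cons [0, 1, 0, 1, 0, 1, 0, 1, 0, 1, 0, 1, 0, 1, 0, 1, 0] (Model.via _ (mR m0 h0) (fun R => Model.fixP R [96435, 43881, 62044] [[22], [23]]) c6) (Model.via _ (mR m0 h0) (fun R => Model.growP R [[22], [23]] [0, 1, 0, 1, 0, 1, 0, 1, 0, 1, 0, 1, 0, 1, 0, 1, 0] 59972 512) c7) ((m m0 h0).chain_cons [0, 1, 0, 1, 0, 1, 0, 1, 0, 1, 0, 1, 0, 1, 0] (Model.via _ (mR m0 h0) (fun R => Model.fixP R [59972, 96435, 43881, 62044] [[24], [25]]) c4) (Model.via _ (mR m0 h0) (fun R => Model.growP R [[24], [25]] [0, 1, 0, 1, 0, 1, 0, 1, 0, 1, 0, 1, 0, 1, 0] 2814 336) c5) ((m m0 h0).chain_cons [0, 0, 1, 0, 0, 1, 0, 0, 1, 0, 0, 1, 0] (Model.via _ (mR m0 h0) (fun R => Model.fixP R [2814, 59972, 96435, 43881, 62044] [[26], [27]]) c2) (Model.via _ (mR m0 h0) (fun R => Model.growP R [[26], [27]] [0, 0, 1, 0, 0, 1, 0, 0, 1, 0, 0, 1, 0] 23931 30) c3) ((m m0 h0).chain_cons [0] (Model.via _ (mR m0 h0) (fun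 R => Model.fixP R [23931, 2814, 59972, 96435, 43881, 62044] [[28]]) c0) (Model.via _ (mR m0 h0) (fun R => Model.growP R [[28]] [0] 8498 2) c1) ((m m0 h0).chain_nil _))))))))
theorem xtop : gen (m m0 h0).g (Model.cgens xch) = ⊤ := (m m0 h0).chain_top (xch_ok m0 h0) (hc.trans (by decide +kernel))
theorem xbdd : (m m0 h0).Bdd := (m m0 h0).bdd_of_top (xtop m0 h0 hb hc)
theorem xot : (m m0 h0).OTOK xOT := ((m m0 h0).otok_cons (xch_ok m0 h0) (hc.trans (by decide +kernel)) 2 rfl (Model.via _ (mR m0 h0) (fun R => Model.invB R (Model.cgens (xch.drop 2)) xO0) c52) ((m m0 h0).otok_cons (xch_ok m0 h0) (hc.trans (by decide +kernel)) 2 rfl (Model.via _ (mR m0 h0) (fun R => Model.invB R (Model.cgens (xch.drop 2)) xO1) c51) ((m m0 h0).otok_cons (xch_ok m0 h0) (hc.trans (by decide +kernel)) 5 rfl (Model.via _ (mR m0 h0) (fun R => Model.invB R (Model.cgens (xch.drop 5)) xO2) c50) ((m m0 h0).otok_cons (xch_ok m0 h0) (hc.trans (by decide +kernel))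 1 rfl (Model.via _ (mR m0 h0) (fun R => Model.invB R (Model.cgens (xch.drop 1)) xO3) c49) ((m m0 h0).otok_cons (xch_ok m0 h0) (hc.trans (by decide +kernel)) 0 rfl (Model.via _ (mR m0 h0) (fun R => Model.invB R (Model.cgens (xch.drop 0)) xO4) c48) (m m0 h0).otok_nil)))))
theorem xcm : ∀ w ∈ xCg, (m m0 h0).Cm [[13]] (ev (m m0 h0).g w) := (m m0 h0).cm_of_pairs (all_take_done (all_take_step (all_take_zero _ (xCg.flatMap fun w => [[13]].map fun y => (w ++ y, y ++ w))) ((m m0 h0).pairs_of (base m0 h0 hb hc) (Model.via _ (mR m0 h0) (fun R => pairsB R [276, 27506, 4601, 98279, 0] (((xCg.flatMap fun w => [[13]].map fun y => (w ++ y, y ++ w)).drop 0).take 1)) c53))) (by decide +kernel))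
theorem xn2 : (m m0 h0).Sol [[13]] xCg [39226, 8498, 23931, 2814, 59972, 96435, 43881, 62044] [39226, 8498, 23931, 2814, 59972, 96435, 43881, 62044] := (m m0 h0).sol_done [1, 2, 3, 4, 5, 6, 7] (((m m0 h0).chain_bot (xch_ok m0 h0) (hc.trans (by decide +kernel))).le.trans bot_le) (by decide +kernel)
theorem xn1 : (m m0 h0).Sol [[13]] xCg [62044] [62044] := (m m0 h0).sol_free (xbdd m0 h0 hb hc) (xcm m0 h0 hb hc) (xot m0 h0 hb hc) ((m m0 h0).excl_zero _ _) (Model.via _ (mR m0 h0) (fun R => freeB R xOT [[13]] xCg [0] [62044] [62044] [] 43881 0 [([], 43881, 3)] [[0]] [0, 0, 0, 0, 0, 0, 0, 0, 0, 0, 0, 0, 0, 0, 0, 0, 0, 0, 0, 0, 0, 0] xc44) c44) ((m m0 h0).solL_leaves (xot m0 h0 hb hc) [0] (Bc := [39226, 8498, 23931, 2814, 59972, 96435, 43881]) (Model.via _ (mR m0 h0) (fun R => cycB R (subst [[13]] [0]) [39226, 8498, 23931, 2814, 59972, 96435, 43881]) c15) (Model.via _ (mR m0 h0) (fun R => allL (leafB R xOT (subst [[13]] [0]) [1, 2, 3,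 4, 5, 6, 7] [39226, 8498, 23931, 2814, 59972, 96435, 43881] [62044] [62044]) xL43) c43) ((m m0 h0).solL_leaves (xot m0 h0 hb hc) [0] (Bc := [39226, 8498, 23931, 2814, 59972, 96435, 43881]) (Model.via _ (mR m0 h0) (fun R => cycB R (subst [[13]] [0]) [39226, 8498, 23931, 2814, 59972, 96435, 43881]) c15) (Model.via _ (mR m0 h0) (fun R => allL (leafB R xOT (subst [[13]] [0]) [1, 2, 3, 4, 5, 6, 7] [39226, 8498, 23931, 2814, 59972, 96435, 43881] [62044] [62044]) xL42) c42) ((m m0 h0).solL_leaves (xot m0 h0 hb hc) [0] (Bc := [39226, 8498, 23931, 2814, 59972, 96435, 43881]) (Model.via _ (mR m0 h0) (fun R => cycB R (subst [[13]] [0]) [39226, 8498, 23931, 2814, 59972, 96435, 43881]) c15) (Model.via _ (mR m0 h0) (fun R => allL (leafB R xOT (subst [[13]] [0]) [1, 2, 3, 4, 5, 6, 7] [39226, 8498, 23931, 2814, 59972, 96435, 43881] [62044] [62044]) xL41) c41) ((m m0 h0).solL_leaves (xot m0 h0 hb hc) [0] (Bc := [39226, 8498, 23931, 2814, 59972,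 96435, 43881]) (Model.via _ (mR m0 h0) (fun R => cycB R (subst [[13]] [0]) [39226, 8498, 23931, 2814, 59972, 96435, 43881]) c15) (Model.via _ (mR m0 h0) (fun R => allL (leafB R xOT (subst [[13]] [0]) [1, 2, 3, 4, 5, 6, 7] [39226, 8498, 23931, 2814, 59972, 96435, 43881] [62044] [62044]) xL40) c40) ((m m0 h0).solL_leaves (xot m0 h0 hb hc) [0] (Bc := [39226, 8498, 23931, 2814, 59972, 96435, 43881]) (Model.via _ (mR m0 h0) (fun R => cycB R (subst [[13]] [0]) [39226, 8498, 23931, 2814, 59972, 96435, 43881]) c15) (Model.via _ (mR m0 h0) (fun R => allL (leafB R xOT (subst [[13]] [0]) [1, 2, 3, 4, 5, 6, 7] [39226, 8498, 23931, 2814, 59972, 96435, 43881] [62044] [62044]) xL39) c39) ((m m0 h0).solL_leaves (xot m0 h0 hb hc) [0] (Bc := [39226, 8498, 23931, 2814, 59972, 96435, 43881]) (Model.via _ (mR m0 h0) (fun R => cycB R (subst [[13]] [0]) [39226, 8498, 23931, 2814, 59972, 96435, 43881]) c15) (Model.via _ (mR m0 h0) (fun R => allL (leafB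 R xOT (subst [[13]] [0]) [1, 2, 3, 4, 5, 6, 7] [39226, 8498, 23931, 2814, 59972, 96435, 43881] [62044] [62044]) xL38) c38) ((m m0 h0).solL_leaves (xot m0 h0 hb hc) [0] (Bc := [39226, 8498, 23931, 2814, 59972, 96435, 43881]) (Model.via _ (mR m0 h0) (fun R => cycB R (subst [[13]] [0]) [39226, 8498, 23931, 2814, 59972, 96435, 43881]) c15) (Model.via _ (mR m0 h0) (fun R => allL (leafB R xOT (subst [[13]] [0]) [1, 2, 3, 4, 5, 6, 7] [39226, 8498, 23931, 2814, 59972, 96435, 43881] [62044] [62044]) xL37) c37) ((m m0 h0).solL_leaves (xot m0 h0 hb hc) [0] (Bc := [39226, 8498, 23931, 2814, 59972, 96435, 43881]) (Model.via _ (mR m0 h0) (fun R => cycB R (subst [[13]] [0]) [39226, 8498, 23931, 2814, 59972, 96435, 43881]) c15) (Model.via _ (mR m0 h0) (fun R => allL (leafB R xOT (subst [[13]] [0]) [1, 2, 3, 4, 5, 6, 7] [39226, 8498, 23931, 2814, 59972, 96435, 43881] [62044] [62044]) xL36) c36) ((m m0 h0).solL_leaves (xot m0 h0 hb hc) [0] (Bc :=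 [39226, 8498, 23931, 2814, 59972, 96435, 43881]) (Model.via _ (mR m0 h0) (fun R => cycB R (subst [[13]] [0]) [39226, 8498, 23931, 2814, 59972, 96435, 43881]) c15) (Model.via _ (mR m0 h0) (fun R => allL (leafB R xOT (subst [[13]] [0]) [1, 2, 3, 4, 5, 6, 7] [39226, 8498, 23931, 2814, 59972, 96435, 43881] [62044] [62044]) xL35) c35) ((m m0 h0).solL_leaves (xot m0 h0 hb hc) [0] (Bc := [39226, 8498, 23931, 2814, 59972, 96435, 43881]) (Model.via _ (mR m0 h0) (fun R => cycB R (subst [[13]] [0]) [39226, 8498, 23931, 2814, 59972, 96435, 43881]) c15) (Model.via _ (mR m0 h0) (fun R => allL (leafB R xOT (subst [[13]] [0]) [1, 2, 3, 4, 5, 6, 7] [39226, 8498, 23931, 2814, 59972, 96435, 43881] [62044] [62044]) xL34) c34) ((m m0 h0).solL_leaves (xot m0 h0 hb hc) [0] (Bc := [39226, 8498, 23931, 2814, 59972, 96435, 43881]) (Model.via _ (mR m0 h0) (fun R => cycB R (subst [[13]] [0]) [39226, 8498, 23931, 2814, 59972, 96435, 43881]) c15) (Model.via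 _ (mR m0 h0) (fun R => allL (leafB R xOT (subst [[13]] [0]) [1, 2, 3, 4, 5, 6, 7] [39226, 8498, 23931, 2814, 59972, 96435, 43881] [62044] [62044]) xL33) c33) ((m m0 h0).solL_leaves (xot m0 h0 hb hc) [0] (Bc := [39226, 8498, 23931, 2814, 59972, 96435, 43881]) (Model.via _ (mR m0 h0) (fun R => cycB R (subst [[13]] [0]) [39226, 8498, 23931, 2814, 59972, 96435, 43881]) c15) (Model.via _ (mR m0 h0) (fun R => allL (leafB R xOT (subst [[13]] [0]) [1, 2, 3, 4, 5, 6, 7] [39226, 8498, 23931, 2814, 59972, 96435, 43881] [62044] [62044]) xL32) c32) ((m m0 h0).solL_leaves (xot m0 h0 hb hc) [0] (Bc := [39226, 8498, 23931, 2814, 59972, 96435, 43881]) (Model.via _ (mR m0 h0) (fun R => cycB R (subst [[13]] [0]) [39226, 8498, 23931, 2814, 59972, 96435, 43881]) c15) (Model.via _ (mR m0 h0) (fun R => allL (leafB R xOT (subst [[13]] [0]) [1, 2, 3, 4, 5, 6, 7] [39226, 8498, 23931, 2814, 59972, 96435, 43881] [62044] [62044]) xL31) c31) ((m m0 h0).solL_leaves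 (xot m0 h0 hb hc) [0] (Bc := [39226, 8498, 23931, 2814, 59972, 96435, 43881]) (Model.via _ (mR m0 h0) (fun R => cycB R (subst [[13]] [0]) [39226, 8498, 23931, 2814, 59972, 96435, 43881]) c15) (Model.via _ (mR m0 h0) (fun R => allL (leafB R xOT (subst [[13]] [0]) [1, 2, 3, 4, 5, 6, 7] [39226, 8498, 23931, 2814, 59972, 96435, 43881] [62044] [62044]) xL30) c30) ((m m0 h0).solL_leaves (xot m0 h0 hb hc) [0] (Bc := [39226, 8498, 23931, 2814, 59972, 96435, 43881]) (Model.via _ (mR m0 h0) (fun R => cycB R (subst [[13]] [0]) [39226, 8498, 23931, 2814, 59972, 96435, 43881]) c15) (Model.via _ (mR m0 h0) (fun R => allL (leafB R xOT (subst [[13]] [0]) [1, 2, 3, 4, 5, 6, 7] [39226, 8498, 23931, 2814, 59972, 96435, 43881] [62044] [62044]) xL29) c29) ((m m0 h0).solL_leaves (xot m0 h0 hb hc) [0] (Bc := [39226, 8498, 23931, 2814, 59972, 96435, 43881]) (Model.via _ (mR m0 h0) (fun R => cycB R (subst [[13]] [0]) [39226, 8498, 23931, 2814, 59972, 96435,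 43881]) c15) (Model.via _ (mR m0 h0) (fun R => allL (leafB R xOT (subst [[13]] [0]) [1, 2, 3, 4, 5, 6, 7] [39226, 8498, 23931, 2814, 59972, 96435, 43881] [62044] [62044]) xL28) c28) ((m m0 h0).solL_leaves (xot m0 h0 hb hc) [0] (Bc := [39226, 8498, 23931, 2814, 59972, 96435, 43881]) (Model.via _ (mR m0 h0) (fun R => cycB R (subst [[13]] [0]) [39226, 8498, 23931, 2814, 59972, 96435, 43881]) c15) (Model.via _ (mR m0 h0) (fun R => allL (leafB R xOT (subst [[13]] [0]) [1, 2, 3, 4, 5, 6, 7] [39226, 8498, 23931, 2814, 59972, 96435, 43881] [62044] [62044]) xL27) c27) ((m m0 h0).solL_leaves (xot m0 h0 hb hc) [0] (Bc := [39226, 8498, 23931, 2814, 59972, 96435, 43881]) (Model.via _ (mR m0 h0) (fun R => cycB R (subst [[13]] [0]) [39226, 8498, 23931, 2814, 59972, 96435, 43881]) c15) (Model.via _ (mR m0 h0) (fun R => allL (leafB R xOT (subst [[13]] [0]) [1, 2, 3, 4, 5, 6, 7] [39226, 8498, 23931, 2814, 59972, 96435, 43881] [62044] [62044]) xL26)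 c26) ((m m0 h0).solL_leaves (xot m0 h0 hb hc) [0] (Bc := [39226, 8498, 23931, 2814, 59972, 96435, 43881]) (Model.via _ (mR m0 h0) (fun R => cycB R (subst [[13]] [0]) [39226, 8498, 23931, 2814, 59972, 96435, 43881]) c15) (Model.via _ (mR m0 h0) (fun R => allL (leafB R xOT (subst [[13]] [0]) [1, 2, 3, 4, 5, 6, 7] [39226, 8498, 23931, 2814, 59972, 96435, 43881] [62044] [62044]) xL25) c25) ((m m0 h0).solL_leaves (xot m0 h0 hb hc) [0] (Bc := [39226, 8498, 23931, 2814, 59972, 96435, 43881]) (Model.via _ (mR m0 h0) (fun R => cycB R (subst [[13]] [0]) [39226, 8498, 23931, 2814, 59972, 96435, 43881]) c15) (Model.via _ (mR m0 h0) (fun R => allL (leafB R xOT (subst [[13]] [0]) [1, 2, 3, 4, 5, 6, 7] [39226, 8498, 23931, 2814, 59972, 96435, 43881] [62044] [62044]) xL24) c24) ((m m0 h0).solL_leaves (xot m0 h0 hb hc) [0] (Bc := [39226, 8498, 23931, 2814, 59972, 96435, 43881]) (Model.via _ (mR m0 h0) (fun R => cycB R (subst [[13]] [0]) [39226,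 8498, 23931, 2814, 59972, 96435, 43881]) c15) (Model.via _ (mR m0 h0) (fun R => allL (leafB R xOT (subst [[13]] [0]) [1, 2, 3, 4, 5, 6, 7] [39226, 8498, 23931, 2814, 59972, 96435, 43881] [62044] [62044]) xL23) c23) ((m m0 h0).solL_leaves (xot m0 h0 hb hc) [0] (Bc := [39226, 8498, 23931, 2814, 59972, 96435, 43881]) (Model.via _ (mR m0 h0) (fun R => cycB R (subst [[13]] [0]) [39226, 8498, 23931, 2814, 59972, 96435, 43881]) c15) (Model.via _ (mR m0 h0) (fun R => allL (leafB R xOT (subst [[13]] [0]) [1, 2, 3, 4, 5, 6, 7] [39226, 8498, 23931, 2814, 59972, 96435, 43881] [62044] [62044]) xL22) c22) ((m m0 h0).solL_leaves (xot m0 h0 hb hc) [0] (Bc := [39226, 8498, 23931, 2814, 59972, 96435, 43881]) (Model.via _ (mR m0 h0) (fun R => cycB R (subst [[13]] [0]) [39226, 8498, 23931, 2814, 59972, 96435, 43881]) c15) (Model.via _ (mR m0 h0) (fun R => allL (leafB R xOT (subst [[13]] [0]) [1, 2, 3, 4, 5, 6, 7] [39226, 8498, 23931, 2814, 59972, 96435,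 43881] [62044] [62044]) xL21) c21) ((m m0 h0).solL_leaves (xot m0 h0 hb hc) [0] (Bc := [39226, 8498, 23931, 2814, 59972, 96435, 43881]) (Model.via _ (mR m0 h0) (fun R => cycB R (subst [[13]] [0]) [39226, 8498, 23931, 2814, 59972, 96435, 43881]) c15) (Model.via _ (mR m0 h0) (fun R => allL (leafB R xOT (subst [[13]] [0]) [1, 2, 3, 4, 5, 6, 7] [39226, 8498, 23931, 2814, 59972, 96435, 43881] [62044] [62044]) xL20) c20) ((m m0 h0).solL_leaves (xot m0 h0 hb hc) [0] (Bc := [39226, 8498, 23931, 2814, 59972, 96435, 43881]) (Model.via _ (mR m0 h0) (fun R => cycB R (subst [[13]] [0]) [39226, 8498, 23931, 2814, 59972, 96435, 43881]) c15) (Model.via _ (mR m0 h0) (fun R => allL (leafB R xOT (subst [[13]] [0]) [1, 2, 3, 4, 5, 6, 7] [39226, 8498, 23931, 2814, 59972, 96435, 43881] [62044] [62044]) xL19) c19) ((m m0 h0).solL_leaves (xot m0 h0 hb hc) [0] (Bc := [39226, 8498, 23931, 2814, 59972, 96435, 43881]) (Model.via _ (mR m0 h0) (fun R => cycB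 R (subst [[13]] [0]) [39226, 8498, 23931, 2814, 59972, 96435, 43881]) c15) (Model.via _ (mR m0 h0) (fun R => allL (leafB R xOT (subst [[13]] [0]) [1, 2, 3, 4, 5, 6, 7] [39226, 8498, 23931, 2814, 59972, 96435, 43881] [62044] [62044]) xL18) c18) ((m m0 h0).solL_leaves (xot m0 h0 hb hc) [0] (Bc := [39226, 8498, 23931, 2814, 59972, 96435, 43881]) (Model.via _ (mR m0 h0) (fun R => cycB R (subst [[13]] [0]) [39226, 8498, 23931, 2814, 59972, 96435, 43881]) c15) (Model.via _ (mR m0 h0) (fun R => allL (leafB R xOT (subst [[13]] [0]) [1, 2, 3, 4, 5, 6, 7] [39226, 8498, 23931, 2814, 59972, 96435, 43881] [62044] [62044]) xL17) c17) ((m m0 h0).solL_cons ((m m0 h0).sol_cyc [0] (Bc := [39226, 8498, 23931, 2814, 59972, 96435, 43881]) (T := [39226, 8498, 23931, 2814, 59972, 96435, 43881]) rfl (Model.via _ (mR m0 h0) (fun R => cycB R (subst [[13]] [0]) [39226, 8498, 23931, 2814, 59972, 96435, 43881]) c15) (Model.via _ (mR m0 h0) (fun R => cycB R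 (subst [[13]] [0]) [39226, 8498, 23931, 2814, 59972, 96435, 43881]) c16) (xn2 m0 h0 hb hc)) (m m0 h0).solL_nil))))))))))))))))))))))))))))
theorem xn0 : (m m0 h0).Sol [[13]] xCg [] [] := (m m0 h0).sol_free (xbdd m0 h0 hb hc) (xcm m0 h0 hb hc) (xot m0 h0 hb hc) ((m m0 h0).excl_mov (xbdd m0 h0 hb hc) [0] (Model.via _ (mR m0 h0) (fun R => exclB R (subst [[13]] [0]) 62044 xD0) c46)) (Model.via _ (mR m0 h0) (fun R => freeB R xOT [[13]] xCg [] [] [] [] 62044 xD0 [([], 62044, 4)] [[0]] [] xc47) c47) ((m m0 h0).solL_cons ((m m0 h0).sol_cyc [] (Bc := [62044]) (T := [62044]) rfl (Model.via _ (mR m0 h0) (fun R => cycB R (subst [[13]] []) [62044]) c14) (Model.via _ (mR m0 h0) (fun R => cycB R (subst [[13]] []) [62044]) c45) (xn1 m0 h0 hb hc)) (m m0 h0).solL_nil)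
theorem xsol : (m m0 h0).Sol [[13]] xCg [] [] := xn0 m0 h0 hb hc
omit hb hc in
theorem ych_ok : (m m0 h0).ChainOK ych [] := ((m m0 h0).chain_cons [0, 1, 0, 1, 0, 1, 0, 1, 0, 1, 0, 1, 0, 1, 0, 1, 0, 1, 0, 1, 0, 1, 0, 1, 0, 1, 0, 1] (Model.via _ (mR m0 h0) (fun R => Model.fixP R [] [[16], [17]]) c66) (Model.via _ (mR m0 h0) (fun R => Model.growP R [[16], [17]] [0, 1, 0, 1, 0, 1, 0, 1, 0, 1, 0, 1, 0, 1, 0, 1, 0, 1, 0, 1, 0, 1, 0, 1, 0, 1, 0, 1] 82577 98280) c67) ((m m0 h0).chain_cons [0, 1, 0, 1, 0, 1, 0, 1, 0, 1, 0, 1, 0, 1, 0, 1, 0, 1, 0, 1, 0, 1, 0, 1, 0, 0] (Model.via _ (mR m0 h0) (fun R => Model.fixP R [82577] [[29], [30]]) c64) (Model.via _ (mR m0 h0) (fun R => Model.growP R [[29], [30]] [0, 1, 0, 1, 0, 1, 0, 1, 0, 1, 0, 1, 0, 1, 0, 1, 0, 1, 0, 1, 0, 1, 0, 1, 0, 0] 10662 46575) c65) ((m m0 h0).chain_cons [0, 1, 0, 1, 0, 1, 0, 1, 0, 1, 0, 1, 0, 1, 0, 1, 0, 1, 0, 0] (Model.via _ (mR m0 h0) (fun R => Model.fixP R [10662, 82577]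 [[31], [32]]) c62) (Model.via _ (mR m0 h0) (fun R => Model.growP R [[31], [32]] [0, 1, 0, 1, 0, 1, 0, 1, 0, 1, 0, 1, 0, 1, 0, 1, 0, 1, 0, 0] 34845 2048) c63) ((m m0 h0).chain_cons [0, 1, 0, 1, 0, 1, 0, 1, 0, 1, 0, 1, 0, 1, 0, 1, 0] (Model.via _ (mR m0 h0) (fun R => Model.fixP R [34845, 10662, 82577] [[33], [34]]) c60) (Model.via _ (mR m0 h0) (fun R => Model.growP R [[33], [34]] [0, 1, 0, 1, 0, 1, 0, 1, 0, 1, 0, 1, 0, 1, 0, 1, 0] 62044 672) c61) ((m m0 h0).chain_cons [0, 1, 0, 0, 0, 0, 1] (Model.via _ (mR m0 h0) (fun R => Model.fixP R [62044, 34845, 10662, 82577] [[35], [36]]) c58) (Model.via _ (mR m0 h0) (fun R => Model.growP R [[35], [36]] [0, 1, 0, 0, 0, 0, 1] 43099 11) c59) ((m m0 h0).chain_cons [0, 1, 0, 0, 0] (Model.via _ (mR m0 h0) (fun R => Model.fixP R [43099, 62044, 34845, 10662, 82577] [[37], [38]]) c56) (Model.via _ (mR m0 h0) (fun R => Model.growP R [[37], [38]] [0, 1, 0, 0, 0] 35921 10) c57) ((m m0 h0).chain_cons [0,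 1, 0] (Model.via _ (mR m0 h0) (fun R => Model.fixP R [35921, 43099, 62044, 34845, 10662, 82577] [[39], [40]]) c54) (Model.via _ (mR m0 h0) (fun R => Model.growP R [[39], [40]] [0, 1, 0] 83406 6) c55) ((m m0 h0).chain_nil _))))))))
theorem ytop : gen (m m0 h0).g (Model.cgens ych) = ⊤ := (m m0 h0).chain_top (ych_ok m0 h0) (hc.trans (by decide +kernel))
theorem ybdd : (m m0 h0).Bdd := (m m0 h0).bdd_of_top (ytop m0 h0 hb hc)
theorem yot : (m m0 h0).OTOK yOT := ((m m0 h0).otok_cons (ych_ok m0 h0) (hc.trans (by decide +kernel)) 4 rfl (Model.via _ (mR m0 h0) (fun R => Model.invB R (Model.cgens (ych.drop 4)) yO0) c97) ((m m0 h0).otok_cons (ych_ok m0 h0) (hc.trans (by decide +kernel)) 3 rfl (Model.via _ (mR m0 h0) (fun R => Model.invB R (Model.cgens (ych.drop 3)) yO1) c96) ((m m0 h0).otok_cons (ych_ok m0 h0) (hc.trans (by decide +kernel)) 6 rfl (Model.via _ (mR m0 h0) (fun R => Model.invB R (Model.cgens (ych.drop 6)) yO2) c95) ((m m0 h0).otok_cons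 (ych_ok m0 h0) (hc.trans (by decide +kernel)) 2 rfl (Model.via _ (mR m0 h0) (fun R => Model.invB R (Model.cgens (ych.drop 2)) yO3) c94) ((m m0 h0).otok_cons (ych_ok m0 h0) (hc.trans (by decide +kernel)) 1 rfl (Model.via _ (mR m0 h0) (fun R => Model.invB R (Model.cgens (ych.drop 1)) yO4) c93) ((m m0 h0).otok_cons (ych_ok m0 h0) (hc.trans (by decide +kernel)) 0 rfl (Model.via _ (mR m0 h0) (fun R => Model.invB R (Model.cgens (ych.drop 0)) yO5) c92) (m m0 h0).otok_nil))))))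
theorem ycm : ∀ w ∈ yCg, (m m0 h0).Cm [[14]] (ev (m m0 h0).g w) := (m m0 h0).cm_of_pairs (all_take_done (all_take_step (all_take_zero _ (yCg.flatMap fun w => [[14]].map fun y => (w ++ y, y ++ w))) ((m m0 h0).pairs_of (base m0 h0 hb hc) (Model.via _ (mR m0 h0) (fun R => pairsB R [276, 27506, 4601, 98279, 0] (((yCg.flatMap fun w => [[14]].map fun y => (w ++ y, y ++ w)).drop 0).take 3)) c98))) (by decide +kernel))
theorem yn5 : (m m0 h0).Sol [[14]] yCg [85247, 83406, 35921, 43099, 62044, 34845, 10662, 82577] [85247, 83406, 35921, 43099, 62044, 34845, 10662, 82577] := (m m0 h0).sol_done [1, 2, 3, 4, 5, 6, 7] (((m m0 h0).chain_bot (ych_ok m0 h0) (hc.trans (by decide +kernel))).le.trans bot_le) (by decide +kernel)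
theorem yn4 : (m m0 h0).Sol [[14]] yCg [62044, 34845, 10662, 82577] [62044, 34845, 10662, 82577] := (m m0 h0).sol_free (ybdd m0 h0 hb hc) (ycm m0 h0 hb hc) (yot m0 h0 hb hc) ((m m0 h0).excl_zero _ _) (Model.via _ (mR m0 h0) (fun R => freeB R yOT [[14]] yCg [0, 1, 2, 3] [62044, 34845, 10662, 82577] [62044, 34845, 10662, 82577] [] 43099 0 [([], 43099, 0)] [[0]] [0, 0, 0, 0, 0, 0, 0, 0, 0, 0] yc74) c74) ((m m0 h0).solL_cons ((m m0 h0).sol_cyc [0] (Bc := [85247, 83406, 35921, 43099]) (T := [85247, 83406, 35921, 43099]) rfl (Model.via _ (mR m0 h0) (fun R => cycB R (subst [[14]] [0]) [85247, 83406, 35921, 43099]) c72) (Model.via _ (mR m0 h0) (fun R => cycB R (subst [[14]] [0]) [85247, 83406, 35921, 43099]) c73) (yn5 m0 h0 hb hc)) (m m0 h0).solL_nil)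
theorem yn3 : (m m0 h0).Sol [[14]] yCg [34845, 10662, 82577] [34845, 10662, 82577] := (m m0 h0).sol_free (ybdd m0 h0 hb hc) (ycm m0 h0 hb hc) (yot m0 h0 hb hc) ((m m0 h0).excl_mov (ybdd m0 h0 hb hc) [0] (Model.via _ (mR m0 h0) (fun R => exclB R (subst [[14]] [0]) 62044 yD3) c76)) (Model.via _ (mR m0 h0) (fun R => freeB R yOT [[14]] yCg [0, 1, 2] [34845, 10662, 82577] [34845, 10662, 82577] [] 62044 yD3 [([], 62044, 1)] [[0]] [] yc77) c77) ((m m0 h0).solL_cons ((m m0 h0).sol_cyc [] (Bc := [62044]) (T := [62044]) rfl (Model.via _ (mR m0 h0) (fun R => cycB R (subst [[14]] []) [62044]) c71) (Model.via _ (mR m0 h0) (fun R => cycB R (subst [[14]] []) [62044]) c75) (yn4 m0 h0 hb hc)) (m m0 h0).solL_nil)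
theorem yn7 : (m m0 h0).Sol [[14]] yCg [62044, 34845, 10662, 82577] [77927, 81856, 10662, 82577] := (m m0 h0).sol_free (ybdd m0 h0 hb hc) (ycm m0 h0 hb hc) (yot m0 h0 hb hc) ((m m0 h0).excl_zero _ _) (Model.via _ (mR m0 h0) (fun R => freeB R yOT [[14]] yCg [0, 1, 2, 3] [62044, 34845, 10662, 82577] [77927, 81856, 10662, 82577] [33, 34, 34, 34, 34, 33, 33, 34, 33, 33, 31, 32, 32, 31, 31, 31, 32, 32, 31, 31, 32] 43099 0 [([], 43099, 0)] [[0]] [0, 0, 0, 0, 0, 0, 0, 0, 0, 0] yc80) c80) ((m m0 h0).solL_leaves (yot m0 h0 hb hc) [0] (Bc := [85247, 83406, 35921, 43099]) (Model.via _ (mR m0 h0) (fun R => cycB R (subst [[14]] [0]) [85247, 83406, 35921, 43099]) c72) (Model.via _ (mR m0 h0) (fun R => allL (leafB R yOT (subst [[14]] [0]) [1, 2, 3, 4, 5, 6, 7] [85247, 83406, 35921, 43099] [62044, 34845, 10662, 82577] [77927, 81856, 10662, 82577]) yL79) c79) (m m0 h0).solL_nil)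
theorem yn6 : (m m0 h0).Sol [[14]] yCg [34845, 10662, 82577] [81856, 10662, 82577] := (m m0 h0).sol_free (ybdd m0 h0 hb hc) (ycm m0 h0 hb hc) (yot m0 h0 hb hc) ((m m0 h0).excl_mov (ybdd m0 h0 hb hc) [0] (Model.via _ (mR m0 h0) (fun R => exclB R (subst [[14]] [0]) 62044 yD3) c76)) (Model.via _ (mR m0 h0) (fun R => freeB R yOT [[14]] yCg [0, 1, 2] [34845, 10662, 82577] [81856, 10662, 82577] [31, 32, 32, 31, 31, 31, 32, 32, 31, 31, 32] 62044 yD3 [([], 62044, 1)] [[0]] [] yc82) c82) ((m m0 h0).solL_cons ((m m0 h0).sol_cyc [] (Bc := [62044]) (T := [77927]) rfl (Model.via _ (mR m0 h0) (fun R => cycB R (subst [[14]] []) [62044]) c71) (Model.via _ (mR m0 h0) (fun R => cycB R (subst [[14]] []) [77927]) c81) (yn7 m0 h0 hb hc)) (m m0 h0).solL_nil)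
theorem yn2 : (m m0 h0).Sol [[14]] yCg [10662, 82577] [10662, 82577] := (m m0 h0).sol_free (ybdd m0 h0 hb hc) (ycm m0 h0 hb hc) (yot m0 h0 hb hc) ((m m0 h0).excl_mov (ybdd m0 h0 hb hc) [0] (Model.via _ (mR m0 h0) (fun R => exclB R (subst [[14]] [0]) 34845 yD2) c84)) (Model.via _ (mR m0 h0) (fun R => freeB R yOT [[14]] yCg [0, 1] [10662, 82577] [10662, 82577] [] 34845 yD2 [([], 34845, 3)] [[0]] [] yc85) c85) ((m m0 h0).solL_cons ((m m0 h0).sol_cyc [] (Bc := [34845]) (T := [81856]) rfl (Model.via _ (mR m0 h0) (fun R => cycB R (subst [[14]] []) [34845]) c70) (Model.via _ (mR m0 h0) (fun R => cycB R (subst [[14]] []) [81856]) c83) (yn6 m0 h0 hb hc)) ((m m0 h0).solL_cons ((m m0 h0).sol_cyc [] (Bc := [34845]) (T := [34845]) rfl (Model.via _ (mR m0 h0) (fun R => cycB R (subst [[14]] []) [34845]) c70) (Model.via _ (mR m0 h0) (fun R => cycB R (subst [[14]] []) [34845]) c78) (yn3 m0 h0 hb hc)) (m m0 h0).solL_nil))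
theorem yn1 : (m m0 h0).Sol [[14]] yCg [82577] [82577] := (m m0 h0).sol_free (ybdd m0 h0 hb hc) (ycm m0 h0 hb hc) (yot m0 h0 hb hc) ((m m0 h0).excl_mov (ybdd m0 h0 hb hc) [0] (Model.via _ (mR m0 h0) (fun R => exclB R (subst [[14]] [0]) 10662 yD1) c87)) (Model.via _ (mR m0 h0) (fun R => freeB R yOT [[14]] yCg [0] [82577] [82577] [] 10662 yD1 [([], 10662, 4)] [[0]] [] yc88) c88) ((m m0 h0).solL_cons ((m m0 h0).sol_cyc [] (Bc := [10662]) (T := [10662]) rfl (Model.via _ (mR m0 h0) (fun R => cycB R (subst [[14]] []) [10662]) c69) (Model.via _ (mR m0 h0) (fun R => cycB R (subst [[14]] []) [10662]) c86) (yn2 m0 h0 hb hc)) (m m0 h0).solL_nil)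
theorem yn0 : (m m0 h0).Sol [[14]] yCg [] [] := (m m0 h0).sol_free (ybdd m0 h0 hb hc) (ycm m0 h0 hb hc) (yot m0 h0 hb hc) ((m m0 h0).excl_mov (ybdd m0 h0 hb hc) [0] (Model.via _ (mR m0 h0) (fun R => exclB R (subst [[14]] [0]) 82577 yD0) c90)) (Model.via _ (mR m0 h0) (fun R => freeB R yOT [[14]] yCg [] [] [] [] 82577 yD0 [([], 82577, 5)] [[0], [1], [2]] [1, 2, 1] yc91) c91) ((m m0 h0).solL_cons ((m m0 h0).sol_cyc [] (Bc := [82577]) (T := [82577]) rfl (Model.via _ (mR m0 h0) (fun R => cycB R (subst [[14]] []) [82577]) c68) (Model.via _ (mR m0 h0) (fun R => cycB R (subst [[14]] []) [82577]) c89) (yn1 m0 h0 hb hc)) (m m0 h0).solL_nil)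
theorem ysol : (m m0 h0).Sol [[14]] yCg [] [] := yn0 m0 h0 hb hc
theorem inj : Function.Injective (m m0 h0).φ := (m m0 h0).inj_of_base (base m0 h0 hb hc)
theorem gtop : gen (m m0 h0).g ([13, 14, 15].map fun x => [x]) = ⊤ :=
  top_of_marks ((m m0 h0).defsOK_g (inj m0 h0 hb hc) ((mR m0 h0).symm ▸ defs_ok)) _ (xtop m0 h0 hb hc) (by decide +kernel)
theorem cl : ∀ k ∈ Subgroup.centralizer {ev (m m0 h0).g [14]}, ∃ w ∈ CL, k = ev (m m0 h0).g w := fun k hk =>
  list_closed (all_take_done (all_take_step (all_take_step (all_take_step (all_take_step (all_take_step (all_take_step (all_take_step (all_take_step (all_take_step (all_take_step (all_take_step (all_take_step (all_take_step (all_take_step (all_take_step (all_take_step (all_take_step (all_take_step (all_take_step (all_take_step (all_take_step (all_take_step (all_take_step (all_take_step (all_take_step (all_take_step (all_take_step (all_take_step (all_take_step (all_take_step (all_take_step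 (all_take_step (all_take_step (all_take_step (all_take_step (all_take_step (all_take_step (all_take_step (all_take_step (all_take_step (all_take_step (all_take_step (all_take_step (all_take_step (all_take_step (all_take_step (all_take_step (all_take_step (all_take_step (all_take_step (all_take_step (all_take_step (all_take_step (all_take_step (all_take_step (all_take_step (all_take_step (all_take_step (all_take_step (all_take_step (all_take_step (all_take_step (all_take_step (all_take_step (all_take_step (all_take_step (all_take_step (all_take_step (all_take_step (all_take_step (all_take_step (all_take_step (all_take_step (all_take_step (all_take_step (all_take_step (all_take_step (all_take_step (all_take_step (all_take_step (all_take_step (all_take_step (all_take_step (all_take_step (all_take_step (all_take_step (all_take_step (all_take_step (all_take_step (all_take_step (all_take_step (all_take_step (all_take_step (all_take_step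 (all_take_step (all_take_step (all_take_step (all_take_step (all_take_step (all_take_step (all_take_step (all_take_step (all_take_step (all_take_step (all_take_step (all_take_step (all_take_step (all_take_step (all_take_step (all_take_step (all_take_step (all_take_zero _ CE) ((m m0 h0).pairs_of (base m0 h0 hb hc) (Model.via _ (mR m0 h0) (fun R => pairsB R [276, 27506, 4601, 98279, 0] ((CE.drop 0).take 7)) c99))) ((m m0 h0).pairs_of (base m0 h0 hb hc) (Model.via _ (mR m0 h0) (fun R => pairsB R [276, 27506, 4601, 98279, 0] ((CE.drop 7).take 4)) c100))) ((m m0 h0).pairs_of (base m0 h0 hb hc) (Model.via _ (mR m0 h0) (fun R => pairsB R [276, 27506, 4601, 98279, 0] ((CE.drop 11).take 4)) c101))) ((m m0 h0).pairs_of (base m0 h0 hb hc) (Model.via _ (mR m0 h0) (fun R => pairsB R [276, 27506, 4601, 98279, 0] ((CE.drop 15).take 3)) c102))) ((m m0 h0).pairs_of (base m0 h0 hb hc) (Model.via _ (mR m0 h0) (fun R => pairsB R [276, 27506, 4601,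 98279, 0] ((CE.drop 18).take 3)) c103))) ((m m0 h0).pairs_of (base m0 h0 hb hc) (Model.via _ (mR m0 h0) (fun R => pairsB R [276, 27506, 4601, 98279, 0] ((CE.drop 21).take 2)) c104))) ((m m0 h0).pairs_of (base m0 h0 hb hc) (Model.via _ (mR m0 h0) (fun R => pairsB R [276, 27506, 4601, 98279, 0] ((CE.drop 23).take 2)) c105))) ((m m0 h0).pairs_of (base m0 h0 hb hc) (Model.via _ (mR m0 h0) (fun R => pairsB R [276, 27506, 4601, 98279, 0] ((CE.drop 25).take 2)) c106))) ((m m0 h0).pairs_of (base m0 h0 hb hc) (Model.via _ (mR m0 h0) (fun R => pairsB R [276, 27506, 4601, 98279, 0] ((CE.drop 27).take 2)) c107))) ((m m0 h0).pairs_of (base m0 h0 hb hc) (Model.via _ (mR m0 h0) (fun R => pairsB R [276, 27506, 4601, 98279, 0] ((CE.drop 29).take 2)) c108))) ((m m0 h0).pairs_of (base m0 h0 hb hc) (Model.via _ (mR m0 h0) (fun R => pairsB R [276, 27506, 4601, 98279, 0] ((CE.drop 31).take 2)) c109))) ((m m0 h0).pairs_of (base m0 h0 hb hc) (Model.via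 _ (mR m0 h0) (fun R => pairsB R [276, 27506, 4601, 98279, 0] ((CE.drop 33).take 2)) c110))) ((m m0 h0).pairs_of (base m0 h0 hb hc) (Model.via _ (mR m0 h0) (fun R => pairsB R [276, 27506, 4601, 98279, 0] ((CE.drop 35).take 2)) c111))) ((m m0 h0).pairs_of (base m0 h0 hb hc) (Model.via _ (mR m0 h0) (fun R => pairsB R [276, 27506, 4601, 98279, 0] ((CE.drop 37).take 2)) c112))) ((m m0 h0).pairs_of (base m0 h0 hb hc) (Model.via _ (mR m0 h0) (fun R => pairsB R [276, 27506, 4601, 98279, 0] ((CE.drop 39).take 1)) c113))) ((m m0 h0).pairs_of (base m0 h0 hb hc) (Model.via _ (mR m0 h0) (fun R => pairsB R [276, 27506, 4601, 98279, 0] ((CE.drop 40).take 1)) c114))) ((m m0 h0).pairs_of (base m0 h0 hb hc) (Model.via _ (mR m0 h0) (fun R => pairsB R [276, 27506, 4601, 98279, 0] ((CE.drop 41).take 1)) c115))) ((m m0 h0).pairs_of (base m0 h0 hb hc) (Model.via _ (mR m0 h0) (fun R => pairsB R [276, 27506, 4601, 98279, 0] ((CE.drop 42).take 1)) c116)))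 ((m m0 h0).pairs_of (base m0 h0 hb hc) (Model.via _ (mR m0 h0) (fun R => pairsB R [276, 27506, 4601, 98279, 0] ((CE.drop 43).take 1)) c117))) ((m m0 h0).pairs_of (base m0 h0 hb hc) (Model.via _ (mR m0 h0) (fun R => pairsB R [276, 27506, 4601, 98279, 0] ((CE.drop 44).take 1)) c118))) ((m m0 h0).pairs_of (base m0 h0 hb hc) (Model.via _ (mR m0 h0) (fun R => pairsB R [276, 27506, 4601, 98279, 0] ((CE.drop 45).take 1)) c119))) ((m m0 h0).pairs_of (base m0 h0 hb hc) (Model.via _ (mR m0 h0) (fun R => pairsB R [276, 27506, 4601, 98279, 0] ((CE.drop 46).take 1)) c120))) ((m m0 h0).pairs_of (base m0 h0 hb hc) (Model.via _ (mR m0 h0) (fun R => pairsB R [276, 27506, 4601, 98279, 0] ((CE.drop 47).take 1)) c121))) ((m m0 h0).pairs_of (base m0 h0 hb hc) (Model.via _ (mR m0 h0) (fun R => pairsB R [276, 27506, 4601, 98279, 0] ((CE.drop 48).take 1)) c122))) ((m m0 h0).pairs_of (base m0 h0 hb hc) (Model.via _ (mR m0 h0) (fun R => pairsB R [276, 27506,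 4601, 98279, 0] ((CE.drop 49).take 1)) c123))) ((m m0 h0).pairs_of (base m0 h0 hb hc) (Model.via _ (mR m0 h0) (fun R => pairsB R [276, 27506, 4601, 98279, 0] ((CE.drop 50).take 1)) c124))) ((m m0 h0).pairs_of (base m0 h0 hb hc) (Model.via _ (mR m0 h0) (fun R => pairsB R [276, 27506, 4601, 98279, 0] ((CE.drop 51).take 2)) c125))) ((m m0 h0).pairs_of (base m0 h0 hb hc) (Model.via _ (mR m0 h0) (fun R => pairsB R [276, 27506, 4601, 98279, 0] ((CE.drop 53).take 1)) c126))) ((m m0 h0).pairs_of (base m0 h0 hb hc) (Model.via _ (mR m0 h0) (fun R => pairsB R [276, 27506, 4601, 98279, 0] ((CE.drop 54).take 1)) c127))) ((m m0 h0).pairs_of (base m0 h0 hb hc) (Model.via _ (mR m0 h0) (fun R => pairsB R [276, 27506, 4601, 98279, 0] ((CE.drop 55).take 1)) c128))) ((m m0 h0).pairs_of (base m0 h0 hb hc) (Model.via _ (mR m0 h0) (fun R => pairsB R [276, 27506, 4601, 98279, 0] ((CE.drop 56).take 1)) c129))) ((m m0 h0).pairs_of (base m0 h0 hb hc) (Model.via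 _ (mR m0 h0) (fun R => pairsB R [276, 27506, 4601, 98279, 0] ((CE.drop 57).take 1)) c130))) ((m m0 h0).pairs_of (base m0 h0 hb hc) (Model.via _ (mR m0 h0) (fun R => pairsB R [276, 27506, 4601, 98279, 0] ((CE.drop 58).take 2)) c131))) ((m m0 h0).pairs_of (base m0 h0 hb hc) (Model.via _ (mR m0 h0) (fun R => pairsB R [276, 27506, 4601, 98279, 0] ((CE.drop 60).take 1)) c132))) ((m m0 h0).pairs_of (base m0 h0 hb hc) (Model.via _ (mR m0 h0) (fun R => pairsB R [276, 27506, 4601, 98279, 0] ((CE.drop 61).take 1)) c133))) ((m m0 h0).pairs_of (base m0 h0 hb hc) (Model.via _ (mR m0 h0) (fun R => pairsB R [276, 27506, 4601, 98279, 0] ((CE.drop 62).take 1)) c134))) ((m m0 h0).pairs_of (base m0 h0 hb hc) (Model.via _ (mR m0 h0) (fun R => pairsB R [276, 27506, 4601, 98279, 0] ((CE.drop 63).take 2)) c135))) ((m m0 h0).pairs_of (base m0 h0 hb hc) (Model.via _ (mR m0 h0) (fun R => pairsB R [276, 27506, 4601, 98279, 0] ((CE.drop 65).take 5)) c136)))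 ((m m0 h0).pairs_of (base m0 h0 hb hc) (Model.via _ (mR m0 h0) (fun R => pairsB R [276, 27506, 4601, 98279, 0] ((CE.drop 70).take 6)) c137))) ((m m0 h0).pairs_of (base m0 h0 hb hc) (Model.via _ (mR m0 h0) (fun R => pairsB R [276, 27506, 4601, 98279, 0] ((CE.drop 76).take 4)) c138))) ((m m0 h0).pairs_of (base m0 h0 hb hc) (Model.via _ (mR m0 h0) (fun R => pairsB R [276, 27506, 4601, 98279, 0] ((CE.drop 80).take 4)) c139))) ((m m0 h0).pairs_of (base m0 h0 hb hc) (Model.via _ (mR m0 h0) (fun R => pairsB R [276, 27506, 4601, 98279, 0] ((CE.drop 84).take 3)) c140))) ((m m0 h0).pairs_of (base m0 h0 hb hc) (Model.via _ (mR m0 h0) (fun R => pairsB R [276, 27506, 4601, 98279, 0] ((CE.drop 87).take 3)) c141))) ((m m0 h0).pairs_of (base m0 h0 hb hc) (Model.via _ (mR m0 h0) (fun R => pairsB R [276, 27506, 4601, 98279, 0] ((CE.drop 90).take 3)) c142))) ((m m0 h0).pairs_of (base m0 h0 hb hc) (Model.via _ (mR m0 h0) (fun R => pairsB R [276, 27506,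 4601, 98279, 0] ((CE.drop 93).take 2)) c143))) ((m m0 h0).pairs_of (base m0 h0 hb hc) (Model.via _ (mR m0 h0) (fun R => pairsB R [276, 27506, 4601, 98279, 0] ((CE.drop 95).take 2)) c144))) ((m m0 h0).pairs_of (base m0 h0 hb hc) (Model.via _ (mR m0 h0) (fun R => pairsB R [276, 27506, 4601, 98279, 0] ((CE.drop 97).take 2)) c145))) ((m m0 h0).pairs_of (base m0 h0 hb hc) (Model.via _ (mR m0 h0) (fun R => pairsB R [276, 27506, 4601, 98279, 0] ((CE.drop 99).take 2)) c146))) ((m m0 h0).pairs_of (base m0 h0 hb hc) (Model.via _ (mR m0 h0) (fun R => pairsB R [276, 27506, 4601, 98279, 0] ((CE.drop 101).take 2)) c147))) ((m m0 h0).pairs_of (base m0 h0 hb hc) (Model.via _ (mR m0 h0) (fun R => pairsB R [276, 27506, 4601, 98279, 0] ((CE.drop 103).take 2)) c148))) ((m m0 h0).pairs_of (base m0 h0 hb hc) (Model.via _ (mR m0 h0) (fun R => pairsB R [276, 27506, 4601, 98279, 0] ((CE.drop 105).take 2)) c149))) ((m m0 h0).pairs_of (base m0 h0 hb hc) (Model.via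 _ (mR m0 h0) (fun R => pairsB R [276, 27506, 4601, 98279, 0] ((CE.drop 107).take 1)) c150))) ((m m0 h0).pairs_of (base m0 h0 hb hc) (Model.via _ (mR m0 h0) (fun R => pairsB R [276, 27506, 4601, 98279, 0] ((CE.drop 108).take 2)) c151))) ((m m0 h0).pairs_of (base m0 h0 hb hc) (Model.via _ (mR m0 h0) (fun R => pairsB R [276, 27506, 4601, 98279, 0] ((CE.drop 110).take 2)) c152))) ((m m0 h0).pairs_of (base m0 h0 hb hc) (Model.via _ (mR m0 h0) (fun R => pairsB R [276, 27506, 4601, 98279, 0] ((CE.drop 112).take 1)) c153))) ((m m0 h0).pairs_of (base m0 h0 hb hc) (Model.via _ (mR m0 h0) (fun R => pairsB R [276, 27506, 4601, 98279, 0] ((CE.drop 113).take 1)) c154))) ((m m0 h0).pairs_of (base m0 h0 hb hc) (Model.via _ (mR m0 h0) (fun R => pairsB R [276, 27506, 4601, 98279, 0] ((CE.drop 114).take 1)) c155))) ((m m0 h0).pairs_of (base m0 h0 hb hc) (Model.via _ (mR m0 h0) (fun R => pairsB R [276, 27506, 4601, 98279, 0] ((CE.drop 115).take 1))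 c156))) ((m m0 h0).pairs_of (base m0 h0 hb hc) (Model.via _ (mR m0 h0) (fun R => pairsB R [276, 27506, 4601, 98279, 0] ((CE.drop 116).take 1)) c157))) ((m m0 h0).pairs_of (base m0 h0 hb hc) (Model.via _ (mR m0 h0) (fun R => pairsB R [276, 27506, 4601, 98279, 0] ((CE.drop 117).take 1)) c158))) ((m m0 h0).pairs_of (base m0 h0 hb hc) (Model.via _ (mR m0 h0) (fun R => pairsB R [276, 27506, 4601, 98279, 0] ((CE.drop 118).take 1)) c159))) ((m m0 h0).pairs_of (base m0 h0 hb hc) (Model.via _ (mR m0 h0) (fun R => pairsB R [276, 27506, 4601, 98279, 0] ((CE.drop 119).take 1)) c160))) ((m m0 h0).pairs_of (base m0 h0 hb hc) (Model.via _ (mR m0 h0) (fun R => pairsB R [276, 27506, 4601, 98279, 0] ((CE.drop 120).take 1)) c161))) ((m m0 h0).pairs_of (base m0 h0 hb hc) (Model.via _ (mR m0 h0) (fun R => pairsB R [276, 27506, 4601, 98279, 0] ((CE.drop 121).take 1)) c162))) ((m m0 h0).pairs_of (base m0 h0 hb hc) (Model.via _ (mR m0 h0) (fun R => pairsB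 R [276, 27506, 4601, 98279, 0] ((CE.drop 122).take 1)) c163))) ((m m0 h0).pairs_of (base m0 h0 hb hc) (Model.via _ (mR m0 h0) (fun R => pairsB R [276, 27506, 4601, 98279, 0] ((CE.drop 123).take 1)) c164))) ((m m0 h0).pairs_of (base m0 h0 hb hc) (Model.via _ (mR m0 h0) (fun R => pairsB R [276, 27506, 4601, 98279, 0] ((CE.drop 124).take 1)) c165))) ((m m0 h0).pairs_of (base m0 h0 hb hc) (Model.via _ (mR m0 h0) (fun R => pairsB R [276, 27506, 4601, 98279, 0] ((CE.drop 125).take 1)) c166))) ((m m0 h0).pairs_of (base m0 h0 hb hc) (Model.via _ (mR m0 h0) (fun R => pairsB R [276, 27506, 4601, 98279, 0] ((CE.drop 126).take 1)) c167))) ((m m0 h0).pairs_of (base m0 h0 hb hc) (Model.via _ (mR m0 h0) (fun R => pairsB R [276, 27506, 4601, 98279, 0] ((CE.drop 127).take 1)) c168))) ((m m0 h0).pairs_of (base m0 h0 hb hc) (Model.via _ (mR m0 h0) (fun R => pairsB R [276, 27506, 4601, 98279, 0] ((CE.drop 128).take 1)) c169))) ((m m0 h0).pairs_of (base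 m0 h0 hb hc) (Model.via _ (mR m0 h0) (fun R => pairsB R [276, 27506, 4601, 98279, 0] ((CE.drop 129).take 1)) c170))) ((m m0 h0).pairs_of (base m0 h0 hb hc) (Model.via _ (mR m0 h0) (fun R => pairsB R [276, 27506, 4601, 98279, 0] ((CE.drop 130).take 1)) c171))) ((m m0 h0).pairs_of (base m0 h0 hb hc) (Model.via _ (mR m0 h0) (fun R => pairsB R [276, 27506, 4601, 98279, 0] ((CE.drop 131).take 3)) c172))) ((m m0 h0).pairs_of (base m0 h0 hb hc) (Model.via _ (mR m0 h0) (fun R => pairsB R [276, 27506, 4601, 98279, 0] ((CE.drop 134).take 7)) c173))) ((m m0 h0).pairs_of (base m0 h0 hb hc) (Model.via _ (mR m0 h0) (fun R => pairsB R [276, 27506, 4601, 98279, 0] ((CE.drop 141).take 4)) c174))) ((m m0 h0).pairs_of (base m0 h0 hb hc) (Model.via _ (mR m0 h0) (fun R => pairsB R [276, 27506, 4601, 98279, 0] ((CE.drop 145).take 4)) c175))) ((m m0 h0).pairs_of (base m0 h0 hb hc) (Model.via _ (mR m0 h0) (fun R => pairsB R [276, 27506, 4601, 98279, 0]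 ((CE.drop 149).take 3)) c176))) ((m m0 h0).pairs_of (base m0 h0 hb hc) (Model.via _ (mR m0 h0) (fun R => pairsB R [276, 27506, 4601, 98279, 0] ((CE.drop 152).take 3)) c177))) ((m m0 h0).pairs_of (base m0 h0 hb hc) (Model.via _ (mR m0 h0) (fun R => pairsB R [276, 27506, 4601, 98279, 0] ((CE.drop 155).take 3)) c178))) ((m m0 h0).pairs_of (base m0 h0 hb hc) (Model.via _ (mR m0 h0) (fun R => pairsB R [276, 27506, 4601, 98279, 0] ((CE.drop 158).take 2)) c179))) ((m m0 h0).pairs_of (base m0 h0 hb hc) (Model.via _ (mR m0 h0) (fun R => pairsB R [276, 27506, 4601, 98279, 0] ((CE.drop 160).take 2)) c180))) ((m m0 h0).pairs_of (base m0 h0 hb hc) (Model.via _ (mR m0 h0) (fun R => pairsB R [276, 27506, 4601, 98279, 0] ((CE.drop 162).take 2)) c181))) ((m m0 h0).pairs_of (base m0 h0 hb hc) (Model.via _ (mR m0 h0) (fun R => pairsB R [276, 27506, 4601, 98279, 0] ((CE.drop 164).take 2)) c182))) ((m m0 h0).pairs_of (base m0 h0 hb hc) (Model.via _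 (mR m0 h0) (fun R => pairsB R [276, 27506, 4601, 98279, 0] ((CE.drop 166).take 2)) c183))) ((m m0 h0).pairs_of (base m0 h0 hb hc) (Model.via _ (mR m0 h0) (fun R => pairsB R [276, 27506, 4601, 98279, 0] ((CE.drop 168).take 2)) c184))) ((m m0 h0).pairs_of (base m0 h0 hb hc) (Model.via _ (mR m0 h0) (fun R => pairsB R [276, 27506, 4601, 98279, 0] ((CE.drop 170).take 2)) c185))) ((m m0 h0).pairs_of (base m0 h0 hb hc) (Model.via _ (mR m0 h0) (fun R => pairsB R [276, 27506, 4601, 98279, 0] ((CE.drop 172).take 1)) c186))) ((m m0 h0).pairs_of (base m0 h0 hb hc) (Model.via _ (mR m0 h0) (fun R => pairsB R [276, 27506, 4601, 98279, 0] ((CE.drop 173).take 1)) c187))) ((m m0 h0).pairs_of (base m0 h0 hb hc) (Model.via _ (mR m0 h0) (fun R => pairsB R [276, 27506, 4601, 98279, 0] ((CE.drop 174).take 2)) c188))) ((m m0 h0).pairs_of (base m0 h0 hb hc) (Model.via _ (mR m0 h0) (fun R => pairsB R [276, 27506, 4601, 98279, 0] ((CE.drop 176).take 2)) c189)))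 ((m m0 h0).pairs_of (base m0 h0 hb hc) (Model.via _ (mR m0 h0) (fun R => pairsB R [276, 27506, 4601, 98279, 0] ((CE.drop 178).take 1)) c190))) ((m m0 h0).pairs_of (base m0 h0 hb hc) (Model.via _ (mR m0 h0) (fun R => pairsB R [276, 27506, 4601, 98279, 0] ((CE.drop 179).take 1)) c191))) ((m m0 h0).pairs_of (base m0 h0 hb hc) (Model.via _ (mR m0 h0) (fun R => pairsB R [276, 27506, 4601, 98279, 0] ((CE.drop 180).take 1)) c192))) ((m m0 h0).pairs_of (base m0 h0 hb hc) (Model.via _ (mR m0 h0) (fun R => pairsB R [276, 27506, 4601, 98279, 0] ((CE.drop 181).take 1)) c193))) ((m m0 h0).pairs_of (base m0 h0 hb hc) (Model.via _ (mR m0 h0) (fun R => pairsB R [276, 27506, 4601, 98279, 0] ((CE.drop 182).take 1)) c194))) ((m m0 h0).pairs_of (base m0 h0 hb hc) (Model.via _ (mR m0 h0) (fun R => pairsB R [276, 27506, 4601, 98279, 0] ((CE.drop 183).take 1)) c195))) ((m m0 h0).pairs_of (base m0 h0 hb hc) (Model.via _ (mR m0 h0) (fun R => pairsB R [276,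 27506, 4601, 98279, 0] ((CE.drop 184).take 1)) c196))) ((m m0 h0).pairs_of (base m0 h0 hb hc) (Model.via _ (mR m0 h0) (fun R => pairsB R [276, 27506, 4601, 98279, 0] ((CE.drop 185).take 1)) c197))) ((m m0 h0).pairs_of (base m0 h0 hb hc) (Model.via _ (mR m0 h0) (fun R => pairsB R [276, 27506, 4601, 98279, 0] ((CE.drop 186).take 1)) c198))) ((m m0 h0).pairs_of (base m0 h0 hb hc) (Model.via _ (mR m0 h0) (fun R => pairsB R [276, 27506, 4601, 98279, 0] ((CE.drop 187).take 1)) c199))) ((m m0 h0).pairs_of (base m0 h0 hb hc) (Model.via _ (mR m0 h0) (fun R => pairsB R [276, 27506, 4601, 98279, 0] ((CE.drop 188).take 1)) c200))) ((m m0 h0).pairs_of (base m0 h0 hb hc) (Model.via _ (mR m0 h0) (fun R => pairsB R [276, 27506, 4601, 98279, 0] ((CE.drop 189).take 1)) c201))) ((m m0 h0).pairs_of (base m0 h0 hb hc) (Model.via _ (mR m0 h0) (fun R => pairsB R [276, 27506, 4601, 98279, 0] ((CE.drop 190).take 1)) c202))) ((m m0 h0).pairs_of (base m0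 h0 hb hc) (Model.via _ (mR m0 h0) (fun R => pairsB R [276, 27506, 4601, 98279, 0] ((CE.drop 191).take 1)) c203))) ((m m0 h0).pairs_of (base m0 h0 hb hc) (Model.via _ (mR m0 h0) (fun R => pairsB R [276, 27506, 4601, 98279, 0] ((CE.drop 192).take 1)) c204))) ((m m0 h0).pairs_of (base m0 h0 hb hc) (Model.via _ (mR m0 h0) (fun R => pairsB R [276, 27506, 4601, 98279, 0] ((CE.drop 193).take 1)) c205))) ((m m0 h0).pairs_of (base m0 h0 hb hc) (Model.via _ (mR m0 h0) (fun R => pairsB R [276, 27506, 4601, 98279, 0] ((CE.drop 194).take 1)) c206))) ((m m0 h0).pairs_of (base m0 h0 hb hc) (Model.via _ (mR m0 h0) (fun R => pairsB R [276, 27506, 4601, 98279, 0] ((CE.drop 195).take 1)) c207))) ((m m0 h0).pairs_of (base m0 h0 hb hc) (Model.via _ (mR m0 h0) (fun R => pairsB R [276, 27506, 4601, 98279, 0] ((CE.drop 196).take 1)) c208))) ((m m0 h0).pairs_of (base m0 h0 hb hc) (Model.via _ (mR m0 h0) (fun R => pairsB R [276, 27506, 4601, 98279, 0] ((CE.drop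 197).take 1)) c209))) (by decide +kernel)) (by decide +kernel) k ((m m0 h0).cent_le (ysol m0 h0 hb hc) hk)
theorem ocl : (m m0 h0).OutCl 13 14 15 [(1, [])] :=
  (m m0 h0).outCl (r := 23) (t := 2) (s := 11) (e := 1) (n := 1) (K := [1, 5]) (RL := RL) (EL := EL) hc (by decide +kernel) (by decide +kernel)
    (all_take_done (all_take_step (all_take_step (all_take_step (all_take_zero _ (Model.outE 13 14 15 [14] 23 2 1 1 RL)) ((m m0 h0).pairs_of (base m0 h0 hb hc) (Model.via _ (mR m0 h0) (fun R => pairsB R [276, 27506, 4601, 98279, 0] (((Model.outE 13 14 15 [14] 23 2 1 1 RL).drop 0).take 3)) c210))) ((m m0 h0).pairs_of (base m0 h0 hb hc) (Model.via _ (mR m0 h0) (fun R => pairsB R [276, 27506, 4601, 98279, 0] (((Model.outE 13 14 15 [14] 23 2 1 1 RL).drop 3).take 2)) c211))) ((m m0 h0).pairs_of (base m0 h0 hb hc) (Model.via _ (mR m0 h0) (fun R => pairsB R [276, 27506, 4601, 98279, 0] (((Model.outE 13 14 15 [14] 23 2 1 1 RL).drop 5).take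 1)) c212))) (by decide +kernel)) ((m m0 h0).ne_of_neB (Model.via _ (mR m0 h0) (fun R => neB R [13] [] 0 54306 0) c213)) (xsol m0 h0 hb hc) (cl m0 h0 hb hc)
    (by decide +kernel) (by decide +kernel) (all_take_done (all_take_step (all_take_step (all_take_step (all_take_step (all_take_step (all_take_step (all_take_step (all_take_step (all_take_step (all_take_step (all_take_step (all_take_zero _ EL) (allL_spec (Model.via _ (mR m0 h0) (fun R => allL (elimB R 13 14 15 RL [(1, [])]) ((EL.drop 0).take 14)) c214))) (allL_spec (Model.via _ (mR m0 h0) (fun R => allL (elimB R 13 14 15 RL [(1, [])]) ((EL.drop 14).take 22)) c215))) (allL_spec (Model.via _ (mR m0 h0) (fun R => allL (elimB R 13 14 15 RL [(1, [])]) ((EL.drop 36).take 15)) c216))) (allL_spec (Model.via _ (mR m0 h0) (fun R => allL (elimB R 13 14 15 RL [(1, [])]) ((EL.drop 51).take 12)) c217))) (allL_spec (Model.via _ (mR m0 h0) (fun R => allL (elimB R 13 14 15 RL [(1, [])]) ((EL.drop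 63).take 5)) c218))) (allL_spec (Model.via _ (mR m0 h0) (fun R => allL (elimB R 13 14 15 RL [(1, [])]) ((EL.drop 68).take 3)) c219))) (allL_spec (Model.via _ (mR m0 h0) (fun R => allL (elimB R 13 14 15 RL [(1, [])]) ((EL.drop 71).take 17)) c220))) (allL_spec (Model.via _ (mR m0 h0) (fun R => allL (elimB R 13 14 15 RL [(1, [])]) ((EL.drop 88).take 19)) c221))) (allL_spec (Model.via _ (mR m0 h0) (fun R => allL (elimB R 13 14 15 RL [(1, [])]) ((EL.drop 107).take 13)) c222))) (allL_spec (Model.via _ (mR m0 h0) (fun R => allL (elimB R 13 14 15 RL [(1, [])]) ((EL.drop 120).take 11)) c223))) (allL_spec (Model.via _ (mR m0 h0) (fun R => allL (elimB R 13 14 15 RL [(1, [])]) ((EL.drop 131).take 1)) c224))) (by decide +kernel))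
theorem out : Nat.card (Cfsg.Out G) = 1 := (m m0 h0).out_one (gtop m0 h0 hb hc) (ocl m0 h0 hb hc)
end H0.OCo1
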